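import Cfsg.Agent.Lib.EqualOrderE8.Minimal

/-!
The groups of automorphisms induced on the elementary Sylow two-subgroup by its normalisers in the
group and in the simple normal subgroup.
-/

set_option autoImplicit false
set_option linter.unusedSectionVars false
set_option linter.style.haveILetI false

namespace CfsgLib.EqualOrderE8

open Subgroup
open CfsgLib.StrongEmbedding.ElementaryCentralizers (normT)

universe u

/-! ### A prime-order automorphism of a group of order one more than the prime -/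

theorem fixed_eq_one {X : Type u} [Group X] [Finite X] {n p : ℕ} [hp : Fact p.Prime]
    (hX : Nat.card X = 2 ^ n) (hpn : p = 2 ^ n - 1) {r : MulAut X} (hr : orderOf r = p) {x : X}
    (hx : r x = x) : x = 1 := by
  classical
  set R := zpowers r
  have hR : IsPGroup p R := IsPGroup.of_card (n := 1) (by rw [Nat.card_zpowers, hr, pow_one])
  let F : Subgroup X := (r : MulAut X).toMonoidHom.eqLocus (MonoidHom.id X)
  have hmod := hR.card_modEq_card_fixedPoints X
  have hfix : Nat.card (MulAction.fixedPoints R X) = Nat.card F := by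
    refine Nat.card_congr (Equiv.subtypeEquivRight fun y => ⟨fun h => ?_, fun h => ?_⟩)
    · exact h ⟨r, mem_zpowers r⟩
    · rintro ⟨s, hs⟩
      have : r ∈ MulAction.stabilizer (MulAut X) y := h
      exact (zpowers_le.2 this) hs
  have hFne : F ≠ ⊤ := fun e => by
    have h1 : r = 1 := MulEquiv.ext fun y => (e ▸ mem_top y : y ∈ F)
    rw [h1, orderOf_one] at hr
    exact hp.out.one_lt.ne hr
  have hXp : IsPGroup 2 X := IsPGroup.of_card hX
  haveI : Fact (Nat.Prime 2) := ⟨Nat.prime_two⟩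
  obtain ⟨k, hk⟩ := IsPGroup.iff_card.1 (hXp.to_subgroup F)
  have h2n : 0 < 2 ^ n := Nat.two_pow_pos n
  have hkn : k < n := by
    have h1 : Nat.card F ∣ Nat.card X := F.card_subgroup_dvd_card
    rw [hk, hX, Nat.pow_dvd_pow_iff_le_right (by norm_num)] at h1
    refine lt_of_le_of_ne h1 fun e => hFne (Subgroup.eq_top_of_card_eq _ ?_)
    rw [hk, hX, e]
  have hle : 2 ^ k * 2 ≤ 2 ^ n := by
    rw [← pow_succ]; exact Nat.pow_le_pow_right (by norm_num) hkn
  rw [hfix, hX, hk] at hmod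
  have hp2 := hp.out.two_le
  have h3 : 2 ^ k < p := by omega
  have h4 : 2 ^ n % p = 1 := by
    rw [show 2 ^ n = p + 1 by omega, Nat.add_mod_left, Nat.mod_eq_of_lt hp.out.one_lt]
  rw [Nat.ModEq, h4, Nat.mod_eq_of_lt h3] at hmod
  have hbot : F = ⊥ := Subgroup.card_eq_one.1 (by rw [hk, ← hmod])
  have hxF : x ∈ F := hx
  rwa [hbot, mem_bot] at hxF

theorem transitive_zpowers {X : Type u} [Group X] [Finite X] {n p : ℕ} [hp : Fact p.Prime]
    (hX : Nat.card X = 2 ^ n) (hpn : p = 2 ^ n - 1) {r : MulAut X} (hr : orderOf r = p) {x y : X}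
    (hx : x ≠ 1) (hy : y ≠ 1) : ∃ s ∈ zpowers r, s x = y := by
  classical
  set R := zpowers r
  have hR : IsPGroup p R := IsPGroup.of_card (n := 1) (by rw [Nat.card_zpowers, hr, pow_one])
  suffices h : MulAction.orbit R x = ({1} : Set X)ᶜ by
    obtain ⟨s, hs⟩ : y ∈ MulAction.orbit R x := h.symm ▸ hy
    exact ⟨s, s.2, hs⟩
  refine Set.eq_of_subset_of_ncard_le ?_ ?_ (Set.toFinite _)
  · rintro _ ⟨s, rfl⟩ (h1 : (s : MulAut X) x = 1)
    exact hx ((s : MulAut X).injective (h1.trans (map_one _).symm))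
  · obtain ⟨k, hk⟩ := hR.card_orbit x
    rw [Set.ncard_compl, Set.ncard_singleton, hX, ← hpn, ← Nat.card_coe_set_eq, hk]
    rcases Nat.eq_zero_or_pos k with rfl | hk0
    · exfalso
      haveI := (Nat.card_eq_one_iff_unique.1 (hk.trans (pow_zero p))).1
      exact hx (fixed_eq_one hX hpn hr (congrArg Subtype.val (Subsingleton.elim
        (⟨_, MulAction.mem_orbit x ⟨r, mem_zpowers r⟩⟩ : MulAction.orbit R x)
        ⟨x, MulAction.mem_orbit_self x⟩)))
    · exact Nat.le_self_pow hk0.ne' _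

variable {G : Type u} [Group G] [Finite G] {T : Sylow 2 G} {M : Subgroup G} {n : ℕ}

/-- The automorphisms of `T` induced by its normaliser in `M`. -/
def autM (M : Subgroup G) (T : Sylow 2 G) : Subgroup (MulAut (T : Subgroup G)) :=
  (M.subgroupOf (normT T)).map (T : Subgroup G).normalizerMonoidHom

theorem mem_autM {M : Subgroup G} {T : Sylow 2 G} {r : MulAut (T : Subgroup G)} (h : r ∈ autM M T) :
    ∃ g ∈ M, g ∈ normT T ∧ ∀ x : (T : Subgroup G), g * x * g⁻¹ = r x := by
  obtain ⟨⟨g, hg⟩, hgM, rfl⟩ := h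
  exact ⟨g, hgM, hg, fun x => rfl⟩

theorem card_range_eq (T : Sylow 2 G) :
    Nat.card (T : Subgroup G).normalizerMonoidHom.range =
      (centralizer ((T : Subgroup G) : Set G)).relIndex (normT T) := by
  rw [relIndex, ← Subgroup.index_ker, normalizerMonoidHom_ker]

/-- The numerical hypothesis on the induced group: order `p` or `p l`, `p = 2ⁿ - 1`. -/
structure AutData (T : Sylow 2 G) (n p l : ℕ) : Prop where
  pr : p.Prime
  eq : p = 2 ^ n - 1
  dvd : p ∣ (centralizer ((T : Subgroup G) : Set G)).relIndex (normT T)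
  le : (centralizer ((T : Subgroup G) : Set G)).relIndex (normT T) ∣ p * l
  small : l = 1 ∨ (l.Prime ∧ l ≠ p ∧ 2 ^ n % l ≠ 1)

namespace Core

variable (h : Core M T n)
include h

theorem autM_le : autM M T ≤ (T : Subgroup G).normalizerMonoidHom.range := map_le_range _ _

theorem autM_normal {r s : MulAut (T : Subgroup G)}
    (hs : s ∈ (T : Subgroup G).normalizerMonoidHom.range) (hr : r ∈ autM M T) :
    s * r * s⁻¹ ∈ autM M T := by
  obtain ⟨g, rfl⟩ := hs
  obtain ⟨x, hx, rfl⟩ := hr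
  exact ⟨g * x * g⁻¹, h.normal.conj_mem _ hx g, by rw [map_mul, map_mul, map_inv]⟩

theorem autM_ne_bot : autM M T ≠ ⊥ := by
  haveI : Fact (Nat.Prime 2) := ⟨Nat.prime_two⟩
  haveI := h.simple
  intro hbot
  obtain ⟨TM, hTM⟩ := h.exists_sylow_M
  have hle : normalizer ((TM : Subgroup M) : Set M) ≤ centralizer ((TM : Subgroup M) : Set M) := by
    intro g hg
    have hgN : (g : G) ∈ normT T := by
      refine CfsgLib.Coprime.mem_normalizer_of_forall_conj fun x hx => ?_
      rw [← hTM] at hx ⊢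
      obtain ⟨y, hy, rfl⟩ := hx
      exact ⟨g * y * g⁻¹, (mem_normalizer_iff.1 hg y).1 hy, rfl⟩
    refine mem_centralizer_iff.2 fun x hx => Subtype.ext ?_
    have hk : (T : Subgroup G).normalizerMonoidHom ⟨g, hgN⟩ ∈ autM M T := ⟨⟨g, hgN⟩, g.2, rfl⟩
    rw [hbot, mem_bot, ← MonoidHom.mem_ker, normalizerMonoidHom_ker] at hk
    exact mem_centralizer_iff.1 hk _ (hTM ▸ mem_map_of_mem _ hx)
  rcases CfsgLib.Transfer.simple_of_hasNormalPComplement
    (CfsgLib.Transfer.hasNormalPComplement_of_normalizer_le TM hle) with h2 | h2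
  · exact h2 h.two_dvd_card
  · haveI := h2.isNilpotent
    exact h.not_comm ⟨⟨fun a b => IsSimpleGroup.comm_iff_isSolvable.2 inferInstance a b⟩⟩

variable {p l : ℕ} (d : AutData T n p l)
include d

theorem exists_autM_order : ∃ r ∈ autM M T, orderOf r = p := by
  classical
  haveI := Fact.mk d.pr
  set A := (T : Subgroup G).normalizerMonoidHom.range with hA
  have hAc : Nat.card A = _ := card_range_eq T
  suffices hdvd : p ∣ Nat.card (autM M T) by
    obtain ⟨r, hr⟩ := exists_prime_orderOf_dvd_card' p hdvd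
    exact ⟨r, r.2, by rw [orderOf_coe, hr]⟩
  by_contra hnd
  have hBl : Nat.card (autM M T) ∣ l :=
    ((d.pr.coprime_iff_not_dvd.2 hnd).symm).dvd_of_dvd_mul_left
      ((card_dvd_of_le h.autM_le).trans ((dvd_of_eq hAc).trans d.le))
  rcases d.small with rfl | ⟨hl, hlp, hmod⟩
  · exact h.autM_ne_bot (card_eq_one.1 (Nat.dvd_one.1 hBl))
  haveI := Fact.mk hl
  have hBc : Nat.card (autM M T) = l :=
    ((Nat.dvd_prime hl).1 hBl).resolve_left fun e => h.autM_ne_bot (card_eq_one.1 e)
  have hB : IsPGroup l (autM M T) := IsPGroup.of_card (n := 1) (by rw [hBc, pow_one])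
  have hfp := hB.card_modEq_card_fixedPoints (T : Subgroup G)
  obtain ⟨r, hr⟩ := exists_prime_orderOf_dvd_card' (G := A) p (hAc ▸ d.dvd)
  have hrA : (r : MulAut (T : Subgroup G)) ∈ A := r.2
  have hro : orderOf (r : MulAut (T : Subgroup G)) = p := by rw [orderOf_coe, hr]
  rw [h.card_T] at hfp
  by_cases hone : ∀ x ∈ MulAction.fixedPoints (autM M T) (T : Subgroup G), x = 1
  · refine hmod ?_
    have he : MulAction.fixedPoints (autM M T) (T : Subgroup G) = {1} :=
      Set.eq_singleton_iff_unique_mem.2 ⟨fun s => map_one (s : MulAut (T : Subgroup G)), hone⟩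
    rw [he, Nat.card_coe_set_eq, Set.ncard_singleton, Nat.ModEq, Nat.mod_eq_of_lt hl.one_lt] at hfp
    exact hfp
  push Not at hone
  obtain ⟨x, hx, hx1⟩ := hone
  refine h.autM_ne_bot (eq_bot_iff.2 fun s hs => mem_bot.2 (MulEquiv.ext fun y => ?_))
  rcases eq_or_ne y 1 with rfl | hy
  · simp
  obtain ⟨q, hq, rfl⟩ := transitive_zpowers h.card_T d.eq hro hx1 hy
  have hqA : q ∈ A := (zpowers_le.2 hrA) hq
  have h1 := hx ⟨q⁻¹ * s * q⁻¹⁻¹, h.autM_normal (inv_mem hqA) hs⟩
  change (q⁻¹ * s * q⁻¹⁻¹) x = x at h1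
  rw [inv_inv, MulAut.mul_apply, MulAut.mul_apply] at h1
  have h2 := congrArg q h1
  rw [MulAut.apply_inv_self] at h2
  exact h2

/-- The normaliser in `M` is transitive on the involutions of `T`. -/
theorem trans {a b : G} (ha : a ∈ (T : Subgroup G)) (ha1 : a ≠ 1) (hb : b ∈ (T : Subgroup G))
    (hb1 : b ≠ 1) : ∃ g ∈ M, g ∈ normT T ∧ g * a * g⁻¹ = b := by
  haveI := Fact.mk d.pr
  obtain ⟨r, hr, hro⟩ := h.exists_autM_order d
  obtain ⟨s, hs, hsa⟩ := transitive_zpowers h.card_T d.eq hro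
    (x := ⟨a, ha⟩) (y := ⟨b, hb⟩) (fun e => ha1 (congrArg Subtype.val e))
    fun e => hb1 (congrArg Subtype.val e)
  obtain ⟨g, hgM, hgN, hg⟩ := mem_autM ((zpowers_le.2 hr) hs)
  exact ⟨g, hgM, hgN, (hg ⟨a, ha⟩).trans (congrArg Subtype.val hsa)⟩

/-- The order of the stabiliser of an involution in the induced group divides `l`. -/
theorem pow_stab {a g : G} (ha : a ∈ (T : Subgroup G)) (ha1 : a ≠ 1) (hg : g ∈ normT T)
    (hga : g * a = a * g) : ∀ x ∈ (T : Subgroup G), g ^ l * x = x * g ^ l := by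
  classical
  haveI := Fact.mk d.pr
  set ψ := (T : Subgroup G).normalizerMonoidHom
  set A := ψ.range
  set St := MulAction.stabilizer A (⟨a, ha⟩ : (T : Subgroup G))
  have horb : MulAction.orbit A (⟨a, ha⟩ : (T : Subgroup G)) = ({1} : Set (T : Subgroup G))ᶜ := by
    ext y
    constructor
    · rintro ⟨s, rfl⟩ (h1 : (s : MulAut (T : Subgroup G)) ⟨a, ha⟩ = 1)
      exact ha1 (congrArg Subtype.val
        ((s : MulAut (T : Subgroup G)).injective (h1.trans (map_one _).symm)))
    · intro hy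
      obtain ⟨r, hr⟩ := exists_prime_orderOf_dvd_card' (G := A) p (card_range_eq T ▸ d.dvd)
      obtain ⟨s, hs, hsa⟩ := transitive_zpowers h.card_T d.eq
        (show orderOf (r : MulAut (T : Subgroup G)) = p by rw [orderOf_coe, hr])
        (x := ⟨a, ha⟩) (y := y) (fun e => ha1 (congrArg Subtype.val e)) hy
      exact ⟨⟨s, (zpowers_le.2 r.2) hs⟩, hsa⟩
  have hidx : St.index = p := by
    rw [MulAction.index_stabilizer, horb, Set.ncard_compl, Set.ncard_singleton, h.card_T, d.eq]
  have hSt : Nat.card St ∣ l := by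
    have h1 := St.card_mul_index
    rw [hidx] at h1
    have h2 : Nat.card St * p ∣ l * p := by
      rw [h1, card_range_eq, mul_comm l]; exact d.le
    exact Nat.dvd_of_mul_dvd_mul_right d.pr.pos h2
  have hmem : (⟨ψ ⟨g, hg⟩, _, rfl⟩ : A) ∈ St :=
    Subtype.ext (show g * a * g⁻¹ = a by rw [hga, mul_inv_cancel_right])
  have hpow : (⟨ψ ⟨g, hg⟩, _, rfl⟩ : A) ^ l = 1 :=
    orderOf_dvd_iff_pow_eq_one.1 ((St.orderOf_dvd_natCard hmem).trans hSt)
  have hk : (⟨g, hg⟩ : normT T) ^ l ∈ ψ.ker := by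
    rw [MonoidHom.mem_ker, map_pow]
    exact congrArg Subtype.val hpow
  rw [normalizerMonoidHom_ker] at hk
  intro x hx
  have := mem_centralizer_iff.1 hk x hx
  simpa using this.symm

end Core

end CfsgLib.EqualOrderE8
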