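import Cfsg.Agent.Lib.EqualOrderE8.Four
import Cfsg.Agent.Lib.Tech46.CoprimeGen
import Cfsg.Agent.Lib.GWCons.CyclicSylow

/-!
The hard case: balance of the odd cores of the centralisers of the involutions.
-/

set_option autoImplicit false
set_option linter.unusedSectionVars false
set_option linter.style.haveILetI false

namespace CfsgLib.EqualOrderE8

open Subgroup
open CfsgLib.StrongEmbedding.ElementaryCentralizers (normT)

universe u

/-- A Sylow subgroup meets a normal subgroup in a subgroup of full order. -/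
theorem card_inf_sylow {C : Type u} [Group C] [Finite C] {s : ℕ} [Fact s.Prime] (P : Sylow s C)
    (N : Subgroup C) [hN : N.Normal] :
    Nat.card ((P : Subgroup C) ⊓ N : Subgroup C) = s ^ (Nat.card N).factorization s := by
  obtain ⟨Q⟩ : Nonempty (Sylow s N) := inferInstance
  obtain ⟨c, hc⟩ := CfsgLib.Involutions.exists_conj_le_sylow (Q.isPGroup'.map N.subtype) P
  refine le_antisymm ?_ ?_
  · refine Nat.le_of_dvd (pow_pos (Fact.out : s.Prime).pos _) ?_
    obtain ⟨k, hk⟩ := IsPGroup.iff_card.1 (P.isPGroup'.to_le (inf_le_left : (P : Subgroup C) ⊓ N ≤ _))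
    rw [hk]
    refine pow_dvd_pow _ ((Fact.out : s.Prime).pow_dvd_iff_le_factorization Nat.card_pos.ne' |>.1 ?_)
    exact hk ▸ card_dvd_of_le inf_le_right
  · rw [← Sylow.card_eq_multiplicity Q, ← card_map_of_injective (f := N.subtype) N.subtype_injective,
      ← card_map_of_injective (f := (MulAut.conj c).toMonoidHom) (MulAut.conj c).injective]
    refine card_le_of_le ?_
    rintro _ ⟨_, hx, rfl⟩
    refine ⟨hc _ hx, ?_⟩
    obtain ⟨z, -, rfl⟩ := hx
    exact hN.conj_mem _ z.2 c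

theorem no_solution {s k a e m : ℕ} (hs : s.Prime) (hs2 : s ≠ 2) (hk : k = 3 ∨ k = 7) (ha : 1 ≤ a)
    (he : 1 ≤ e) (hem : e < m) (hkey : k * (s ^ e - 1) = a * (s ^ m - 1)) : False := by
  have hs3 : 3 ≤ s := by have := hs.two_le; omega
  have hse : s ≤ s ^ e := Nat.le_self_pow (by omega) s
  have hE1 : 0 < s ^ e - 1 := by omega
  have hm1 : s * (s ^ e - 1) + 1 < s ^ m := by
    have h1 : s ^ (e + 1) ≤ s ^ m := Nat.pow_le_pow_right (by omega) hem
    rw [pow_succ'] at h1
    have := Nat.le_mul_of_pos_right s (pow_pos hs.pos e)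
    rw [Nat.mul_sub_one]
    omega
  have has : a * s < k := by
    refine Nat.lt_of_mul_lt_mul_right (a := s ^ e - 1) ?_
    rw [mul_assoc, hkey]
    exact Nat.mul_lt_mul_of_pos_left (by omega) ha
  have hk7 : k = 7 := by
    rcases hk with rfl | rfl
    · exfalso; nlinarith
    · rfl
  subst hk7
  rw [Nat.mul_sub_one, Nat.mul_sub_one] at hkey
  have hge : a ≤ a * s ^ m := Nat.le_mul_of_pos_right _ (pow_pos hs.pos _)
  obtain ⟨e', rfl⟩ : ∃ e', e = e' + 1 := ⟨e - 1, by omega⟩
  obtain ⟨m', rfl⟩ : ∃ m', m = m' + 1 + 1 := ⟨m - 2, by omega⟩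
  have hs7 : s < 7 := by nlinarith
  have hsv : s = 3 ∨ s = 5 := by
    interval_cases s <;> first | omega | (exfalso; norm_num at hs)
  have ha7 : a ≤ 2 := by nlinarith
  rcases hsv with rfl | rfl <;> interval_cases a <;>
    simp only [pow_succ, one_mul] at hkey hge has
  · -- `s = 3`, `a = 1`
    rcases Nat.eq_zero_or_pos e' with rfl | he'
    · simp at hkey
      omega
    · obtain ⟨e'', rfl⟩ : ∃ e'', e' = e'' + 1 := ⟨e' - 1, by omega⟩
      rw [pow_succ] at hkey
      omega
  all_goals omega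

variable {G : Type u} [Group G] [Finite G] {M : Subgroup G} {T : Sylow 2 G}

namespace Hard

variable (h : Hard M T)
include h

/-- The common order of the intersections with `C_M(W)`. -/
theorem card_th_inf {W : Subgroup G} (hW : Nat.card W = 4 ∨ Nat.card W = 8) {a b : G} (ha : a ∈ W)
    (ha1 : a ≠ 1) (hb : b ∈ W) (hb1 : b ≠ 1) :
    Nat.card ((th M a).subgroupOf (M ⊓ centralizer (W : Set G))) =
      Nat.card ((th M b).subgroupOf (M ⊓ centralizer (W : Set G))) := by
  haveI := h.normal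
  suffices key : ∀ u ∈ W, u ≠ 1 → ∀ v ∈ W, v ≠ 1 →
      Nat.card ((th M u).subgroupOf (M ⊓ centralizer (W : Set G))) ≤
        Nat.card ((th M v).subgroupOf (M ⊓ centralizer (W : Set G))) from
    le_antisymm (key a ha ha1 b hb hb1) (key b hb hb1 a ha ha1)
  intro u hu hu1 v hv hv1
  obtain ⟨g, hgM, hgW, hg⟩ := h.trans_sub hW hu hu1 hv hv1
  have hgN : g ∈ normalizer (W : Set G) := CfsgLib.Coprime.mem_normalizer_of_forall_conj hgW
  have hC : ∀ x ∈ M ⊓ centralizer (W : Set G), g * x * g⁻¹ ∈ M ⊓ centralizer (W : Set G) := by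
    intro x hx
    refine ⟨h.normal.conj_mem _ hx.1 g, mem_centralizer_iff.2 fun w hw => ?_⟩
    have hw' : g⁻¹ * w * g ∈ W := by
      simpa using (mem_normalizer_iff.1 (inv_mem hgN) w).1 hw
    have := mem_centralizer_iff.1 hx.2 _ hw'
    calc w * (g * x * g⁻¹) = g * (g⁻¹ * w * g * x) * g⁻¹ := by group
      _ = g * (x * (g⁻¹ * w * g)) * g⁻¹ := by rw [this]
      _ = g * x * g⁻¹ * w := by group
  refine Nat.card_le_card_of_injective (fun x => ⟨⟨g * x.1.1 * g⁻¹, hC _ x.1.2⟩, ?_⟩) ?_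
  · exact hg ▸ conj_mem_th' x.2
  · intro x y e
    exact Subtype.ext (Subtype.ext (mul_left_cancel (mul_right_cancel
      (congrArg (fun z => ((z.1 : _) : G)) e))))

/-- Balance for elements of prime power order. -/
theorem balance_prime_power {a b : G} (ha : a ∈ (T : Subgroup G)) (ha1 : a ≠ 1)
    (hb : b ∈ (T : Subgroup G)) (hb1 : b ≠ 1) {s k : ℕ} (hs : s.Prime) {y : G}
    (hy : orderOf y = s ^ k) (hya : y ∈ th M a) (hyb : y * b = b * y) : y ∈ th M b := by
  classical
  haveI := Fact.mk hs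
  haveI := h.normal
  haveI : Fact (Nat.Prime 2) := ⟨Nat.prime_two⟩
  by_contra hnb
  have hab : a ≠ b := fun e => hnb (e ▸ hya)
  have hy1 : y ≠ 1 := fun e => hnb (e ▸ one_mem _)
  have hk : k ≠ 0 := fun e => hy1 (orderOf_eq_one_iff.1 (by rw [hy, e, pow_zero]))
  have hs2 : s ≠ 2 := by
    intro e
    have h1 := (th M a).orderOf_dvd_natCard hya
    rw [hy, e] at h1
    exact (Nat.not_even_iff_odd.2 (odd_card_th M a))
      (even_iff_two_dvd.2 ((dvd_pow_self 2 hk).trans h1))
  -- a Sylow two-subgroup of the centraliser of `y` containing `a`, `b`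
  set Cy := centralizer ({y} : Set G)
  have haC : a ∈ Cy := mem_centralizer_singleton_iff.2 (commute_th hya).symm
  have hbC : b ∈ Cy := mem_centralizer_singleton_iff.2 hyb.symm
  have hTC : IsPGroup 2 ((T : Subgroup G) ⊓ Cy : Subgroup G) := T.isPGroup'.to_le inf_le_left
  obtain ⟨S, hS⟩ := (hTC.comap_subtype (K := Cy)).exists_le_sylow
  set W := (S : Subgroup Cy).map Cy.subtype
  have hSW : ∀ x ∈ (T : Subgroup G), (hx : x ∈ Cy) → x ∈ W := fun x hx hxC =>
    ⟨⟨x, hxC⟩, hS (show (⟨x, hxC⟩ : Cy).1 ∈ (T : Subgroup G) ⊓ Cy from ⟨hx, hxC⟩), rfl⟩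
  have haW := hSW a ha haC
  have hbW := hSW b hb hbC
  have hWC : ∀ w ∈ W, w * y = y * w := by
    rintro _ ⟨z, -, rfl⟩
    exact mem_centralizer_singleton_iff.1 z.2
  have hWp : IsPGroup 2 W := S.isPGroup'.map _
  have hWc : Nat.card W = 2 ^ (Nat.card Cy).factorization 2 := by
    rw [card_map_of_injective Cy.subtype_injective, Sylow.card_eq_multiplicity]
  obtain ⟨hWcomm, hWsq⟩ := h.two_group hWp
  have hW : Nat.card W = 4 ∨ Nat.card W = 8 := by
    have h4 : 4 ∣ Nat.card Cy := h.four_dvd (h.toCore.involution ha ha1) (h.toCore.involution hb hb1)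
      hab (h.comm ha hb) (commute_th hya) hyb
    have h2 : 2 ≤ (Nat.card Cy).factorization 2 :=
      (Nat.prime_two.pow_dvd_iff_le_factorization Nat.card_pos.ne').1 h4
    obtain ⟨g, hg⟩ := CfsgLib.Involutions.exists_conj_le_sylow hWp T
    have h8 : Nat.card W ≤ 8 := by
      rw [show (8 : ℕ) = 2 ^ 3 by norm_num, ← h.card_T, ← card_map_of_injective (f := (MulAut.conj g).toMonoidHom) (MulAut.conj g).injective]
      exact card_le_of_le (by rintro _ ⟨x, hx, rfl⟩; exact hg x hx)
    rw [hWc] at h8 ⊢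
    generalize (Nat.card Cy).factorization 2 = j at h2 h8
    rcases (show j = 2 ∨ j = 3 by
      by_contra hcon
      have := Nat.pow_le_pow_right two_pos (show 4 ≤ j by omega)
      omega) with rfl | rfl
    · exact Or.inl rfl
    · exact Or.inr rfl
  set C := M ⊓ centralizer (W : Set G)
  have hyC : y ∈ C := ⟨th_le_M M a hya, mem_centralizer_iff.2 hWC⟩
  have hN : ∀ w ∈ W, ((th M w).subgroupOf C).Normal := fun w hw => ⟨fun x hx c => mem_subgroupOf.2
    (conj_mem_th (mem_cM.2 ⟨c.2.1, (mem_centralizer_iff.1 c.2.2 w hw).symm⟩) (mem_subgroupOf.1 hx))⟩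
  obtain ⟨P, hP⟩ := (isPGroup_zpowers (G := C) (p := s) (x := ⟨y, hyC⟩) (k := k)
    (by rw [orderOf_mk, hy])).exists_le_sylow
  have hyP : (⟨y, hyC⟩ : C) ∈ (P : Subgroup C) := hP (mem_zpowers _)
  have heq : ∀ w ∈ W, w ≠ 1 → Nat.card ((P : Subgroup C) ⊓ (th M w).subgroupOf C : Subgroup C) =
      Nat.card ((P : Subgroup C) ⊓ (th M a).subgroupOf C : Subgroup C) := by
    intro w hw hw1
    haveI := hN w hw
    haveI := hN a haW
    rw [card_inf_sylow, card_inf_sylow, h.card_th_inf hW hw hw1 haW ha1]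
  set Pa := (P : Subgroup C) ⊓ (th M a).subgroupOf C
  have hyPa : (⟨y, hyC⟩ : C) ∈ Pa := ⟨hyP, hya⟩
  obtain ⟨SG, hSG⟩ := (P.isPGroup'.map C.subtype).exists_le_sylow
  rcases h.conj.sylow_shape hs2 SG with hcyc | hel
  · -- cyclic Sylow `s`-subgroups
    haveI : IsCyclic (SG : Subgroup G) := hcyc
    haveI : IsCyclic (P : Subgroup C) := isCyclic_of_injective
      ((Subgroup.inclusion hSG).comp (C.subtype.subgroupMap (P : Subgroup C)))
      ((Subgroup.inclusion_injective hSG).comp fun x z e =>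
        Subtype.ext (C.subtype_injective (congrArg Subtype.val e :)))
    have e := CfsgLib.GWCons.CyclicSylow.eq_of_card_eq (C := (P : Subgroup C))
      (A := ((P : Subgroup C) ⊓ (th M b).subgroupOf C).subgroupOf P) (B := Pa.subgroupOf P)
      (by rw [Nat.card_congr (subgroupOfEquivOfLe inf_le_left).toEquiv,
        Nat.card_congr (subgroupOfEquivOfLe inf_le_left).toEquiv]; exact heq b hbW hb1)
    have hmem : (⟨⟨y, hyC⟩, hyP⟩ : (P : Subgroup C)) ∈
        ((P : Subgroup C) ⊓ (th M b).subgroupOf C).subgroupOf P := e ▸ hyPa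
    exact hnb hmem.2
  -- exponent `s`
  have hord : ∀ x : (P : Subgroup C), x ≠ 1 → orderOf (((x : C)) : G) = s := fun x hx =>
    orderOf_eq_prime (hel.2 _ (hSG (mem_map_of_mem _ x.2)))
      fun e => hx (Subtype.ext (Subtype.ext e))
  let α : ↥(P : Subgroup C) → ℕ := fun x =>
    Nat.card {w : W // (w : G) ≠ 1 ∧ ((x : C) : G) ∈ th M w}
  have hconst : ∀ x x' : (P : Subgroup C), x ≠ 1 → x' ≠ 1 → α x ≤ α x' := by
    intro x x' hx hx'
    obtain ⟨g, hg⟩ := h.conj.zpowers_conj (k := 1) hs (x := ((x : C) : G)) (y := ((x' : C) : G))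
      (by rw [hord x hx, pow_one]) (by rw [hord x' hx', pow_one])
    set x₁ := ((x : C) : G)
    set x₂ := ((x' : C) : G)
    set C2 := centralizer ({x₂} : Set G)
    have hWx : ∀ x : (P : Subgroup C), W ≤ centralizer ({((x : C) : G)} : Set G) := fun x w hw =>
      mem_centralizer_singleton_iff.2 (mem_centralizer_iff.1 (x : C).2.2 w hw)
    set W₁ := W.map (MulAut.conj g).toMonoidHom
    have hW₁ : W₁ ≤ C2 := by
      rintro _ ⟨w, hw, rfl⟩
      have hc : Commute (g * w * g⁻¹) (g * x₁ * g⁻¹) :=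
        (Commute.conj_iff g).2 (mem_centralizer_singleton_iff.1 (hWx x hw))
      show g * w * g⁻¹ ∈ centralizer ({x₂} : Set G)
      rw [centralizer_eq_of_zpowers hg, mem_centralizer_singleton_iff]
      exact hc.eq
    have hcard : Nat.card C2 = Nat.card Cy := by
      refine h.conj.card_centralizer (k := 1) hs (by rw [hord x' hx', pow_one]) ?_
      have hyord := hord ⟨⟨y, hyC⟩, hyP⟩ fun e =>
        hy1 (congrArg (fun z : (P : Subgroup C) => ((z : C) : G)) e)
      rw [show orderOf y = s from hyord, pow_one]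
    let S₁ : Sylow 2 C2 := Sylow.ofCard (W₁.subgroupOf C2) (by
      rw [Nat.card_congr (subgroupOfEquivOfLe hW₁).toEquiv,
        card_map_of_injective (MulAut.conj g).injective, hWc, hcard])
    let S₂ : Sylow 2 C2 := Sylow.ofCard (W.subgroupOf C2) (by
      rw [Nat.card_congr (subgroupOfEquivOfLe (hWx x')).toEquiv, hWc, hcard])
    obtain ⟨c, hc⟩ := MulAction.exists_smul_eq C2 S₁ S₂
    have hcW : ∀ w ∈ W, (c : G) * (g * w * g⁻¹) * (c : G)⁻¹ ∈ W := by
      intro w hw
      have h1 : (⟨g * w * g⁻¹, hW₁ ⟨w, hw, rfl⟩⟩ : C2) ∈ (S₁ : Subgroup C2) :=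
        mem_subgroupOf.2 ⟨w, hw, rfl⟩
      have h2 : c * ⟨g * w * g⁻¹, hW₁ ⟨w, hw, rfl⟩⟩ * c⁻¹ ∈ ((c • S₁ : Sylow 2 C2) : Subgroup C2) := by
        rw [Sylow.coe_subgroup_smul]
        exact ⟨_, h1, rfl⟩
      rw [hc] at h2
      exact mem_subgroupOf.1 h2
    set γ := (c : G) * g
    have hγW : ∀ w ∈ W, γ * w * γ⁻¹ ∈ W := fun w hw => by
      have := hcW w hw
      simpa [γ, mul_assoc] using this
    have hγx : zpowers (γ * x₁ * γ⁻¹) = zpowers x₂ := by
      have hmem : g * x₁ * g⁻¹ ∈ zpowers x₂ := hg.symm ▸ mem_zpowers _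
      obtain ⟨i, hi⟩ := mem_zpowers_iff.1 hmem
      have hcx : Commute (c : G) x₂ := mem_centralizer_singleton_iff.1 c.2
      have : γ * x₁ * γ⁻¹ = g * x₁ * g⁻¹ := by
        rw [show γ * x₁ * γ⁻¹ = (c : G) * (g * x₁ * g⁻¹) * (c : G)⁻¹ by simp [γ, mul_assoc], ← hi,
          (hcx.zpow_right i).eq, mul_inv_cancel_right]
      rw [this, hg]
    refine Nat.card_le_card_of_injective
      (fun w => ⟨⟨γ * w.1 * γ⁻¹, hγW _ w.1.2⟩, fun e => w.2.1 (conj_eq_one_iff.1 e), ?_⟩) ?_
    · have h1 := conj_mem_th' (g := γ) w.2.2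
      exact (zpowers_le.2 h1) (hγx.symm ▸ mem_zpowers x₂)
    · intro u v e
      exact Subtype.ext (Subtype.ext (mul_left_cancel (mul_right_cancel
        (congrArg (fun z => ((z.1 : W) : G)) e))))
  set y' : (P : Subgroup C) := ⟨⟨y, hyC⟩, hyP⟩
  have hy'1 : y' ≠ 1 := fun e => hy1 (congrArg (fun z : (P : Subgroup C) => ((z : C) : G)) e)
  haveI : Fintype (P : Subgroup C) := Fintype.ofFinite _
  haveI : Fintype W := Fintype.ofFinite _
  obtain ⟨e, he⟩ := IsPGroup.iff_card.1 (P.isPGroup'.to_le (inf_le_left : Pa ≤ (P : Subgroup C)))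
  obtain ⟨m, hm⟩ := IsPGroup.iff_card.1 P.isPGroup'
  have he1 : 1 ≤ e := by
    rcases Nat.eq_zero_or_pos e with rfl | hpos
    · rw [pow_zero] at he
      have hbot : Pa = ⊥ := card_eq_one.1 he
      rw [hbot, mem_bot] at hyPa
      exact absurd (congrArg Subtype.val hyPa) hy1
    · exact hpos
  have hem : e < m := by
    by_contra hle
    have hPb : ((P : Subgroup C) ⊓ (th M b).subgroupOf C : Subgroup C) = P :=
      Subgroup.eq_of_le_of_card_ge inf_le_left (by
        rw [heq b hbW hb1, he, hm]; exact Nat.pow_le_pow_right hs.pos (by omega))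
    exact hnb (hPb.symm.le hyP).2
  have hαy : 1 ≤ α y' :=
    haveI : Nonempty {w : W // (w : G) ≠ 1 ∧ ((y' : C) : G) ∈ th M w} := ⟨⟨⟨a, haW⟩, ha1, hya⟩⟩
    Nat.card_pos
  -- double counting
  have hsum : ∑ x ∈ (Finset.univ : Finset (P : Subgroup C)).erase 1, α x =
      ∑ w ∈ (Finset.univ : Finset W).erase 1, (s ^ e - 1) := by
    have h1 : ∀ x : (P : Subgroup C), α x =
        ∑ w ∈ (Finset.univ : Finset W).erase 1, if ((x : C) : G) ∈ th M w then 1 else 0 := by
      intro x
      rw [Finset.sum_boole, Nat.cast_id]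
      show Nat.card _ = _
      rw [Nat.card_eq_fintype_card, Fintype.card_subtype]
      congr 1
      ext w
      simp
    have h2 : ∀ w ∈ (Finset.univ : Finset W).erase 1,
        (∑ x ∈ (Finset.univ : Finset (P : Subgroup C)).erase 1,
          if ((x : C) : G) ∈ th M w then 1 else 0) = s ^ e - 1 := by
      intro w hw
      have hw1 : (w : G) ≠ 1 := fun e => (Finset.mem_erase.1 hw).1 (Subtype.ext e)
      rw [Finset.sum_boole, Nat.cast_id, Finset.filter_erase, Finset.card_erase_of_mem (by simp),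
        ← Fintype.card_subtype, ← Nat.card_eq_fintype_card, ← he, ← heq w w.2 hw1]
      congr 1
      refine Nat.card_congr ⟨fun x => ⟨x.1.1, x.1.2, x.2⟩, fun x => ⟨⟨x.1, x.2.1⟩, x.2.2⟩, ?_, ?_⟩
      · intro x; rfl
      · intro x; rfl
    rw [Finset.sum_congr rfl fun x _ => h1 x, Finset.sum_comm, Finset.sum_congr rfl h2]
  rw [Finset.sum_congr rfl fun x hx => le_antisymm
      (hconst x y' (Finset.mem_erase.1 hx).1 hy'1) (hconst y' x hy'1 (Finset.mem_erase.1 hx).1),
    Finset.sum_const, Finset.sum_const, Finset.card_erase_of_mem (Finset.mem_univ _),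
    Finset.card_erase_of_mem (Finset.mem_univ _), Finset.card_univ, Finset.card_univ,
    ← Nat.card_eq_fintype_card, ← Nat.card_eq_fintype_card, smul_eq_mul, smul_eq_mul, hm] at hsum
  exact no_solution (k := Nat.card W - 1) hs hs2 (by omega) hαy he1 hem
    (by rw [← hsum, mul_comm])

/-- Balance. -/
theorem balance {a : G} (ha : a ∈ (T : Subgroup G)) (ha1 : a ≠ 1) {b : G}
    (hb : b ∈ (T : Subgroup G)) (hb1 : b ≠ 1) {x : G} (hx : x ∈ th M a) (hxb : x * b = b * x) :
    x ∈ th M b := by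
  refine zpowers_le.1 (CfsgLib.Tech46.le_of_forall_sylow_le fun q hq =>
    ⟨zpowers (x ^ (ordCompl[q] (orderOf x))), zpowers_le.2 (pow_mem (mem_zpowers x) _),
      zpowers_le.2 ?_, ?_⟩)
  · exact h.balance_prime_power ha ha1 hb hb1 hq (k := (orderOf x).factorization q)
      (orderOf_pow_orderOf_div (orderOf_pos x).ne' (Nat.ordProj_dvd _ _)) (pow_mem hx _)
      ((show Commute x b from hxb).pow_left _).eq
  · haveI := Fact.mk hq
    intro hd
    have h1 := Subgroup.relIndex_mul_index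
      (H := (zpowers (x ^ (ordCompl[q] (orderOf x)))).subgroupOf (zpowers x)) le_top
    have h2 : Nat.card (zpowers (x ^ (ordCompl[q] (orderOf x)))) *
        (zpowers (x ^ (ordCompl[q] (orderOf x)))).relIndex (zpowers x) = orderOf x := by
      have h3 := Subgroup.card_mul_index
        ((zpowers (x ^ (ordCompl[q] (orderOf x)))).subgroupOf (zpowers x))
      rw [Nat.card_congr (subgroupOfEquivOfLe (zpowers_le.2 (pow_mem (mem_zpowers x) _))).toEquiv,
        Nat.card_zpowers x] at h3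
      exact h3
    rw [Nat.card_zpowers, orderOf_pow_orderOf_div (orderOf_pos x).ne' (Nat.ordProj_dvd _ _)] at h2
    refine Nat.pow_succ_factorization_not_dvd (orderOf_pos x).ne' hq ?_
    rw [pow_succ]
    exact dvd_trans (mul_dvd_mul_left _ hd) (dvd_of_eq h2)

end Hard

end CfsgLib.EqualOrderE8
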