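import Cfsg.Agent.S4020
import Cfsg.Agent.Lib.GW.Basic
import Cfsg.Agent.Lib.Solvable.CoprimeGeneration
import Cfsg.Agent.Lib.GammaRankOne.Main

/-!
Groups in which `p`-subgroups of equal order are conjugate: basic consequences, and the odd cores of
centralisers inside a normal subgroup.
-/

set_option autoImplicit false
set_option linter.unusedSectionVars false
set_option linter.style.haveILetI false

namespace CfsgLib.EqualOrderE8

open Subgroup

universe u

/-- For every prime `p`, two `p`-subgroups of equal order are conjugate. -/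
def EqPConj (G : Type u) [Group G] : Prop :=
  ∀ p : ℕ, p.Prime → ∀ H K : Subgroup G, IsPGroup p H → IsPGroup p K → Nat.card H = Nat.card K →
    ∃ g : G, K = H.map (MulAut.conj g).toMonoidHom

variable {G : Type u} [Group G] [Finite G]

/-- A `p`-subgroup of a quotient is the image of one of the group, of controlled order. -/
theorem exists_preimage {N : Subgroup G} [N.Normal] {p : ℕ} [Fact p.Prime] {H : Subgroup (G ⧸ N)}
    (hH : IsPGroup p H) :
    ∃ P : Subgroup G, IsPGroup p P ∧ P.map (QuotientGroup.mk' N) = H ∧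
      Nat.card P = p ^ (Nat.card N * Nat.card H).factorization p := by
  set f := QuotientGroup.mk' N
  have hfs : Function.Surjective f := QuotientGroup.mk'_surjective N
  set X := H.comap f
  have hX : Nat.card X = Nat.card N * Nat.card H := by
    have h1 := CfsgLib.Coprime.card_map_mul_inf_ker f X
    rw [show X.map f = H from map_comap_eq_self_of_surjective hfs H, QuotientGroup.ker_mk',
      inf_eq_left.2 (show N ≤ X from QuotientGroup.le_comap_mk' N H)] at h1
    rw [← h1, mul_comm]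
  obtain ⟨Q⟩ : Nonempty (Sylow p X) := inferInstance
  refine ⟨(Q : Subgroup X).map X.subtype, Q.isPGroup'.map _, ?_, ?_⟩
  · refine Subgroup.eq_of_le_of_card_ge (by
      rintro _ ⟨_, ⟨q, -, rfl⟩, rfl⟩; exact q.2) ?_
    let g : X →* H := (f.comp X.subtype).codRestrict H fun x => x.2
    have hg : Function.Surjective g := fun h => by
      obtain ⟨x, hx⟩ := hfs h.1
      exact ⟨⟨x, mem_comap.2 (hx ▸ h.2)⟩, Subtype.ext hx⟩
    have htop : ((Q.mapSurjective hg : Sylow p H) : Subgroup H) = ⊤ := by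
      apply Subgroup.eq_top_of_card_eq
      rw [Sylow.card_eq_multiplicity]
      obtain ⟨k, hk⟩ := IsPGroup.iff_card.1 hH
      rw [hk, Nat.Prime.factorization_pow Fact.out, Finsupp.single_eq_same]
    rw [Subgroup.map_map]
    have h2 : (Q : Subgroup X).map (f.comp X.subtype) = H := by
      rw [show f.comp X.subtype = H.subtype.comp g from rfl, ← Subgroup.map_map,
        ← Sylow.coe_mapSurjective hg, htop, ← MonoidHom.range_eq_map, range_subtype]
    rw [h2]
  · rw [card_map_of_injective X.subtype_injective, Sylow.card_eq_multiplicity, hX]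

theorem EqPConj.quotient (hD : EqPConj G) (N : Subgroup G) [N.Normal] : EqPConj (G ⧸ N) := by
  intro p hp H K hH hK hc
  haveI := Fact.mk hp
  obtain ⟨P, hP, rfl, hPc⟩ := exists_preimage hH
  obtain ⟨Q, hQ, rfl, hQc⟩ := exists_preimage hK
  obtain ⟨g, hg⟩ := hD p hp P Q hP hQ (by rw [hPc, hQc, hc])
  refine ⟨QuotientGroup.mk' N g, ?_⟩
  rw [hg, Subgroup.map_map, Subgroup.map_map]
  congr 1

theorem isPGroup_zpowers {p : ℕ} [Fact p.Prime] {x : G} {k : ℕ} (hx : orderOf x = p ^ k) :
    IsPGroup p (zpowers x) :=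
  IsPGroup.of_card (n := k) (by rw [Nat.card_zpowers, hx])

theorem EqPConj.zpowers_conj (hD : EqPConj G) {p k : ℕ} (hp : p.Prime) {x y : G}
    (hx : orderOf x = p ^ k) (hy : orderOf y = p ^ k) :
    ∃ g : G, zpowers y = zpowers (g * x * g⁻¹) := by
  haveI := Fact.mk hp
  obtain ⟨g, hg⟩ := hD p hp _ _ (isPGroup_zpowers hx) (isPGroup_zpowers hy)
    (by rw [Nat.card_zpowers, Nat.card_zpowers, hx, hy])
  exact ⟨g, by rw [hg, MonoidHom.map_zpowers]; rfl⟩

theorem EqPConj.conj_involution (hD : EqPConj G) {x y : G} (hx : orderOf x = 2) (hy : orderOf y = 2) :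
    ∃ g : G, g * x * g⁻¹ = y := by
  obtain ⟨g, hg⟩ := hD.zpowers_conj (k := 1) Nat.prime_two (by rw [hx, pow_one]) (by rw [hy, pow_one])
  refine ⟨g, ?_⟩
  have hgo : orderOf (g * x * g⁻¹) = 2 := ((orderOf_injective (MulAut.conj g).toMonoidHom (MulAut.conj g).injective x).trans hx)
  have h1 : y ∈ zpowers (g * x * g⁻¹) := hg ▸ mem_zpowers y
  obtain ⟨i, hi⟩ := mem_zpowers_iff.1 h1
  rcases Int.even_or_odd' i with ⟨j, rfl | rfl⟩
  · rw [zpow_mul, show ((2 : ℤ)) = ((2 : ℕ) : ℤ) from rfl, zpow_natCast, ← hgo,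
      pow_orderOf_eq_one, one_zpow] at hi
    rw [← hi, orderOf_one] at hy
    exact absurd hy (by norm_num)
  · rw [zpow_add_one, zpow_mul, show ((2 : ℤ)) = ((2 : ℕ) : ℤ) from rfl, zpow_natCast, ← hgo,
      pow_orderOf_eq_one, one_zpow, one_mul] at hi
    exact hi

/-- If a prime divides the order of a normal subgroup, it contains all elements of that order. -/
theorem EqPConj.mem_of_orderOf (hD : EqPConj G) {M : Subgroup G} [hM : M.Normal] {p : ℕ}
    (hp : p.Prime) (hd : p ∣ Nat.card M) {x : G} (hx : orderOf x = p) : x ∈ M := by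
  haveI := Fact.mk hp
  obtain ⟨m, hm⟩ := exists_prime_orderOf_dvd_card' (G := M) p hd
  obtain ⟨g, hg⟩ := hD.zpowers_conj (k := 1) hp
    (x := (m : G)) (by rw [orderOf_coe, hm, pow_one]) (y := x) (by rw [hx, pow_one])
  exact (zpowers_le.2 (hM.conj_mem _ m.2 g)) (hg ▸ mem_zpowers x)

/-- An elementary abelian Sylow subgroup lies in every normal subgroup of order divisible by `p`. -/
theorem EqPConj.sylow_le (hD : EqPConj G) {M : Subgroup G} [M.Normal] {p : ℕ} [Fact p.Prime]
    (P : Sylow p G) (hel : Cfsg.IsElementaryAbelian p (P : Subgroup G)) (hd : p ∣ Nat.card M) :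
    (P : Subgroup G) ≤ M := fun x hx => by
  by_cases h1 : x = 1
  · exact h1 ▸ one_mem M
  · exact hD.mem_of_orderOf Fact.out hd (orderOf_eq_prime (hel.2 x hx) h1)

/-- Sylow subgroups for odd primes are cyclic or elementary abelian. -/
theorem EqPConj.sylow_shape (hD : EqPConj G) {p : ℕ} [Fact p.Prime] (hp : p ≠ 2) (P : Sylow p G) :
    IsCyclic P ∨ Cfsg.IsElementaryAbelian p (P : Subgroup G) := by
  rcases Cfsg.Agent.S4020.result hD P with h | h | ⟨⟨e⟩⟩
  · exact Or.inl h
  · exact Or.inr h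
  · exfalso
    obtain ⟨k, hk⟩ := IsPGroup.iff_card.1 P.isPGroup'
    rw [Nat.card_congr e.toEquiv, Nat.card_eq_fintype_card, QuaternionGroup.card] at hk
    refine hp ((Nat.prime_dvd_prime_iff_eq Fact.out Nat.prime_two).1 ?_)
    have : p ∣ 2 ^ 3 := by
      rw [show (2 : ℕ) ^ 3 = 4 * 2 from rfl, hk]
      refine dvd_pow_self p ?_
      rintro rfl
      simp at hk
    exact (Fact.out : p.Prime).dvd_of_dvd_pow this

/-- Centralisers of generators of the same cyclic group agree. -/
theorem centralizer_eq_of_zpowers {x y : G} (h : zpowers x = zpowers y) :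
    centralizer ({x} : Set G) = centralizer ({y} : Set G) := by
  rw [← centralizer_closure, ← zpowers_eq_closure, h, zpowers_eq_closure, centralizer_closure]

/-- Elements of equal prime-power order have centralisers of equal order. -/
theorem EqPConj.card_centralizer (hD : EqPConj G) {p k : ℕ} (hp : p.Prime) {x y : G}
    (hx : orderOf x = p ^ k) (hy : orderOf y = p ^ k) :
    Nat.card (centralizer ({x} : Set G)) = Nat.card (centralizer ({y} : Set G)) := by
  obtain ⟨g, hg⟩ := hD.zpowers_conj hp hx hy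
  rw [centralizer_eq_of_zpowers hg]
  refine Nat.card_congr ((MulAut.conj g).toEquiv.subtypeEquiv fun a => ?_)
  simp only [mem_centralizer_singleton_iff]
  show a * x = x * a ↔ g * a * g⁻¹ * (g * x * g⁻¹) = g * x * g⁻¹ * (g * a * g⁻¹)
  rw [show g * a * g⁻¹ * (g * x * g⁻¹) = g * (a * x) * g⁻¹ by group,
    show g * x * g⁻¹ * (g * a * g⁻¹) = g * (x * a) * g⁻¹ by group, mul_left_inj, mul_right_inj]

/-! ### Centralisers inside `M` and their odd cores -/

/-- The centraliser of `a` in `M`. -/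
def cM (M : Subgroup G) (a : G) : Subgroup G := M ⊓ centralizer ({a} : Set G)

/-- The odd core of the centraliser of `a` in `M`. -/
def th (M : Subgroup G) (a : G) : Subgroup G := CfsgLib.GW.coreIn (cM M a)

theorem mem_cM {M : Subgroup G} {a x : G} : x ∈ cM M a ↔ x ∈ M ∧ x * a = a * x := by
  rw [cM, mem_inf, mem_centralizer_singleton_iff]

theorem th_le (M : Subgroup G) (a : G) : th M a ≤ cM M a := CfsgLib.GW.coreIn_le _

theorem odd_card_th (M : Subgroup G) (a : G) : Odd (Nat.card (th M a)) :=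
  CfsgLib.GW.odd_card_coreIn _

theorem th_le_M (M : Subgroup G) (a : G) : th M a ≤ M := (th_le M a).trans inf_le_left

theorem commute_th {M : Subgroup G} {a x : G} (hx : x ∈ th M a) : x * a = a * x :=
  (mem_cM.1 (th_le M a hx)).2

theorem conj_mem_th {M : Subgroup G} {a c x : G} (hc : c ∈ cM M a) (hx : x ∈ th M a) :
    c * x * c⁻¹ ∈ th M a :=
  CfsgLib.GW.conj_mem_coreIn hc hx

theorem le_th {M N : Subgroup G} {a : G} (hN : N ≤ cM M a)
    (hn : ∀ c ∈ cM M a, ∀ x ∈ N, c * x * c⁻¹ ∈ N) (hodd : Odd (Nat.card N)) : N ≤ th M a :=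
  CfsgLib.GW.le_coreIn hN hn hodd

theorem conj_mem_cM {M : Subgroup G} [hM : M.Normal] {g a x : G} (hx : x ∈ cM M a) :
    g * x * g⁻¹ ∈ cM M (g * a * g⁻¹) := by
  rw [mem_cM] at hx ⊢
  refine ⟨hM.conj_mem _ hx.1 g, ?_⟩
  calc g * x * g⁻¹ * (g * a * g⁻¹) = g * (x * a) * g⁻¹ := by group
    _ = g * (a * x) * g⁻¹ := by rw [hx.2]
    _ = g * a * g⁻¹ * (g * x * g⁻¹) := by group

theorem map_th_le {M : Subgroup G} [hM : M.Normal] (g a : G) :
    (th M a).map (MulAut.conj g).toMonoidHom ≤ th M (g * a * g⁻¹) := by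
  refine le_th ?_ ?_ ?_
  · rintro _ ⟨x, hx, rfl⟩
    exact conj_mem_cM (th_le M a hx)
  · rintro c hc _ ⟨x, hx, rfl⟩
    have hc' : g⁻¹ * c * g ∈ cM M a := by
      have := conj_mem_cM (g := g⁻¹) hc
      simpa [mul_assoc] using this
    refine ⟨_, conj_mem_th hc' hx, ?_⟩
    simp [mul_assoc]
  · rw [card_map_of_injective (MulAut.conj g).injective]
    exact odd_card_th M a

theorem conj_mem_th' {M : Subgroup G} [M.Normal] {g a x : G} (hx : x ∈ th M a) :
    g * x * g⁻¹ ∈ th M (g * a * g⁻¹) :=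
  map_th_le g a ⟨x, hx, rfl⟩

theorem conj_mem_th_iff {M : Subgroup G} [M.Normal] {g a x : G} :
    g * x * g⁻¹ ∈ th M (g * a * g⁻¹) ↔ x ∈ th M a := by
  refine ⟨fun h => ?_, conj_mem_th'⟩
  have := conj_mem_th' (g := g⁻¹) h
  simpa [mul_assoc] using this

end CfsgLib.EqualOrderE8
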