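import Cfsg.Agent.Lib.EqualOrderE8.Quat

/-!
The list of `G / O(G)` for groups in which `p`-subgroups of equal order are conjugate, granted the
theorem on simple groups with an involution centraliser `Z₂ × PSL₂(q)`.
-/

set_option autoImplicit false
set_option linter.unusedSectionVars false
set_option linter.style.haveILetI false

namespace CfsgLib.EqualOrderE8

open Subgroup

universe u

/-- A cyclic Sylow two-subgroup. -/
theorem cyclic_case {G : Type u} [Group G] [Finite G] (T : Sylow 2 G) (hcyc : IsCyclic T)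
    (hO : Cfsg.oddCore G = ⊥) : IsCyclic G ∧ IsPGroup 2 G := by
  classical
  haveI : Fact (Nat.Prime 2) := ⟨Nat.prime_two⟩
  have hle : normalizer ((T : Subgroup G) : Set G) ≤ centralizer ((T : Subgroup G) : Set G) := by
    by_cases h2 : 2 ∣ Nat.card G
    · exact IsCyclic.normalizer_le_centralizer ((Nat.minFac_eq_two_iff _).2 h2) hcyc
    · intro g _
      refine mem_centralizer_iff.2 fun t ht => ?_
      have h1 : Nat.card T = 1 := by
        rw [Sylow.card_eq_multiplicity T, Nat.factorization_eq_zero_of_not_dvd h2, pow_zero]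
      rw [card_eq_one.1 h1, SetLike.mem_coe, mem_bot] at ht
      rw [ht, one_mul, mul_one]
  obtain ⟨S, N, hN, hc⟩ := CfsgLib.Transfer.hasNormalPComplement_of_normalizer_le T hle
  have hodd : ¬ 2 ∣ Nat.card N := by
    intro h2
    apply S.not_dvd_index
    rwa [hc.index_eq_card]
  have hbot : N = ⊥ := eq_bot_iff.2 ((CfsgLib.PCore.le_pPrimeCore_of_not_dvd hN hodd).trans hO.le)
  have htop : (S : Subgroup G) = ⊤ := by
    have := hc.sup_eq_top
    rwa [hbot, bot_sup_eq] at this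
  obtain ⟨g, hg⟩ := MulAction.exists_smul_eq G S T
  have hT : (T : Subgroup G) = ⊤ := by
    rw [← hg, Sylow.coe_subgroup_smul, htop]
    exact eq_top_iff.2 fun x _ => ⟨g⁻¹ * x * g, trivial, by simp [mul_assoc]⟩
  refine ⟨?_, T.isPGroup'.of_equiv ((MulEquiv.subgroupCongr hT).trans Subgroup.topEquiv)⟩
  haveI : IsCyclic (T : Subgroup G) := hcyc
  exact isCyclic_of_surjective _ ((MulEquiv.subgroupCongr hT).trans Subgroup.topEquiv).surjective

/-- The whole list. -/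
theorem equal_order_list {G : Type u} [Group G] [Finite G] (hS : TwoTimesPSL.{u})
    (hD : ∀ p : ℕ, p.Prime → ∀ H K : Subgroup G, IsPGroup p H → IsPGroup p K → Nat.card H = Nat.card K →
      ∃ g : G, K = H.map (MulAut.conj g).toMonoidHom) :
    (IsCyclic (G ⧸ Cfsg.oddCore G) ∧ IsPGroup 2 (G ⧸ Cfsg.oddCore G)) ∨
    Nonempty (G ⧸ Cfsg.oddCore G ≃* Cfsg.affineGroup (GaloisField 2 3)) ∨
    Nonempty (G ⧸ Cfsg.oddCore G ≃* Cfsg.semiaffineGroup (GaloisField 2 3)) ∨
    Nonempty (G ⧸ Cfsg.oddCore G ≃* Cfsg.semiaffineGroup (GaloisField 2 5)) ∨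
    Cfsg.IsJ1 (G ⧸ Cfsg.oddCore G) ∨
    Nonempty (G ⧸ Cfsg.oddCore G ≃* Matrix.ProjectiveSpecialLinearGroup (Fin 2) (GaloisField 2 3)) ∨
    Nonempty (G ⧸ Cfsg.oddCore G ≃* MulAut (Matrix.ProjectiveSpecialLinearGroup (Fin 2) (GaloisField 2 5))) ∨
    (∃ (p : ℕ) (_ : Fact p.Prime), (p % 8 = 3 ∨ p % 8 = 5) ∧
      (Nonempty (G ⧸ Cfsg.oddCore G ≃* Matrix.ProjectiveSpecialLinearGroup (Fin 2) (ZMod p)) ∨
       Nonempty (G ⧸ Cfsg.oddCore G ≃* Matrix.ProjectiveSpecialLinearGroup (Fin 2) (GaloisField p 3)) ∨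
       Nonempty (G ⧸ Cfsg.oddCore G ≃* Matrix.SpecialLinearGroup (Fin 2) (ZMod p)) ∨
       Nonempty (G ⧸ Cfsg.oddCore G ≃* Matrix.SpecialLinearGroup (Fin 2) (GaloisField p 3)))) := by
  classical
  haveI : Fact (Nat.Prime 2) := ⟨Nat.prime_two⟩
  have hQ : EqPConj (G ⧸ Cfsg.oddCore G) := EqPConj.quotient hD (Cfsg.oddCore G)
  have hO : Cfsg.oddCore (G ⧸ Cfsg.oddCore G) = ⊥ :=
    CfsgLib.PCore.pPrimeCore_quotient_pPrimeCore
  obtain ⟨T⟩ : Nonempty (Sylow 2 (G ⧸ Cfsg.oddCore G)) := inferInstance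
  by_cases hcyc : IsCyclic T
  · exact Or.inl (cyclic_case T hcyc hO)
  rcases Cfsg.Agent.S4020.result hQ T with h | hel | ⟨⟨e⟩⟩
  · exact absurd h hcyc
  · obtain ⟨n, hn⟩ := IsPGroup.iff_card.1 T.isPGroup'
    have hn2 : 2 ≤ n := by
      by_contra hlt
      apply hcyc
      rcases (show n = 0 ∨ n = 1 by omega) with rfl | rfl
      · haveI : Subsingleton (T : Subgroup (G ⧸ Cfsg.oddCore G)) :=
          (Nat.card_eq_one_iff_unique.1 (by rw [hn, pow_zero])).1
        exact isCyclic_of_subsingleton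
      · exact isCyclic_of_prime_card (by rw [hn, pow_one])
    rcases elementary_case hS hQ hel hn hn2 hO with h | h | h | h | h | h | ⟨p, hp, hm, h | h⟩
    · exact Or.inr (Or.inl h)
    · exact Or.inr (Or.inr (Or.inl h))
    · exact Or.inr (Or.inr (Or.inr (Or.inl h)))
    · exact Or.inr (Or.inr (Or.inr (Or.inr (Or.inl h))))
    · exact Or.inr (Or.inr (Or.inr (Or.inr (Or.inr (Or.inl h)))))
    · exact Or.inr (Or.inr (Or.inr (Or.inr (Or.inr (Or.inr (Or.inl h))))))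
    · exact Or.inr (Or.inr (Or.inr (Or.inr (Or.inr (Or.inr (Or.inr ⟨p, hp, hm, Or.inl h⟩))))))
    · exact Or.inr (Or.inr (Or.inr (Or.inr (Or.inr (Or.inr (Or.inr ⟨p, hp, hm, Or.inr (Or.inl h)⟩))))))
  · obtain ⟨p, hp, hm, h | h⟩ := quaternion_case hQ T e hO
    · exact Or.inr (Or.inr (Or.inr (Or.inr (Or.inr (Or.inr (Or.inr
        ⟨p, hp, hm, Or.inr (Or.inr (Or.inl h))⟩))))))
    · exact Or.inr (Or.inr (Or.inr (Or.inr (Or.inr (Or.inr (Or.inr
        ⟨p, hp, hm, Or.inr (Or.inr (Or.inr h))⟩))))))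

end CfsgLib.EqualOrderE8
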