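import Mathlib

/-!
Lemmas for the case of an `A₅` top: central elements and transfer, two commuting involutory
automorphisms of an abelian group of odd order.
-/

set_option autoImplicit false
set_option linter.unusedSectionVars false
set_option linter.style.haveILetI false

namespace CfsgLib.EqualOrderE8

open Subgroup

universe u

/-- A central element of `s`-power order in the derived subgroup of a group with abelian Sylow
`s`-subgroups is trivial. -/
theorem eq_one_of_central_commutator {X : Type u} [Group X] [Finite X] {s : ℕ} [hs : Fact s.Prime]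
    (P : Sylow s X) (hP : ∀ a ∈ (P : Subgroup X), ∀ b ∈ (P : Subgroup X), a * b = b * a) {z : X}
    (hz : z ∈ center X) (hord : z ^ s = 1) (hc : z ∈ _root_.commutator X) : z = 1 := by
  letI : CommGroup (P : Subgroup X) :=
    { (inferInstance : Group (P : Subgroup X)) with
      mul_comm := fun a b => Subtype.ext (hP a a.2 b b.2) }
  let τ : X →* (P : Subgroup X) := MonoidHom.transfer (MonoidHom.id (P : Subgroup X))
  have h1 : τ z = 1 := Abelianization.commutator_subset_ker τ hc
  have key : ∀ (k : ℕ) (g₀ : X), g₀⁻¹ * z ^ k * g₀ ∈ (P : Subgroup X) →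
      g₀⁻¹ * z ^ k * g₀ = z ^ k := fun k g₀ _ => by
    rw [mul_assoc, ← mem_center_iff.1 (pow_mem hz k) g₀, inv_mul_cancel_left]
  have h2 := MonoidHom.transfer_eq_pow (MonoidHom.id (P : Subgroup X)) z key
  change τ z = _ at h2
  rw [h1] at h2
  have h3 : z ^ (P : Subgroup X).index = 1 := (congrArg Subtype.val h2).symm
  refine orderOf_eq_one_iff.1 (Nat.eq_one_of_dvd_coprimes ?_ (orderOf_dvd_of_pow_eq_one hord)
    (orderOf_dvd_of_pow_eq_one h3))
  exact (hs.out.coprime_iff_not_dvd).2 P.not_dvd_index

/-- In a group generated by elements squaring to one, the derived subgroup contains every central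
element of odd order. -/
theorem mem_commutator_of_odd {X : Type u} [Group X] {S : Set X} (hS : closure S = ⊤)
    (h2 : ∀ x ∈ S, x * x = 1) {z : X} (hz : Odd (orderOf z)) : z ∈ _root_.commutator X := by
  rw [← Abelianization.ker_of, MonoidHom.mem_ker]
  let φ : X →* Abelianization X := (powMonoidHom 2).comp Abelianization.of
  have hker : φ.ker = ⊤ := top_le_iff.1 (hS ▸ (closure_le _).2 fun x hx => by
    show Abelianization.of x ^ 2 = 1
    rw [← map_pow, pow_two, h2 x hx, map_one])
  have h3 : Abelianization.of z ^ 2 = 1 := (hker ▸ mem_top z : z ∈ φ.ker)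
  refine orderOf_eq_one_iff.1 (Nat.eq_one_of_dvd_coprimes (Nat.coprime_two_left.2 hz)
    (orderOf_dvd_of_pow_eq_one h3) ?_)
  exact orderOf_map_dvd Abelianization.of z

section Pair

variable {D : Type u} [CommGroup D] [Finite D]

/-- The moved part of an endomorphism. -/
def moved (σ : D →* D) : D →* D where
  toFun z := z / σ z
  map_one' := by simp
  map_mul' a b := by rw [map_mul, mul_div_mul_comm]

theorem mem_ker_moved {σ : D →* D} {z : D} : z ∈ (moved σ).ker ↔ σ z = z := by
  rw [MonoidHom.mem_ker]
  show z / σ z = 1 ↔ _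
  rw [div_eq_one, eq_comm]

theorem exists_sqrt (hodd : Odd (Nat.card D)) (z : D) : ∃ w : D, w ^ 2 = z :=
  (powCoprime (Nat.coprime_two_right.2 hodd)).surjective z

theorem sq_inj (hodd : Odd (Nat.card D)) {z w : D} (h : z ^ 2 = w ^ 2) : z = w :=
  (powCoprime (Nat.coprime_two_right.2 hodd)).injective h

theorem mem_range_moved (hodd : Odd (Nat.card D)) {σ : D →* D} (hσ : ∀ z, σ (σ z) = z) {z : D} :
    z ∈ (moved σ).range ↔ σ z = z⁻¹ := by
  constructor
  · rintro ⟨w, rfl⟩
    show σ (w / σ w) = (w / σ w)⁻¹
    rw [map_div, hσ, inv_div]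
  · intro hz
    obtain ⟨w, rfl⟩ := exists_sqrt hodd z
    refine ⟨w, ?_⟩
    have hw : σ w = w⁻¹ := sq_inj hodd (by rw [← map_pow, hz, inv_pow])
    show w / σ w = w ^ 2
    rw [hw, div_inv_eq_mul, pow_two]

theorem eq_one_of_eq_inv (hodd : Odd (Nat.card D)) {z : D} (h : z = z⁻¹) : z = 1 :=
  sq_inj hodd (by rw [one_pow, pow_two, ← eq_inv_iff_mul_eq_one]; exact h)

/-- Two commuting involutory automorphisms and their product do not all move exactly a group of
prime order. -/
theorem not_all_reflections (hodd : Odd (Nat.card D)) {s : ℕ} [hs : Fact s.Prime] {α β : D →* D}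
    (hα : ∀ z, α (α z) = z) (hβ : ∀ z, β (β z) = z) (hc : ∀ z, α (β z) = β (α z))
    (h1 : Nat.card (moved α).range = s) (h2 : Nat.card (moved β).range = s)
    (h3 : Nat.card (moved (α.comp β)).range = s) : False := by
  have hγ : ∀ z, (α.comp β) ((α.comp β) z) = z := fun z => by
    show α (β (α (β z))) = z
    rw [← hc, hα, hβ]
  have prime_eq : ∀ {A : Subgroup D}, Nat.card A = s → ∀ {x}, x ∈ A → x ≠ 1 → zpowers x = A :=
    fun {A} hA {x} hx hx1 => by
      refine Subgroup.eq_of_le_of_card_ge (zpowers_le.2 hx) ?_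
      rw [hA, Nat.card_zpowers]
      have := Subgroup.orderOf_dvd_natCard A hx
      rw [hA] at this
      rcases (Nat.dvd_prime hs.out).1 this with e | e
      · exact absurd (orderOf_eq_one_iff.1 e) hx1
      · exact e.ge
  have exists_ne : ∀ {A : Subgroup D}, Nat.card A = s → ∃ x ∈ A, x ≠ 1 := fun {A} hA => by
    obtain ⟨x, hx⟩ := exists_prime_orderOf_dvd_card' (G := A) s (dvd_of_eq hA.symm)
    refine ⟨x, x.2, fun e => ?_⟩
    rw [← Subgroup.orderOf_coe, e, orderOf_one] at hx
    exact hs.out.one_lt.ne hx
  -- no common moved element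
  have common : ∀ y, α y = y⁻¹ → β y = y⁻¹ → y = 1 := by
    intro y hya hyb
    by_contra hy1
    have hM : (moved α).range = (moved β).range :=
      (prime_eq h1 ((mem_range_moved hodd hα).2 hya) hy1).symm.trans
        (prime_eq h2 ((mem_range_moved hodd hβ).2 hyb) hy1)
    have hall : ∀ z, α (β z) = z := by
      intro z
      have f1 : β (z * α z) = z * α z := by
        have hm : moved β (z * α z) ∈ (moved α).range := hM.symm ▸ ⟨_, rfl⟩
        rw [mem_range_moved hodd hα] at hm
        have hf : α (moved β (z * α z)) = moved β (z * α z) := by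
          show α (z * α z / β (z * α z)) = z * α z / β (z * α z)
          rw [map_div, hc, map_mul α, hα, mul_comm (α z) z]
        have := eq_one_of_eq_inv hodd (hf.symm.trans hm)
        exact mem_ker_moved.1 this
      have f2 : β (z / α z) = α z / z := by
        have hm : z / α z ∈ (moved β).range := hM ▸ ⟨z, rfl⟩
        rw [(mem_range_moved hodd hβ).1 hm, inv_div]
      have f3 : β z = α z := sq_inj hodd (by
        rw [← map_pow, show z ^ 2 = (z * α z) * (z / α z) by
          rw [div_eq_mul_inv, mul_mul_mul_comm, mul_inv_cancel, mul_one, pow_two], map_mul, f1, f2,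
          mul_div, mul_comm (z * α z), mul_div_assoc, mul_div_cancel_left, pow_two])
      rw [f3, hα]
    have : (moved (α.comp β)).range = ⊥ := by
      rw [MonoidHom.range_eq_bot_iff]
      ext z
      show z / α (β z) = 1
      rw [hall, div_self']
    rw [this, card_bot] at h3
    exact hs.out.one_lt.ne h3
  obtain ⟨x, hx, hx1⟩ := exists_ne h1
  obtain ⟨y, hy, hy1⟩ := exists_ne h2
  rw [mem_range_moved hodd hα] at hx
  rw [mem_range_moved hodd hβ] at hy
  have hxb : β x = x := by
    refine div_eq_one.1 (common (x / β x) ?_ ?_) |>.symm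
    · rw [map_div, hc, hx, map_inv, ← inv_div']
    · rw [map_div, hβ, inv_div]
  have hya : α y = y := by
    refine div_eq_one.1 (common (y / α y) ?_ ?_) |>.symm
    · rw [map_div, hα, inv_div]
    · rw [map_div, ← hc, hy, map_inv, ← inv_div']
  have hxg : x ∈ (moved (α.comp β)).range := (mem_range_moved hodd hγ).2 (by
    show α (β x) = x⁻¹
    rw [hxb, hx])
  have hyg : y ∈ (moved (α.comp β)).range := (mem_range_moved hodd hγ).2 (by
    show α (β y) = y⁻¹
    rw [hy, map_inv, hya])
  have hyx : y ∈ zpowers x := (prime_eq h3 hxg hx1).symm ▸ hyg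
  refine hy1 (eq_one_of_eq_inv hodd ?_)
  rw [← (mem_range_moved hodd hα).1 (zpowers_le.2 ((mem_range_moved hodd hα).2 hx) hyx), hya]

end Pair

end CfsgLib.EqualOrderE8
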