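import Cfsg.Agent.Lib.RankOneInvol.OddGroup
import Cfsg.Agent.Lib.HallNumbers.Forward
import Cfsg.Agent.Lib.Involutions.Basic

/-!
A group `H` of coprime automorphisms of an elementary abelian `r`-group `R`, transitive on the
subgroups of order `r`, with elementary two-subgroups, in which an element of `R#` is fixed by no
four-group: if moreover the involutions commuting with an involution `a` that invert `C_R(a)`
commute, and `|R| ≥ r⁴`, then `H` is solvable.
-/

set_option autoImplicit false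
set_option linter.unusedSectionVars false
set_option linter.style.haveILetI false

namespace CfsgLib.EqualOrderE8

open Subgroup

universe u

variable {G : Type u} [Group G] [Finite G]

/-- The fixed points of `a` in `R`. -/
def fixIn (R : Subgroup G) (a : G) : Subgroup G := R ⊓ centralizer ({a} : Set G)

theorem mem_fixIn {R : Subgroup G} {a x : G} : x ∈ fixIn R a ↔ x ∈ R ∧ x * a = a * x := by
  rw [fixIn, mem_inf, mem_centralizer_singleton_iff]

/-- The hypotheses of the rank argument. -/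
structure Act (R H : Subgroup G) (r : ℕ) : Prop where
  prime : r.Prime
  ne_two : r ≠ 2
  comm : ∀ x ∈ R, ∀ y ∈ R, x * y = y * x
  exp : ∀ x ∈ R, x ^ r = 1
  norm : ∀ h ∈ H, ∀ x ∈ R, h * x * h⁻¹ ∈ R
  two : ∀ S : Subgroup G, IsPGroup 2 S →
    (∀ a ∈ S, ∀ b ∈ S, a * b = b * a) ∧ ∀ a ∈ S, a ^ 2 = 1
  cent : ∀ x ∈ R, x ≠ 1 → ¬ 4 ∣ Nat.card ↥(H ⊓ centralizer ({x} : Set G))
  uniq : ∀ x ∈ R, x ≠ 1 → ∀ a b : G, orderOf a = 2 → orderOf b = 2 → a * b = b * a →
    x * a = a * x → x * b = b * x → a = b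
  fuse : ∀ x ∈ R, ∀ y ∈ R, x ≠ 1 → y ≠ 1 → ∃ h ∈ H, h * x * h⁻¹ ∈ zpowers y
  big : r ^ 4 ≤ Nat.card R
  key : ∀ a ∈ H, ∀ b ∈ H, ∀ b' ∈ H, orderOf a = 2 → orderOf b = 2 → orderOf b' = 2 →
    b * a = a * b → b' * a = a * b' → r < Nat.card (fixIn R a) →
    (∀ x ∈ fixIn R a, b * x * b⁻¹ = x⁻¹) → (∀ x ∈ fixIn R a, b' * x * b'⁻¹ = x⁻¹) →
    b * b' = b' * b

theorem four_identity {X : Type*} [CommGroup X] (w a c : X) :
    w * a * (w * a) * (w * a⁻¹ * c) * (w * a⁻¹ * c⁻¹) = w ^ 4 := by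
  rw [mul_assoc _ (w * a⁻¹ * c), mul_mul_mul_comm (w * a⁻¹) c, mul_inv_cancel, mul_one,
    mul_mul_mul_comm (w * a), mul_mul_mul_comm w a, mul_inv_cancel, mul_one]
  simp only [pow_succ, pow_zero, one_mul, mul_assoc]

theorem sq_eq {a : G} (ha : orderOf a = 2) : a * a = 1 :=
  (CfsgLib.Involutions.orderOf_eq_two_iff_mul.1 ha).2

theorem inv_eq {a : G} (ha : orderOf a = 2) : a⁻¹ = a := inv_eq_of_mul_eq_one_right (sq_eq ha)

theorem orderOf_conj_eq (g a : G) : orderOf (g * a * g⁻¹) = orderOf a :=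
  orderOf_injective (MulAut.conj g).toMonoidHom (MulAut.conj g).injective a

theorem involution_mul {a b : G} (ha : orderOf a = 2) (hb : orderOf b = 2) (hne : a ≠ b)
    (hab : a * b = b * a) : orderOf (a * b) = 2 := by
  refine CfsgLib.Involutions.orderOf_eq_two_iff_mul.2 ⟨fun e => hne ?_, ?_⟩
  · rw [mul_eq_one_iff_eq_inv.1 e, inv_eq hb]
  · rw [show a * b * (a * b) = a * (b * a) * b by group, ← hab,
      show a * (a * b) * b = a * a * (b * b) by group, sq_eq ha, sq_eq hb, one_mul]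

namespace Act

variable {R H : Subgroup G} {r : ℕ} (A : Act R H r)
include A

theorem odd_R {x : G} (hx : x ∈ R) : Odd (orderOf x) :=
  (A.prime.odd_of_ne_two A.ne_two).of_dvd_nat (orderOf_dvd_of_pow_eq_one (A.exp x hx))

theorem eq_one_of_eq_inv {x : G} (hx : x ∈ R) (h : x = x⁻¹) : x = 1 :=
  CfsgLib.RankOneInvol.eq_one_of_sq_of_odd (A.odd_R hx) (eq_inv_iff_mul_eq_one.1 h)

/-- An involution commuting with `v` inverts the fixed points of `v`. -/
theorem inverts {u v x : G} (huH : u ∈ H) (hu : orderOf u = 2) (hv : orderOf v = 2) (hne : u ≠ v)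
    (hc : u * v = v * u) (hx : x ∈ fixIn R v) : u * x * u⁻¹ = x⁻¹ := by
  obtain ⟨hxR, hxv⟩ := mem_fixIn.1 hx
  have hx' := A.norm u huH x hxR
  have hy : x * (u * x * u⁻¹) = 1 := by
    by_contra hy1
    refine hne (A.uniq _ (mul_mem hxR hx') hy1 u v hu hv hc ?_ ?_)
    · have e : u * (x * (u * x * u⁻¹)) * u⁻¹ = x * (u * x * u⁻¹) := by
        rw [show u * (x * (u * x * u⁻¹)) * u⁻¹ = (u * x * u⁻¹) * ((u * u) * x * (u * u)⁻¹) by group,
          sq_eq hu, inv_one, one_mul, mul_one]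
        exact A.comm _ hx' _ hxR
      exact (mul_inv_eq_iff_eq_mul.1 e).symm
    · have c1 : Commute v x := (show Commute x v from hxv).symm
      have c2 : Commute v u := (show Commute u v from hc).symm
      exact (c1.mul_right ((c2.mul_right c1).mul_right c2.inv_right)).symm.eq
  exact eq_inv_of_mul_eq_one_right hy

/-- Two commuting involutions have no common nonidentity fixed point. -/
theorem eq_one_of_fix {u v x : G} (huH : u ∈ H) (hu : orderOf u = 2) (hv : orderOf v = 2)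
    (hne : u ≠ v) (hc : u * v = v * u) (hxu : x ∈ fixIn R u) (hxv : x ∈ fixIn R v) : x = 1 := by
  refine A.eq_one_of_eq_inv (mem_fixIn.1 hxu).1 ?_
  rw [← A.inverts huH hu hv hne hc hxv]
  exact (mul_inv_eq_iff_eq_mul.2 (mem_fixIn.1 hxu).2.symm).symm

/-- `R` is generated by the fixed points of the involutions of a four-group. -/
theorem split {a b : G} (haH : a ∈ H) (hbH : b ∈ H) (ha : orderOf a = 2) (hb : orderOf b = 2)
    (hab : a * b = b * a) {x : G} (hx : x ∈ R) :
    ∃ p ∈ fixIn R a, ∃ q ∈ fixIn R b, ∃ s ∈ fixIn R (a * b), x ^ 4 = p * q * s := by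
  classical
  letI : CommGroup R :=
    { (inferInstance : Group R) with mul_comm := fun u v => Subtype.ext (A.comm u u.2 v v.2) }
  let σ : ∀ u ∈ H, R →* R := fun u hu =>
    { toFun := fun y => ⟨u * y * u⁻¹, A.norm u hu y y.2⟩
      map_one' := Subtype.ext (by simp)
      map_mul' := fun y z => Subtype.ext (by simp [mul_assoc]) }
  set α := σ a haH
  set β := σ b hbH
  have hα : ∀ y : R, α (α y) = y := fun y => Subtype.ext (by
    show a * (a * (y : G) * a⁻¹) * a⁻¹ = y
    rw [show a * (a * (y : G) * a⁻¹) * a⁻¹ = (a * a) * y * (a * a)⁻¹ by group, sq_eq ha, inv_one,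
      one_mul, mul_one])
  have hβ : ∀ y : R, β (β y) = y := fun y => Subtype.ext (by
    show b * (b * (y : G) * b⁻¹) * b⁻¹ = y
    rw [show b * (b * (y : G) * b⁻¹) * b⁻¹ = (b * b) * y * (b * b)⁻¹ by group, sq_eq hb, inv_one,
      one_mul, mul_one])
  have hαβ : ∀ y : R, α (β y) = β (α y) := fun y => Subtype.ext (by
    show a * (b * (y : G) * b⁻¹) * a⁻¹ = b * (a * (y : G) * a⁻¹) * b⁻¹
    rw [show a * (b * (y : G) * b⁻¹) * a⁻¹ = (a * b) * y * (a * b)⁻¹ by group, hab]
    group)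
  set w : R := ⟨x, hx⟩
  set y := w * (α w)⁻¹ with hydef
  have hy : α y = y⁻¹ := by rw [hydef, map_mul, map_inv, hα, mul_inv, inv_inv, mul_comm]
  have hfix : ∀ (u : G) (hu : u ∈ H) (z : R), σ u hu z = z → (z : G) ∈ fixIn R u := fun u hu z e =>
    mem_fixIn.2 ⟨z.2, (mul_inv_eq_iff_eq_mul.1 (congrArg Subtype.val e)).symm⟩
  refine ⟨_, hfix a haH ((w * α w) * (w * α w)) ?_, _, hfix b hbH (y * β y) ?_,
    _, hfix (a * b) (mul_mem haH hbH) (y * (β y)⁻¹) ?_, ?_⟩
  · show α ((w * α w) * (w * α w)) = _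
    rw [map_mul, map_mul, hα, mul_comm (α w) w]
  · show β (y * β y) = _
    rw [map_mul, hβ, mul_comm]
  · have h2 : ∀ z : R, σ (a * b) (mul_mem haH hbH) z = α (β z) := fun z => Subtype.ext (by
      show a * b * (z : G) * (a * b)⁻¹ = a * (b * (z : G) * b⁻¹) * a⁻¹
      group)
    rw [h2, map_mul β, map_inv β, hβ, map_mul α, hαβ, map_inv α, hy, inv_inv, map_inv β,
      mul_comm]
  · show x ^ 4 = ((((w * α w) * (w * α w)) * (y * β y) * (y * (β y)⁻¹) : R) : G)
    have : ((w * α w) * (w * α w)) * (y * β y) * (y * (β y)⁻¹) = w ^ 4 := four_identity w (α w) (β y)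
    rw [this, SubmonoidClass.coe_pow]

theorem exists_ne_one : ∃ x ∈ R, x ≠ 1 := by
  refine R.ne_bot_iff_exists_ne_one.1 (fun e => ?_) |>.elim fun x hx => ⟨x, x.2, fun e => hx (Subtype.ext e)⟩
  have h1 := A.big
  rw [e, Subgroup.card_bot] at h1
  have := Nat.one_lt_pow (show (4 : ℕ) ≠ 0 by norm_num) A.prime.one_lt
  omega

theorem surj_pow_four {x : G} (hx : x ∈ R) : ∃ y ∈ R, y ^ 4 = x := by
  obtain ⟨k, hk⟩ := CfsgLib.RankOneInvol.exists_pow_sq_eq (A.odd_R hx)
  obtain ⟨j, hj⟩ := CfsgLib.RankOneInvol.exists_pow_sq_eq (A.odd_R (pow_mem hx k))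
  exact ⟨(x ^ k) ^ j, pow_mem (pow_mem hx k) j, by
    rw [show (4 : ℕ) = 2 * 2 from rfl, pow_mul _ 2 2, pow_two ((x ^ k) ^ j), hj, pow_two, hk]⟩

/-- No three independent commuting involutions. -/
theorem no_eight {a b d : G} (haH : a ∈ H) (hbH : b ∈ H) (hdH : d ∈ H) (ha : orderOf a = 2)
    (hb : orderOf b = 2) (hd : orderOf d = 2) (hne : a ≠ b) (hab : a * b = b * a)
    (had : a * d = d * a) (hbd : b * d = d * b) (h2 : d ≠ a) (h3 : d ≠ b) (h4 : d ≠ a * b) :
    False := by
  obtain ⟨x, hxR, hx1⟩ := A.exists_ne_one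
  obtain ⟨p, hp, q, hq, s, hs, e⟩ := A.split haH hbH ha hb hab hxR
  have hab2 := involution_mul ha hb hne hab
  have hab' : Commute a b := hab
  have h1 : x ^ 4 ≠ 1 := fun e4 => hx1 (orderOf_eq_one_iff.1 (Nat.eq_one_of_dvd_coprimes
    (Nat.Coprime.pow_right 2 (Nat.coprime_two_right.2 (A.odd_R hxR))) dvd_rfl
    (by simpa using orderOf_dvd_of_pow_eq_one e4)))
  have main : ∀ v w z : G, w ∈ H → orderOf v = 2 → orderOf w = 2 → v ≠ w → v * w = w * v →
      v * d = d * v → w * d = d * w → d ≠ v → d ≠ w → v ≠ w * d → z ∈ fixIn R v → z = 1 := by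
    intro v w z hwH hv hw hvw hc hvd hwd hdv hdw hn hz
    by_contra hz1
    have i1 := A.inverts hwH hw hv hvw.symm hc.symm hz
    have i2 := A.inverts hdH hd hv hdv hvd.symm hz
    have hwd2 := involution_mul hw hd hdw.symm hwd
    refine hn (A.uniq z (mem_fixIn.1 hz).1 hz1 v (w * d) hv hwd2 ?_ (mem_fixIn.1 hz).2 ?_)
    · exact ((show Commute v w from hc).mul_right hvd).eq
    · have e : w * d * z * (w * d)⁻¹ = z := by
        rw [show w * d * z * (w * d)⁻¹ = w * (d * z * d⁻¹) * w⁻¹ by group, i2,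
          show w * z⁻¹ * w⁻¹ = (w * z * w⁻¹)⁻¹ by group, i1, inv_inv]
      exact (mul_inv_eq_iff_eq_mul.1 e).symm
  have nab : ∀ {u v : G}, orderOf u = 2 → u * v = 1 → v = u := fun hu e => by
    rw [← inv_eq hu, eq_inv_of_mul_eq_one_right e]
  have hp1 := main a b p hbH ha hb hne hab had hbd h2 h3
    (fun e => h4 (by rw [hab, e, ← mul_assoc, sq_eq hb, one_mul])) hp
  have hq1 := main b a q haH hb ha hne.symm hab.symm hbd had h3 h2
    (fun e => h4 (by rw [e, ← mul_assoc, sq_eq ha, one_mul])) hq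
  have hs1 := main (a * b) a s haH hab2 ha
    (fun e => (CfsgLib.Involutions.orderOf_eq_two_iff_mul.1 hb).1 (mul_left_cancel (e.trans (mul_one a).symm)))
    (((Commute.refl a).mul_left hab'.symm).eq)
    (((show Commute a d from had).mul_left hbd).eq) had h4 h2
    (fun e => h3 (mul_left_cancel e).symm) hs
  exact h1 (by rw [e, hp1, hq1, hs1, one_mul, one_mul])

/-- The involutions commuting with `a` commute, when the fixed points of `a` are large. -/
theorem commute_of_cent {a u v : G} (haH : a ∈ H) (huH : u ∈ H) (hvH : v ∈ H) (ha : orderOf a = 2)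
    (hu : orderOf u = 2) (hv : orderOf v = 2) (hua : u * a = a * u) (hva : v * a = a * v)
    (hbig : r < Nat.card (fixIn R a)) : u * v = v * u := by
  by_cases h1 : u = a
  · rw [h1, hva]
  by_cases h2 : v = a
  · rw [h2, hua]
  exact A.key a haH u huH v hvH ha hu hv hua hva hbig (fun x hx => A.inverts huH hu ha h1 hua hx)
    fun x hx => A.inverts hvH hv ha h2 hva hx

theorem orderOf_conj_mem {u g : G} (huH : u ∈ H) (hgH : g ∈ H) : g * u * g⁻¹ ∈ H :=
  mul_mem (mul_mem hgH huH) (inv_mem hgH)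

/-- An element of odd order centralising an involution centralises every involution commuting with
it. -/
theorem odd_comm {a b c : G} (haH : a ∈ H) (hbH : b ∈ H) (hcH : c ∈ H) (ha : orderOf a = 2)
    (hb : orderOf b = 2) (hne : a ≠ b) (hab : a * b = b * a) (hbig : r < Nat.card (fixIn R a))
    (hc : Odd (orderOf c)) (hca : c * a = a * c) : c * b = b * c := by
  set b' := c * b * c⁻¹ with hb'
  have hb'H : b' ∈ H := A.orderOf_conj_mem hbH hcH
  have hb2 : orderOf b' = 2 := (orderOf_conj_eq c b).trans hb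
  have hc' : Commute c a := hca
  have hb'a : b' * a = a * b' :=
    ((hc'.mul_left (show Commute b a from hab.symm)).mul_left hc'.inv_left).eq
  have hcb := A.commute_of_cent haH hbH hb'H ha hb hb2 hab.symm hb'a hbig
  have h3 : b' = b ∨ b' = a * b := by
    by_contra! hh
    refine A.no_eight haH hbH hb'H ha hb hb2 hne hab hb'a.symm hcb (fun e => hne ?_) hh.1 hh.2
    have : b = c⁻¹ * a * c := by rw [← e, hb']; group
    rw [this, mul_assoc, ← hca, inv_mul_cancel_left]
  rcases h3 with e | e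
  · exact mul_inv_eq_iff_eq_mul.1 e
  · have h2 : c * c * b = b * (c * c) := by
      refine mul_inv_eq_iff_eq_mul.1 ?_
      calc c * c * b * (c * c)⁻¹ = c * (c * b * c⁻¹) * c⁻¹ := by group
        _ = c * a * b * c⁻¹ := by rw [← hb', e, ← mul_assoc]
        _ = a * (c * b * c⁻¹) := by rw [hca]; group
        _ = b := by rw [← hb', e, ← mul_assoc, sq_eq ha, one_mul]
    obtain ⟨k, hk⟩ := CfsgLib.RankOneInvol.exists_pow_sq_eq hc
    have h5 : Commute ((c * c) ^ k) b := (show Commute (c * c) b from h2).pow_left k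
    rwa [(Commute.refl c).mul_pow, hk] at h5

/-- Involutions fixing the same point are conjugate among such elements. -/
theorem conj_in_cent {x u v : G} (hx : x ∈ R) (hx1 : x ≠ 1) (huH : u ∈ H) (hvH : v ∈ H)
    (hu : orderOf u = 2) (hv : orderOf v = 2) (hux : x * u = u * x) (hvx : x * v = v * x) :
    ∃ k ∈ H, k * x = x * k ∧ k * u * k⁻¹ = v := by
  classical
  haveI : Fact (Nat.Prime 2) := ⟨Nat.prime_two⟩
  set K : Subgroup G := H ⊓ centralizer ({x} : Set G) with hK
  let u' : K := ⟨u, huH, mem_centralizer_singleton_iff.2 hux.symm⟩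
  let v' : K := ⟨v, hvH, mem_centralizer_singleton_iff.2 hvx.symm⟩
  have h4 := A.cent x hx hx1
  have hu' : orderOf u' = 2 := by rw [← Subgroup.orderOf_coe]; exact hu
  have hv' : orderOf v' = 2 := by rw [← Subgroup.orderOf_coe]; exact hv
  have hfac : (Nat.card K).factorization 2 = 1 := by
    refine le_antisymm ?_ ?_
    · by_contra hlt
      exact h4 ((Nat.prime_two.pow_dvd_iff_le_factorization Nat.card_pos.ne').2
        (show 2 ≤ _ by omega) : 2 ^ 2 ∣ Nat.card K)
    · exact (Nat.prime_two.pow_dvd_iff_le_factorization Nat.card_pos.ne').1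
        (by rw [pow_one]; exact hu' ▸ orderOf_dvd_natCard u')
  let P : Sylow 2 K := Sylow.ofCard (zpowers u') (by rw [Nat.card_zpowers, hu', hfac, pow_one])
  let Q : Sylow 2 K := Sylow.ofCard (zpowers v') (by rw [Nat.card_zpowers, hv', hfac, pow_one])
  obtain ⟨k, hk⟩ := MulAction.exists_smul_eq K P Q
  have h1 : k * u' * k⁻¹ ∈ zpowers v' := by
    have h2 : ((k • P : Sylow 2 K) : Subgroup K) = zpowers v' := by rw [hk]; rfl
    rw [← h2, Sylow.coe_subgroup_smul]
    exact ⟨u', mem_zpowers u', rfl⟩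
  refine ⟨k, k.2.1, mem_centralizer_singleton_iff.1 k.2.2, ?_⟩
  obtain ⟨i, hi⟩ := mem_zpowers_iff.1 h1
  have ho : orderOf (k * u' * k⁻¹) = 2 := (orderOf_conj_eq k u').trans hu'
  rw [zpow_eq_zpow_emod' (n := 2) i (by rw [← hv']; exact pow_orderOf_eq_one v')] at hi
  have : i % ((2 : ℕ) : ℤ) = 0 ∨ i % ((2 : ℕ) : ℤ) = 1 := by omega
  rcases this with e | e <;> rw [e] at hi
  · rw [zpow_zero] at hi; rw [← hi, orderOf_one] at ho; omega
  · rw [zpow_one] at hi; exact (congrArg Subtype.val hi).symm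

section moved

variable (hfix : ∀ u ∈ H, orderOf u = 2 → ∃ x ∈ fixIn R u, x ≠ 1)
include hfix

theorem card_fix_le {u v : G} (huH : u ∈ H) (hvH : v ∈ H) (hu : orderOf u = 2)
    (hv : orderOf v = 2) : Nat.card (fixIn R u) ≤ Nat.card (fixIn R v) := by
  obtain ⟨x, hx, hx1⟩ := hfix u huH hu
  obtain ⟨y, hy, hy1⟩ := hfix v hvH hv
  obtain ⟨hxR, hxu⟩ := mem_fixIn.1 hx
  obtain ⟨hyR, hyv⟩ := mem_fixIn.1 hy
  obtain ⟨h, hh, hhx⟩ := A.fuse x hxR y hyR hx1 hy1
  set z := h * x * h⁻¹
  have hzR : z ∈ R := A.norm h hh x hxR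
  have hz1 : z ≠ 1 := fun e => hx1 (conj_eq_one_iff.1 e)
  have hzu : z * (h * u * h⁻¹) = h * u * h⁻¹ * z := by
    show h * x * h⁻¹ * (h * u * h⁻¹) = h * u * h⁻¹ * (h * x * h⁻¹)
    rw [show h * x * h⁻¹ * (h * u * h⁻¹) = h * (x * u) * h⁻¹ by group, hxu]; group
  have hzv : z * v = v * z := by
    obtain ⟨i, hi⟩ := mem_zpowers_iff.1 hhx
    rw [← hi]
    exact ((show Commute y v from hyv).zpow_left i).eq
  obtain ⟨k, hk, -, hkv⟩ := A.conj_in_cent hzR hz1 (A.orderOf_conj_mem huH hh) hvH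
    ((orderOf_conj_eq h u).trans hu) hv hzu hzv
  have hc : k * h * u * (k * h)⁻¹ = v := by rw [← hkv]; group
  refine Nat.card_le_card_of_injective
    (fun w : fixIn R u => (⟨k * h * w * (k * h)⁻¹, mem_fixIn.2
      ⟨A.norm _ (mul_mem hk hh) _ (mem_fixIn.1 w.2).1, ?_⟩⟩ : fixIn R v)) ?_
  · rw [← hc, show k * h * w * (k * h)⁻¹ * (k * h * u * (k * h)⁻¹) = k * h * (w * u) * (k * h)⁻¹
      by group, (mem_fixIn.1 w.2).2]
    group
  · intro w w' e
    exact Subtype.ext (mul_left_cancel (mul_right_cancel (congrArg Subtype.val e)))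

/-- The fixed points of an involution are larger than `r`. -/
theorem card_fix {a b : G} (haH : a ∈ H) (hbH : b ∈ H) (ha : orderOf a = 2) (hb : orderOf b = 2)
    (hne : a ≠ b) (hab : a * b = b * a) :
    Nat.card R ≤ Nat.card (fixIn R a) ^ 3 ∧ r < Nat.card (fixIn R a) := by
  have hab2 := involution_mul ha hb hne hab
  have h3 : Nat.card R ≤ Nat.card (fixIn R a) ^ 3 := by
    let f : (fixIn R a × fixIn R b) × fixIn R (a * b) → R := fun z =>
      ⟨z.1.1 * z.1.2 * z.2, mul_mem (mul_mem (mem_fixIn.1 z.1.1.2).1 (mem_fixIn.1 z.1.2.2).1)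
        (mem_fixIn.1 z.2.2).1⟩
    have hf : Function.Surjective f := by
      rintro ⟨x, hx⟩
      obtain ⟨y, hy, rfl⟩ := A.surj_pow_four hx
      obtain ⟨p, hp, q, hq, s, hs, e⟩ := A.split haH hbH ha hb hab hy
      exact ⟨((⟨p, hp⟩, ⟨q, hq⟩), ⟨s, hs⟩), Subtype.ext e.symm⟩
    have := Nat.card_le_card_of_surjective f hf
    rw [Nat.card_prod, Nat.card_prod] at this
    refine this.trans ?_
    rw [show Nat.card (fixIn R a) ^ 3 =
      Nat.card (fixIn R a) * Nat.card (fixIn R a) * Nat.card (fixIn R a) by ring]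
    exact Nat.mul_le_mul (Nat.mul_le_mul le_rfl (A.card_fix_le hfix hbH haH hb ha))
      (A.card_fix_le hfix (mul_mem haH hbH) haH hab2 ha)
  refine ⟨h3, ?_⟩
  by_contra hle
  have := Nat.pow_lt_pow_right A.prime.one_lt (show 3 < 4 by norm_num)
  have := Nat.pow_le_pow_left (Nat.le_of_not_lt hle) 3
  have := A.big
  omega

/-- Two involutions with partners invert a common nonidentity element. -/
theorem exists_inverted {u v u' v' : G} (huH : u ∈ H) (hvH : v ∈ H) (hu'H : u' ∈ H)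
    (hv'H : v' ∈ H) (hu : orderOf u = 2) (hv : orderOf v = 2) (hu' : orderOf u' = 2)
    (hv' : orderOf v' = 2) (hneu : u ≠ u') (hnev : v ≠ v') (hcu : u * u' = u' * u)
    (hcv : v * v' = v' * v) : ∃ x ∈ R, x ≠ 1 ∧ u * x * u⁻¹ = x⁻¹ ∧ v * x * v⁻¹ = x⁻¹ := by
  have key : ∀ w w' : G, w ∈ H → w' ∈ H → orderOf w = 2 → orderOf w' = 2 → w ≠ w' →
      w * w' = w' * w → ∀ p ∈ fixIn R w', ∀ q ∈ fixIn R (w * w'),
        w * (p * q) * w⁻¹ = (p * q)⁻¹ ∧ (p * q = 1 → p = 1 ∧ q = 1) := by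
    intro w w' hwH hw'H hw hw' hne hc p hp q hq
    have hww := involution_mul hw hw' hne hc
    have hc2 : Commute w (w * w') := (Commute.refl w).mul_right hc
    have hne2 : w ≠ w * w' := fun e =>
      (CfsgLib.Involutions.orderOf_eq_two_iff_mul.1 hw').1 (mul_left_cancel (e.symm.trans (mul_one w).symm))
    have i1 := A.inverts hwH hw hw' hne hc hp
    have i2 := A.inverts hwH hw hww hne2 hc2.eq hq
    refine ⟨?_, fun e => ?_⟩
    · rw [show w * (p * q) * w⁻¹ = (w * p * w⁻¹) * (w * q * w⁻¹) by group, i1, i2, mul_inv_rev]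
      exact A.comm _ (inv_mem (mem_fixIn.1 hp).1) _ (inv_mem (mem_fixIn.1 hq).1)
    · have hp2 : p ∈ fixIn R (w * w') := by
        rw [mul_eq_one_iff_eq_inv.1 e]; exact inv_mem hq
      have hp1 := A.eq_one_of_fix hw'H hw' hww (fun e =>
        (CfsgLib.Involutions.orderOf_eq_two_iff_mul.1 hw).1 (mul_right_cancel (e.symm.trans (one_mul w').symm)))
        ((show Commute w' w from hc.symm).mul_right (Commute.refl w')).eq hp hp2
      exact ⟨hp1, by rwa [hp1, one_mul] at e⟩
  let f : (fixIn R u' × fixIn R (u * u')) × (fixIn R v' × fixIn R (v * v')) → R := fun z =>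
    ⟨z.1.1 * z.1.2 * ((z.2.1 : G) * z.2.2)⁻¹,
      mul_mem (mul_mem (mem_fixIn.1 z.1.1.2).1 (mem_fixIn.1 z.1.2.2).1)
        (inv_mem (mul_mem (mem_fixIn.1 z.2.1.2).1 (mem_fixIn.1 z.2.2.2).1))⟩
  have hf : ¬ Function.Injective f := by
    intro hinj
    have h1 := Nat.card_le_card_of_injective f hinj
    rw [Nat.card_prod, Nat.card_prod, Nat.card_prod] at h1
    obtain ⟨h3, hlt⟩ := A.card_fix hfix huH hu'H hu hu' hneu hcu
    set m := Nat.card (fixIn R u)
    have h4 : m ^ 4 ≤ Nat.card R := by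
      refine le_trans ?_ h1
      rw [show m ^ 4 = m * m * (m * m) by ring]
      exact Nat.mul_le_mul
        (Nat.mul_le_mul (A.card_fix_le hfix huH hu'H hu hu')
          (A.card_fix_le hfix huH (mul_mem huH hu'H) hu (involution_mul hu hu' hneu hcu)))
        (Nat.mul_le_mul (A.card_fix_le hfix huH hv'H hu hv')
          (A.card_fix_le hfix huH (mul_mem hvH hv'H) hu (involution_mul hv hv' hnev hcv)))
    have := Nat.pow_lt_pow_right (show 1 < m by have := A.prime.one_lt; omega) (show 3 < 4 by norm_num)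
    omega
  simp only [Function.Injective, not_forall] at hf
  obtain ⟨z, z', e, hne⟩ := hf
  set P := (z.1.1 : G) * (z'.1.1 : G)⁻¹
  set Q := (z.1.2 : G) * (z'.1.2 : G)⁻¹
  set P' := (z.2.1 : G) * (z'.2.1 : G)⁻¹
  set Q' := (z.2.2 : G) * (z'.2.2 : G)⁻¹
  obtain ⟨iu, tu⟩ := key u u' huH hu'H hu hu' hneu hcu P (mul_mem z.1.1.2 (inv_mem z'.1.1.2)) Q
    (mul_mem z.1.2.2 (inv_mem z'.1.2.2))
  obtain ⟨iv, tv⟩ := key v v' hvH hv'H hv hv' hnev hcv P' (mul_mem z.2.1.2 (inv_mem z'.2.1.2)) Q'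
    (mul_mem z.2.2.2 (inv_mem z'.2.2.2))
  have hPQ : P * Q = P' * Q' := by
    letI : CommGroup R :=
      { (inferInstance : Group R) with mul_comm := fun u v => Subtype.ext (A.comm u u.2 v v.2) }
    let i : ∀ {S : G} (w : fixIn R S), R := fun w => ⟨w, (mem_fixIn.1 w.2).1⟩
    have e' : i z.1.1 * i z.1.2 * (i z.2.1 * i z.2.2)⁻¹ =
        i z'.1.1 * i z'.1.2 * (i z'.2.1 * i z'.2.2)⁻¹ := e
    have : i z.1.1 * (i z'.1.1)⁻¹ * (i z.1.2 * (i z'.1.2)⁻¹) =
        i z.2.1 * (i z'.2.1)⁻¹ * (i z.2.2 * (i z'.2.2)⁻¹) := by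
      rw [← div_eq_mul_inv, ← div_eq_mul_inv, div_eq_div_iff_div_eq_div, mul_div_mul_comm,
        mul_div_mul_comm] at e'
      simpa only [div_eq_mul_inv] using e'
    exact congrArg Subtype.val this
  refine ⟨P * Q, mul_mem (mul_mem (mem_fixIn.1 z.1.1.2).1 (inv_mem (mem_fixIn.1 z'.1.1.2).1))
    (mul_mem (mem_fixIn.1 z.1.2.2).1 (inv_mem (mem_fixIn.1 z'.1.2.2).1)), ?_, iu, hPQ ▸ iv⟩
  intro e1
  obtain ⟨p1, q1⟩ := tu e1
  obtain ⟨p2, q2⟩ := tv (hPQ ▸ e1)
  refine hne (Prod.ext (Prod.ext ?_ ?_) (Prod.ext ?_ ?_)) <;> apply Subtype.ext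
  exacts [mul_inv_eq_one.1 p1, mul_inv_eq_one.1 q1, mul_inv_eq_one.1 p2, mul_inv_eq_one.1 q2]

/-- An involution inverting `x` commutes with an involution fixing `x`. -/
theorem exists_fix_comm {u x : G} (huH : u ∈ H) (hu : orderOf u = 2) (hxR : x ∈ R) (hx1 : x ≠ 1)
    (hux : u * x * u⁻¹ = x⁻¹) :
    ∃ w ∈ H, orderOf w = 2 ∧ w * u = u * w ∧ x * w = w * x := by
  obtain ⟨y, hy, hy1⟩ := hfix u huH hu
  obtain ⟨h, hh, hhx⟩ := A.fuse x hxR y (mem_fixIn.1 hy).1 hx1 hy1
  set w := h⁻¹ * u * h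
  have hwH : w ∈ H := mul_mem (mul_mem (inv_mem hh) huH) hh
  have hw : orderOf w = 2 := by
    have := orderOf_conj_eq h⁻¹ u
    rw [inv_inv] at this
    exact this.trans hu
  have hwx : x * w = w * x := by
    obtain ⟨i, hi⟩ := mem_zpowers_iff.1 hhx
    have hc : Commute (h * x * h⁻¹) u := by
      rw [← hi]; exact (show Commute y u from (mem_fixIn.1 hy).2).zpow_left i
    show x * (h⁻¹ * u * h) = h⁻¹ * u * h * x
    calc x * (h⁻¹ * u * h) = h⁻¹ * (h * x * h⁻¹ * u) * h := by group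
      _ = h⁻¹ * (u * (h * x * h⁻¹)) * h := by rw [hc.eq]
      _ = h⁻¹ * u * h * x := by group
  set d := u * w with hd
  have hdH : d ∈ H := mul_mem huH hwH
  have hudu : u * d * u⁻¹ = d⁻¹ := by
    rw [hd, mul_inv_rev, inv_eq hu, inv_eq hw, ← mul_assoc, sq_eq hu, one_mul]
  have hdx : d * x * d⁻¹ = x⁻¹ := by
    rw [hd, show u * w * x * (u * w)⁻¹ = u * (w * x * w⁻¹) * u⁻¹ by group, ← hwx,
      mul_inv_cancel_right, hux]
  -- even powers fix `x`, odd powers invert it
  have hpow : ∀ j : ℕ, d ^ j * x * (d ^ j)⁻¹ = if Even j then x else x⁻¹ := by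
    intro j
    induction j with
    | zero => simp
    | succ j ih =>
      rw [show d ^ (j + 1) * x * (d ^ (j + 1))⁻¹ = d * (d ^ j * x * (d ^ j)⁻¹) * d⁻¹ by
        rw [pow_succ']; group, ih]
      by_cases hj : Even j
      · rw [if_pos hj, if_neg (fun e => Nat.even_add_one.1 e hj), hdx]
      · rw [if_neg hj, if_pos (Nat.even_add_one.2 hj),
          show d * x⁻¹ * d⁻¹ = (d * x * d⁻¹)⁻¹ by group, hdx, inv_inv]
  have hn : Even (orderOf d) := by
    by_contra hn
    have := hpow (orderOf d)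
    rw [if_neg hn, pow_orderOf_eq_one, inv_one, one_mul, mul_one] at this
    exact hx1 (A.eq_one_of_eq_inv hxR this)
  obtain ⟨m, hm⟩ := hn
  have hdpos := orderOf_pos d
  set z := d ^ m
  have hz : orderOf z = 2 := by
    rw [orderOf_pow' d (by omega), Nat.gcd_eq_right ⟨2, by omega⟩, hm, show m + m = 2 * m by ring,
      Nat.mul_div_cancel _ (by omega)]
  have hzu : z * u = u * z := by
    have : u * z * u⁻¹ = z := by
      rw [← conj_pow, hudu, inv_pow]
      exact inv_eq hz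
    exact (mul_inv_eq_iff_eq_mul.1 this).symm
  have hzH : z ∈ H := pow_mem hdH m
  by_cases hme : Even m
  · refine ⟨z, hzH, hz, hzu, ?_⟩
    have := hpow m
    rw [if_pos hme] at this
    exact (mul_inv_eq_iff_eq_mul.1 this).symm
  · have hzx := hpow m
    rw [if_neg hme] at hzx
    have hne : u ≠ z := by
      intro e
      have hdu : Commute d u := e ▸ (Commute.refl d).pow_right m
      have hdd : d * d = 1 := by
        have h9 : u * d * u⁻¹ = d := by rw [← hdu.eq, mul_inv_cancel_right]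
        nth_rw 2 [← h9]
        rw [hudu, mul_inv_cancel]
      have hd2 : orderOf d ∣ 2 := orderOf_dvd_of_pow_eq_one (by rw [pow_two]; exact hdd)
      have := Nat.le_of_dvd two_pos hd2
      have hm1 : m = 1 := by omega
      have h8 : u * w = u := by
        rw [show u * w = d ^ m by rw [hm1, pow_one]]
        exact e.symm
      exact (CfsgLib.Involutions.orderOf_eq_two_iff_mul.1 hw).1 (mul_eq_left.1 h8)
    refine ⟨u * z, mul_mem huH hzH, involution_mul hu hz hne hzu.symm,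
      ((Commute.refl u).mul_left (show Commute z u from hzu)).eq, ?_⟩
    have : u * z * x * (u * z)⁻¹ = x := by
      rw [show u * z * x * (u * z)⁻¹ = u * (z * x * z⁻¹) * u⁻¹ by group, hzx,
        show u * x⁻¹ * u⁻¹ = (u * x * u⁻¹)⁻¹ by group, hux, inv_inv]
    exact (mul_inv_eq_iff_eq_mul.1 this).symm

/-- An element of odd order centralising `x` and inverted by an involution inverting `x` is
trivial. -/
theorem eq_one_of_inverted {u x e : G} (huH : u ∈ H) (hu : orderOf u = 2) (hxR : x ∈ R)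
    (hx1 : x ≠ 1) (hux : u * x * u⁻¹ = x⁻¹) (heH : e ∈ H) (he : Odd (orderOf e))
    (hex : e * x = x * e) (heu : u * e * u = e⁻¹) : e = 1 := by
  classical
  haveI : Fact (Nat.Prime 2) := ⟨Nat.prime_two⟩
  obtain ⟨w, hwH, hw, hwu, hwx⟩ := A.exists_fix_comm hfix huH hu hxR hx1 hux
  have hne : w ≠ u := by
    rintro rfl
    refine hx1 (A.eq_one_of_eq_inv hxR ?_)
    rw [← hux, ← hwx, mul_inv_cancel_right]
  set K : Subgroup G := H ⊓ centralizer ({x} : Set G) with hK
  -- a normal subgroup of odd order containing the elements of odd order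
  obtain ⟨P, hP⟩ : ∃ P : Sylow 2 K, Nat.card (P : Subgroup K) ≤ 2 := by
    obtain ⟨P⟩ : Nonempty (Sylow 2 K) := inferInstance
    refine ⟨P, ?_⟩
    obtain ⟨k, hk⟩ := P.2.exists_card_eq
    by_contra hlt
    have : 2 ≤ k := by
      by_contra hk'
      have := Nat.pow_le_pow_right two_pos (show k ≤ 1 by omega)
      omega
    exact A.cent x hxR hx1 (((pow_dvd_pow 2 this).trans (dvd_of_eq hk.symm)).trans
      (card_subgroup_dvd_card (P : Subgroup K)))
  let w' : K := ⟨w, hwH, mem_centralizer_singleton_iff.2 hwx.symm⟩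
  have hw' : orderOf w' = 2 := by rw [← Subgroup.orderOf_coe]; exact hw
  have hP2 : Nat.card (P : Subgroup K) = 2 := by
    refine le_antisymm hP (Nat.le_of_dvd Nat.card_pos ?_)
    rw [Sylow.card_eq_multiplicity]
    exact dvd_pow_self 2 (Nat.Prime.factorization_pos_of_dvd Nat.prime_two Nat.card_pos.ne'
      (hw' ▸ orderOf_dvd_natCard w')).ne'
  haveI hPc : IsCyclic (P : Subgroup K) := isCyclic_of_prime_card hP2
  obtain ⟨P', N, hN, hNP⟩ := CfsgLib.Transfer.hasNormalPComplement_of_normalizer_le P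
    (hPc.normalizer_le_centralizer ((Nat.minFac_eq_two_iff _).2 (hw' ▸ orderOf_dvd_natCard w')))
  have hNcard : Nat.card N * 2 = Nat.card K := by
    rw [← hP2, P.card_eq_multiplicity, ← P'.card_eq_multiplicity]
    exact hNP.card_mul_card
  have hNodd : Odd (Nat.card N) := by
    rw [← Nat.not_even_iff_odd]
    rintro ⟨j, hj⟩
    exact A.cent x hxR hx1 ⟨j, by rw [← hK, ← hNcard, hj]; ring⟩
  have hNidx : N.index = 2 := by
    have h1 := N.card_mul_index
    rw [← hNcard] at h1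
    exact mul_left_cancel₀ Nat.card_pos.ne' h1
  set O := N.map K.subtype
  have hOodd : Odd (Nat.card O) := by
    rw [card_map_of_injective K.subtype_injective]; exact hNodd
  have hOK : ∀ g ∈ O, g ∈ K := by rintro _ ⟨g, -, rfl⟩; exact g.2
  let e' : K := ⟨e, heH, mem_centralizer_singleton_iff.2 hex⟩
  have heO : e ∈ O := by
    refine ⟨e', ?_, rfl⟩
    obtain ⟨k, hk⟩ := CfsgLib.RankOneInvol.exists_pow_sq_eq
      (show Odd (orderOf e') by rw [← Subgroup.orderOf_coe]; exact he)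
    rw [← hk]
    exact Subgroup.mul_self_mem_of_index_two hNidx _
  have hwn : ∀ g ∈ O, w * g * w ∈ O := by
    rintro _ ⟨g, hg, rfl⟩
    refine ⟨w' * g * w'⁻¹, hN.conj_mem g hg w', ?_⟩
    show w * (g : G) * w⁻¹ = w * g * w
    rw [inv_eq hw]
  obtain ⟨y, z, hy, hyw, hz, hzw, heq⟩ :=
    CfsgLib.RankOneInvol.exists_fixed_mul_inverted hOodd (sq_eq hw) hwn heO
  have hodd := fun g hg => CfsgLib.RankOneInvol.odd_orderOf_of_mem hOodd (x := g) hg
  obtain ⟨p, hp, hp1⟩ := hfix w hwH hw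
  have hbig := (A.card_fix hfix hwH huH hw hu hne hwu).2
  have hwy : y * w = w * y := by
    have h1 := congrArg (w * ·) hyw
    simp only [← mul_assoc, sq_eq hw, one_mul] at h1
    exact h1
  have huy : y * u = u * y :=
    A.odd_comm hwH huH (hOK y hy).1 hw hu hne hwu hbig (hodd y hy) hwy
  have h1 : y * (u * z * u) = z⁻¹ * y⁻¹ := by
    rw [show y * (u * z * u) = (y * u) * z * u by group, huy,
      show u * y * z * u = u * (y * z) * u by group, ← heq, heu, heq, mul_inv_rev]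
  have hwy' : w * y⁻¹ * w = y⁻¹ := by
    have := congrArg (·⁻¹) hyw
    simpa [mul_inv_rev, inv_eq hw, mul_assoc] using this
  have hwz' : w * z⁻¹ * w = z := by
    have := congrArg (·⁻¹) hzw
    simpa [mul_inv_rev, inv_eq hw, mul_assoc] using this
  have hwuz : w * (u * z * u) * w = (u * z * u)⁻¹ := by
    rw [show w * (u * z * u) * w = (w * u) * z * (u * w) by group, hwu,
      show u * w * z * (u * w) = u * w * z * ((u * w)) by rfl, ← hwu,
      show w * u * z * (w * u) = w * u * z * (w * u) from rfl]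
    rw [show w * u = u * w from hwu, show u * w * z * (u * w) = u * w * z * (w * u) by rw [hwu],
      show u * w * z * (w * u) = u * (w * z * w) * u by group, hzw]
    conv_rhs => rw [mul_inv_rev, mul_inv_rev, inv_eq hu]
    group
  have h2 : y * (u * z * u)⁻¹ = z * y⁻¹ := by
    have h3 := congrArg (fun g => w * g * w) h1
    have hmul : ∀ g g' : G, w * (g * g') * w = (w * g * w) * (w * g' * w) := fun g g' => by
      rw [show (w * g * w) * (w * g' * w) = w * g * (w * w) * g' * w by group, sq_eq hw]; group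
    rw [hmul y, hmul z⁻¹, hyw, hwuz, hwz', hwy'] at h3
    exact h3
  have h4 : u * z * u = y * z⁻¹ * y := by
    have := congrArg (·⁻¹) h2
    simp only [mul_inv_rev, inv_inv] at this
    rw [← mul_inv_eq_iff_eq_mul]
    rw [show u * z * u * y⁻¹ = (y * z⁻¹ : G) from by
      simpa [mul_inv_rev, inv_eq hu, mul_assoc] using this]
  rw [h4] at h1
  have hy2 : y * y = 1 := by
    refine CfsgLib.RankOneInvol.eq_one_of_conj_eq_inv (g := z) (hodd z hz) (hodd _ (mul_mem hy hy)) ?_
    have h5 : z⁻¹ = (y * y) * z⁻¹ * (y * y) := by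
      calc z⁻¹ = z⁻¹ * y⁻¹ * y := by group
        _ = y * (y * z⁻¹ * y) * y := by rw [h1]
        _ = _ := by group
    calc z * (y * y) * z⁻¹ = z * ((y * y) * z⁻¹ * (y * y)) * (y * y)⁻¹ := by group
      _ = z * z⁻¹ * (y * y)⁻¹ := by rw [← h5]
      _ = (y * y)⁻¹ := by group
  have hy1 : y = 1 := CfsgLib.RankOneInvol.eq_one_of_sq_of_odd (hodd y hy) hy2
  rw [hy1, one_mul, mul_one] at h4
  rw [hy1, one_mul] at heq
  subst heq
  have huw := involution_mul hu hw hne.symm hwu.symm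
  have hzuw : e * (u * w) = u * w * e := by
    have : (u * w) * e * (u * w)⁻¹ = e := by
      rw [show (u * w) * e * (u * w)⁻¹ = u * (w * e * w⁻¹) * u⁻¹ by group, inv_eq hw, hzw,
        show u * e⁻¹ * u⁻¹ = (u * e * u⁻¹)⁻¹ by group, inv_eq hu, h4, inv_inv]
    exact (mul_inv_eq_iff_eq_mul.1 this).symm
  have hne' : u * w ≠ u := fun e =>
    (CfsgLib.Involutions.orderOf_eq_two_iff_mul.1 hw).1 (mul_eq_left.1 e)
  have hc : (u * w) * u = u * (u * w) := by rw [mul_assoc, hwu]
  have heu' : e * u = u * e := A.odd_comm (mul_mem huH hwH) huH heH huw hu hne' hc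
    (A.card_fix hfix (mul_mem huH hwH) huH huw hu hne' hc).2 he hzuw
  refine CfsgLib.RankOneInvol.eq_one_of_sq_of_odd he ?_
  refine eq_inv_iff_mul_eq_one.1 ?_
  calc e = u * (u * e) := by rw [← mul_assoc, sq_eq hu, one_mul]
    _ = u * e * u := by rw [mul_assoc u e u, heu']
    _ = e⁻¹ := heu

/-- Any two involutions commute. -/
theorem commute_all (hpart : ∀ u ∈ H, orderOf u = 2 → ∃ v ∈ H, orderOf v = 2 ∧ u ≠ v ∧ u * v = v * u)
    {u v : G} (huH : u ∈ H) (hvH : v ∈ H) (hu : orderOf u = 2) (hv : orderOf v = 2) :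
    u * v = v * u := by
  by_cases hne : u = v
  · rw [hne]
  set e := u * v with he
  have heu : u * e * u = e⁻¹ := by
    rw [he, mul_inv_rev, inv_eq hu, inv_eq hv, ← mul_assoc, sq_eq hu, one_mul]
  have hev : v * e * v = e⁻¹ := by
    rw [he, mul_inv_rev, inv_eq hu, inv_eq hv, show v * (u * v) * v = v * u * (v * v) by group,
      sq_eq hv, mul_one]
  rcases Nat.even_or_odd (orderOf e) with ⟨m, hm⟩ | hodd
  · have := orderOf_pos e
    have hz : orderOf (e ^ m) = 2 := by
      rw [orderOf_pow' e (by omega), Nat.gcd_eq_right ⟨2, by omega⟩, hm, show m + m = 2 * m by ring,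
        Nat.mul_div_cancel _ (by omega)]
    have hc : ∀ w : G, orderOf w = 2 → w * e * w = e⁻¹ → w * e ^ m = e ^ m * w := by
      intro w hw h
      have h1 : w * e ^ m * w⁻¹ = e ^ m := by
        rw [← conj_pow, inv_eq hw, h, inv_pow, inv_eq hz]
      exact mul_inv_eq_iff_eq_mul.1 h1
    obtain ⟨b, hbH, hb, hzb, hzb'⟩ := hpart _ (pow_mem (mul_mem huH hvH) m) hz
    exact A.commute_of_cent (pow_mem (mul_mem huH hvH) m) huH hvH hz hu hv (hc u hu heu)
      (hc v hv hev) (A.card_fix hfix (pow_mem (mul_mem huH hvH) m) hbH hz hb hzb hzb').2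
  · exfalso
    obtain ⟨u', hu'H, hu', hneu, hcu⟩ := hpart u huH hu
    obtain ⟨v', hv'H, hv', hnev, hcv⟩ := hpart v hvH hv
    obtain ⟨x, hxR, hx1, hux, hvx⟩ :=
      A.exists_inverted hfix huH hvH hu'H hv'H hu hv hu' hv' hneu hnev hcu hcv
    have hex : e * x = x * e := by
      have : e * x * e⁻¹ = x := by
        rw [he, show u * v * x * (u * v)⁻¹ = u * (v * x * v⁻¹) * u⁻¹ by group, hvx,
          show u * x⁻¹ * u⁻¹ = (u * x * u⁻¹)⁻¹ by group, hux, inv_inv]
      exact mul_inv_eq_iff_eq_mul.1 this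
    have h1 := A.eq_one_of_inverted hfix huH hu hxR hx1 hux (mul_mem huH hvH) hodd hex heu
    exact hne (by rw [mul_eq_one_iff_eq_inv.1 (show u * v = 1 from h1), inv_eq hv])

end moved

omit A in
/-- A solvable kernel and a solvable quotient. -/
theorem solvable_of_normal {X : Type u} [Group X] (N : Subgroup X) [N.Normal]
    [Group.IsSolvable N] [Group.IsSolvable (X ⧸ N)] : Group.IsSolvable X :=
  Group.isSolvable_of_ker_le_range N.subtype (QuotientGroup.mk' N)
    (by rw [QuotientGroup.ker_mk', range_subtype])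

theorem not_eight : ¬ 8 ∣ Nat.card H := by
  classical
  haveI : Fact (Nat.Prime 2) := ⟨Nat.prime_two⟩
  intro h8
  obtain ⟨S⟩ : Nonempty (Sylow 2 H) := inferInstance
  set W := (S : Subgroup H).map H.subtype
  obtain ⟨hc, hsq⟩ := A.two W (S.isPGroup'.map _)
  have hWH : ∀ g ∈ W, g ∈ H := by rintro _ ⟨g, -, rfl⟩; exact g.2
  have hW : 8 ≤ (W : Set G).ncard := by
    rw [← Nat.card_coe_set_eq]
    refine Nat.le_of_dvd Nat.card_pos ?_
    show 8 ∣ Nat.card ↥W
    rw [card_map_of_injective H.subtype_injective, Sylow.card_eq_multiplicity]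
    exact pow_dvd_pow 2 ((Nat.prime_two.pow_dvd_iff_le_factorization Nat.card_pos.ne').1
      (show 2 ^ 3 ∣ Nat.card H from h8))
  have pick : ∀ F : Finset G, F.card < 8 → ∃ g ∈ W, g ∉ F := by
    intro F hF
    by_contra! hall
    have := Set.ncard_le_ncard (show (W : Set G) ⊆ (F : Set G) from fun g hg => hall g hg)
      (Finset.finite_toSet F)
    rw [Set.ncard_coe_finset] at this
    omega
  obtain ⟨a, haW, ha1⟩ := pick {1} (by simp)
  obtain ⟨b, hbW, hb1⟩ := pick {1, a} (lt_of_le_of_lt (Finset.card_le_two) (by norm_num))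
  obtain ⟨d, hdW, hd1⟩ := pick {1, a, b, a * b}
    (lt_of_le_of_lt (Finset.card_le_four) (by norm_num))
  simp only [Finset.mem_insert, Finset.mem_singleton, not_or] at ha1 hb1 hd1
  exact A.no_eight (hWH a haW) (hWH b hbW) (hWH d hdW) (orderOf_eq_prime (hsq a haW) ha1)
    (orderOf_eq_prime (hsq b hbW) hb1.1) (orderOf_eq_prime (hsq d hdW) hd1.1) (Ne.symm hb1.2)
    (hc a haW b hbW) (hc a haW d hdW) (hc b hbW d hdW) hd1.2.1 hd1.2.2.1 hd1.2.2.2

/-- An involution inverting `R` forces solvability. -/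
theorem solvable_of_inverts {u : G} (huH : u ∈ H) (hu : orderOf u = 2)
    (hinv : ∀ x ∈ R, u * x * u⁻¹ = x⁻¹) : Group.IsSolvable H := by
  classical
  obtain ⟨x, hxR, hx1⟩ := A.exists_ne_one
  let u' : H := ⟨u, huH⟩
  let C : Subgroup H := (centralizer (R : Set G)).subgroupOf H
  have hCmem : ∀ g : H, g ∈ C ↔ ∀ y ∈ R, y * (g : G) = (g : G) * y := fun g => by
    rw [mem_subgroupOf, mem_centralizer_iff]; rfl
  haveI hCn : C.Normal := by
    refine ⟨fun g hg k => (hCmem _).2 fun y hy => ?_⟩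
    have h1 := (hCmem g).1 hg _ (A.norm _ (inv_mem k.2) y hy)
    rw [inv_inv] at h1
    calc y * ((k : G) * g * (k : G)⁻¹) = (k : G) * ((k : G)⁻¹ * y * k * g) * (k : G)⁻¹ := by group
      _ = (k : G) * (g * ((k : G)⁻¹ * y * k)) * (k : G)⁻¹ := by rw [h1]
      _ = (k : G) * g * (k : G)⁻¹ * y := by group
  haveI : Group.IsSolvable C := by
    refine CfsgLib.HallNumbers.solvable_of_not_four_dvd fun h4 => A.cent x hxR hx1 ?_
    refine h4.trans ?_
    rw [← card_map_of_injective H.subtype_injective (K := C)]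
    refine card_dvd_of_le ?_
    rintro _ ⟨g, hg, rfl⟩
    exact ⟨g.2, mem_centralizer_singleton_iff.2 ((hCmem g).1 hg x hxR).symm⟩
  have hu' : u' ∉ C := fun hC => hx1 (A.eq_one_of_eq_inv hxR (by
    rw [← hinv x hxR, show (u : G) * x = x * u from ((hCmem u').1 hC x hxR).symm,
      mul_inv_cancel_right]))
  -- the image of `u` is central modulo `C`
  set Q := H ⧸ C
  set ū : Q := QuotientGroup.mk' C u'
  have hcen : ū ∈ center Q := mem_center_iff.2 fun q => by
    obtain ⟨g, rfl⟩ := QuotientGroup.mk'_surjective C q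
    rw [← map_mul, ← map_mul]
    refine (QuotientGroup.eq_iff_div_mem.2 ((hCmem _).2 fun y hy => ?_))
    simp only [div_eq_mul_inv, mul_inv_rev, Subgroup.coe_mul, Subgroup.coe_inv]
    have h1 := hinv _ (A.norm _ (inv_mem g.2) _ hy)
    rw [inv_inv] at h1
    have h2 := hinv y hy
    have e1 : (g : G) * u * ((g : G)⁻¹ * u⁻¹) * y * ((g : G) * u * ((g : G)⁻¹ * u⁻¹))⁻¹ = y := by
      calc _ = (g : G) * (u * ((g : G)⁻¹ * (u⁻¹ * y * u) * g) * u⁻¹) * (g : G)⁻¹ := by group
        _ = (g : G) * (u * ((g : G)⁻¹ * y⁻¹ * g) * u⁻¹) * (g : G)⁻¹ := by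
          rw [show u⁻¹ * y * u = y⁻¹ by rw [← h2, inv_eq hu]]
        _ = (g : G) * (u * ((g : G)⁻¹ * y * g) * u⁻¹)⁻¹ * (g : G)⁻¹ := by group
        _ = y := by rw [h1]; group
    exact (mul_inv_eq_iff_eq_mul.1 e1).symm
  have hū : ū ≠ 1 := fun e => hu' ((QuotientGroup.eq_one_iff _).1 e)
  haveI : Group.IsSolvable Q := by
    haveI : Group.IsSolvable (center Q) := Group.isSolvable_of_comm fun a b =>
      Subtype.ext (mem_center_iff.1 b.2 a)
    haveI : Group.IsSolvable (Q ⧸ center Q) := by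
      refine CfsgLib.HallNumbers.solvable_of_not_four_dvd fun h4 => A.not_eight ?_
      have h2 : 2 ∣ Nat.card (center Q) := by
        have ho : orderOf (⟨ū, hcen⟩ : center Q) = 2 :=
          CfsgLib.Involutions.orderOf_eq_two_iff_mul.2
            ⟨fun e => hū (congrArg Subtype.val e), Subtype.ext (by
              show ū * ū = 1
              rw [← map_mul, show u' * u' = 1 from Subtype.ext (sq_eq hu), map_one])⟩
        exact ho ▸ orderOf_dvd_natCard _
      have h3 : Nat.card Q ∣ Nat.card H := C.index_dvd_card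
      refine dvd_trans ?_ h3
      rw [card_eq_card_quotient_mul_card_subgroup (center Q)]
      exact mul_dvd_mul h4 h2
    exact solvable_of_normal (center Q)
  exact solvable_of_normal C

/-- **The rank argument.** -/
theorem solvable : Group.IsSolvable H := by
  classical
  haveI : Fact (Nat.Prime 2) := ⟨Nat.prime_two⟩
  by_cases h4 : 4 ∣ Nat.card H
  swap
  · exact CfsgLib.HallNumbers.solvable_of_not_four_dvd h4
  by_cases hinv : ∃ u ∈ H, orderOf u = 2 ∧ ∀ x ∈ R, u * x * u⁻¹ = x⁻¹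
  · obtain ⟨u, huH, hu, hinv⟩ := hinv
    exact A.solvable_of_inverts huH hu hinv
  push Not at hinv
  have hfix : ∀ u ∈ H, orderOf u = 2 → ∃ x ∈ fixIn R u, x ≠ 1 := by
    intro u huH hu
    obtain ⟨x, hxR, hx⟩ := hinv u huH hu
    have hx' := A.norm u huH x hxR
    refine ⟨x * (u * x * u⁻¹), mem_fixIn.2 ⟨mul_mem hxR hx', ?_⟩,
      fun e => hx (eq_inv_of_mul_eq_one_right e)⟩
    have e : u * (x * (u * x * u⁻¹)) * u⁻¹ = x * (u * x * u⁻¹) := by
      rw [show u * (x * (u * x * u⁻¹)) * u⁻¹ = (u * x * u⁻¹) * ((u * u) * x * (u * u)⁻¹) by group,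
        sq_eq hu, inv_one, one_mul, mul_one]
      exact A.comm _ hx' _ hxR
    exact (mul_inv_eq_iff_eq_mul.1 e).symm
  have hpart : ∀ u ∈ H, orderOf u = 2 → ∃ v ∈ H, orderOf v = 2 ∧ u ≠ v ∧ u * v = v * u := by
    intro u huH hu
    obtain ⟨S, hS⟩ := (IsPGroup.of_card (n := 1) (G := zpowers (⟨u, huH⟩ : H))
      (p := 2) (by rw [Nat.card_zpowers, orderOf_mk, hu, pow_one])).exists_le_sylow
    obtain ⟨hc, hsq⟩ := A.two _ (S.isPGroup'.map H.subtype)
    have hSc : 4 ≤ Nat.card (S : Subgroup H) := by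
      refine Nat.le_of_dvd Nat.card_pos ?_
      rw [Sylow.card_eq_multiplicity]
      exact pow_dvd_pow 2 ((Nat.prime_two.pow_dvd_iff_le_factorization Nat.card_pos.ne').1
        (show 2 ^ 2 ∣ Nat.card H from h4))
    obtain ⟨s, hs, hs1, hsu⟩ : ∃ s ∈ (S : Subgroup H), (s : G) ≠ 1 ∧ (s : G) ≠ u := by
      by_contra! hall
      have hsub : ((S : Subgroup H) : Set H) ⊆ {1, ⟨u, huH⟩} := fun s hs => by
        by_cases h1 : (s : G) = 1
        · exact Or.inl (Subtype.ext h1)
        · exact Or.inr (Subtype.ext (hall s hs h1))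
      have := (Set.ncard_le_ncard hsub (Set.toFinite _)).trans (Set.ncard_insert_le _ _)
      rw [Set.ncard_singleton, ← Nat.card_coe_set_eq] at this
      change Nat.card (S : Subgroup H) ≤ 1 + 1 at this
      omega
    exact ⟨s, s.2, orderOf_eq_prime (hsq _ (mem_map_of_mem _ hs)) hs1, hsu.symm,
      hc _ (mem_map_of_mem _ (hS (mem_zpowers _))) _ (mem_map_of_mem _ hs)⟩
  -- the elements squaring to one form a normal subgroup of odd index
  let W : Subgroup H :=
    { carrier := {g | g * g = 1}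
      one_mem' := mul_one 1
      mul_mem' := fun {g g'} hg hg' => by
        rcases eq_or_ne g 1 with rfl | h1
        · simpa using hg'
        rcases eq_or_ne g' 1 with rfl | h1'
        · simpa using hg
        have ho : ∀ k : H, k * k = 1 → k ≠ 1 → orderOf (k : G) = 2 := fun k hk hk1 => by
          rw [Subgroup.orderOf_coe]
          exact CfsgLib.Involutions.orderOf_eq_two_iff_mul.2 ⟨hk1, hk⟩
        have hcomm : Commute g g' :=
          Subtype.ext (A.commute_all hfix hpart g.2 g'.2 (ho g hg h1) (ho g' hg' h1'))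
        show g * g' * (g * g') = 1
        rw [hcomm.symm.mul_mul_mul_comm, hg, hg', one_mul]
      inv_mem' := fun {g} hg => by
        show g⁻¹ * g⁻¹ = 1
        rw [← mul_inv_rev, hg, inv_one] }
  have hWmem : ∀ g : H, g ∈ W ↔ g * g = 1 := fun g => Iff.rfl
  haveI : W.Normal := ⟨fun g hg k => (hWmem _).2 (by
    rw [show k * g * k⁻¹ * (k * g * k⁻¹) = k * (g * g) * k⁻¹ by group, (hWmem g).1 hg, mul_one,
      mul_inv_cancel])⟩
  haveI : Group.IsSolvable W := Group.isSolvable_of_comm fun a b => by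
    have e : ∀ c : W, c⁻¹ = c := fun c => inv_eq_of_mul_eq_one_right (Subtype.ext c.2)
    calc a * b = (a * b)⁻¹ := (e _).symm
      _ = b * a := by rw [mul_inv_rev, e, e]
  haveI : Group.IsSolvable (H ⧸ W) := by
    refine CfsgLib.HallNumbers.solvable_odd (Nat.not_even_iff_odd.1 fun he => ?_)
    obtain ⟨S⟩ : Nonempty (Sylow 2 H) := inferInstance
    have hSW : (S : Subgroup H) ≤ W := fun g hg => (hWmem g).2 (Subtype.ext (by
      simpa [pow_two] using (A.two _ (S.isPGroup'.map H.subtype)).2 _ (mem_map_of_mem _ hg)))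
    exact S.not_dvd_index ((even_iff_two_dvd.1 he).trans (index_dvd_of_le hSW))
  exact solvable_of_normal W

end Act

end CfsgLib.EqualOrderE8
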