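import Cfsg.Agent.Lib.EqualOrderE8.Hard
import Cfsg.Agent.Lib.EqualOrderE8.RankAct
import Cfsg.Agent.Lib.EqualOrderE8.FiveBasic
import Cfsg.Agent.Lib.AutPSL.FieldGalois
import Cfsg.Agent.Lib.ClassicalGroups.SmallIso
import Cfsg.Agent.Lib.Sporadic.J1
import Cfsg.Agent.S2065
import Cfsg.Agent.S3239
import Cfsg.Prelude.Def_Sporadic

/-!
The hard case with an `A₅` top: the subgroup generated by the involutions of the centraliser of `t`
is `2 × A₅`, and the group is the first Janko group.
-/

set_option autoImplicit false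
set_option linter.unusedSectionVars false
set_option linter.style.haveILetI false

namespace CfsgLib.EqualOrderE8

open Subgroup
open CfsgLib.GW.Field
open scoped commutatorElement

universe u

local notation "A5" => alternatingGroup (Fin 5)

theorem alt_five_commute : ∀ a b : A5, a * a = 1 → b * (b * b) = 1 → a * b = b * a → a = 1 ∨ b = 1 := by
  decide +kernel

theorem alt_five_count :
    (Finset.univ.filter fun a : A5 => a * a = 1 ∧ a ≠ 1).card = 15 := by
  decide +kernel

theorem alt_five_conj : ∀ a b : A5, a * a = 1 → a ≠ 1 → b * b = 1 → b ≠ 1 →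
    ∃ g : A5, g * a * g⁻¹ = b := by
  decide +kernel

variable {G : Type u} [Group G] [Finite G] {M : Subgroup G} {T : Sylow 2 G}

/-- The subgroup generated by the involutions of `C_M(t)`. -/
def invGen (M : Subgroup G) (t : G) : Subgroup (cM M t) := closure {x | x * x = 1}

theorem mem_invGen {t : G} {x : cM M t} (hx : x * x = 1) : x ∈ invGen M t := subset_closure hx

instance invGen_normal (M : Subgroup G) (t : G) : (invGen M t).Normal := by
  refine ⟨fun x hx c => ?_⟩
  induction hx using Subgroup.closure_induction with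
  | mem z hz =>
    refine mem_invGen ?_
    rw [show c * z * c⁻¹ * (c * z * c⁻¹) = c * (z * z) * c⁻¹ by group, show z * z = 1 from hz,
      mul_one, mul_inv_cancel]
  | one => simp
  | mul a b _ _ ha hb =>
    rw [show c * (a * b) * c⁻¹ = (c * a * c⁻¹) * (c * b * c⁻¹) by group]
    exact mul_mem ha hb
  | inv a _ ha =>
    rw [show c * a⁻¹ * c⁻¹ = (c * a * c⁻¹)⁻¹ by group]
    exact inv_mem ha

namespace Hard

variable (h : Hard M T)
include h

/-- The top is `A₅`. -/
theorem five_top {t : G} (ht : t ∈ (T : Subgroup G)) (ht1 : t ≠ 1) {F : Type} [Field F] [Fintype F]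
    {L : Subgroup (cBar M t)} (top : CentTop M t F L) (h5 : Fintype.card F = 5) :
    Nonempty (cBar M t ≃* A5) := by
  classical
  have hY := top.psl
  haveI : Fact (Nat.Prime 5) := ⟨by norm_num⟩
  haveI : Fact (Nat.Prime 2) := ⟨Nat.prime_two⟩
  haveI : Subsingleton (F ≃+* F) := (Nat.card_eq_one_iff_unique.1
    (CfsgLib.FieldGalois.card_ringAut (p := 5) (f := 1) (by rw [h5, pow_one]))).1
  have h1 : h.toCore.comm ht ht = rfl := rfl
  have hle : hY.phi.range ≤ (CfsgLib.GW.TopModel.aut F).range := by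
    rintro _ ⟨y, rfl⟩
    obtain ⟨g, hg⟩ := hY.exists_rep (Subsingleton.elim (hY.fp y) 1)
    exact ⟨g, hg.symm⟩
  have hY120 : Nat.card (cBar M t) ≤ 120 := by
    rw [Nat.card_congr (MonoidHom.ofInjective hY.phi_injective).toEquiv]
    refine (card_le_of_le hle).trans ((Nat.card_le_card_of_surjective
      (CfsgLib.GW.TopModel.aut F).rangeRestrict (MonoidHom.rangeRestrict_surjective _)).trans ?_)
    rw [CfsgLib.PSL2.card_pgl, h5]
  obtain ⟨e0⟩ := hY.equiv
  obtain ⟨e5⟩ := CfsgLib.ClassicalGroups.psl_two_five_alternating (K := F) h5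
  have hA5 : Nat.card A5 = 60 := by
    rw [Nat.card_eq_fintype_card]; decide +kernel
  have hL : Nat.card L = 60 := by rw [Nat.card_congr (e0.trans e5).toEquiv, hA5]
  have hd := L.card_subgroup_dvd_card
  rw [hL] at hd
  have h16 : ¬ 16 ∣ Nat.card G := fun h16 => by
    have h4 := (Nat.prime_two.pow_dvd_iff_le_factorization Nat.card_pos.ne').1
      (show 2 ^ 4 ∣ Nat.card G from h16)
    have e := Sylow.card_eq_multiplicity T
    rw [h.toCore.card_T] at e
    have := Nat.pow_right_injective le_rfl e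
    omega
  have h120 : Nat.card (cBar M t) ≠ 120 := fun e => h16 <| by
    have htd : 2 ∣ Nat.card (cCore M t) := by
      have hmem : (⟨t, h.mem_cM_self ht⟩ : cM M t) ∈ cCore M t :=
        mem_sup_right (subset_normalClosure rfl)
      have := Subgroup.orderOf_dvd_natCard _ hmem
      rwa [orderOf_mk, h.toCore.involution ht ht1] at this
    refine dvd_trans ?_ (card_subgroup_dvd_card (cM M t))
    rw [card_eq_card_quotient_mul_card_subgroup (cCore M t), e]
    exact (show 8 * 2 = 16 from rfl) ▸ mul_dvd_mul (show 8 ∣ 120 by norm_num) htd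
  have hcard : Nat.card (cBar M t) = 60 := by
    obtain ⟨k, hk⟩ := hd
    have := Nat.card_pos (α := cBar M t)
    omega
  have htop : L = ⊤ := Subgroup.eq_top_of_card_eq _ (by rw [hL, hcard])
  exact ⟨(Subgroup.topEquiv.symm.trans (MulEquiv.subgroupCongr htop.symm)).trans (e0.trans e5)⟩

/-- An element of `C_M(t)` generated by involutions and lying in `O(C_M(t))⟨t⟩`. -/
theorem inner_cases {t : G} (ht : t ∈ (T : Subgroup G)) (ht1 : t ≠ 1) {x : cM M t}
    (hx : x ∈ invGen M t) (hxc : x ∈ cCore M t) :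
    ∃ d ∈ invGen M t ⊓ Cfsg.oddCore (cM M t), x = d ∨ x = d * ⟨t, h.mem_cM_self ht⟩ := by
  set t' : cM M t := ⟨t, h.mem_cM_self ht⟩
  have ht2 : t' * t' = 1 := Subtype.ext (sq_eq (h.toCore.involution ht ht1))
  haveI : (zpowers t').Normal := ⟨fun g hg k => by
    obtain ⟨i, rfl⟩ := mem_zpowers_iff.1 hg
    have hc : Commute t' k := Subtype.ext (mem_cM.1 k.2).2.symm
    rw [(hc.zpow_left i).symm.eq, mul_inv_cancel_right]
    exact zpow_mem_zpowers t' i⟩
  have hle : cCore M t ≤ Cfsg.oddCore (cM M t) ⊔ zpowers t' := by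
    refine sup_le le_sup_left ((normalClosure_le_normal ?_).trans le_sup_right)
    intro y hy
    rw [show y = t' from Subtype.ext hy]
    exact mem_zpowers t'
  obtain ⟨d, hd, w, hw, rfl⟩ := mem_sup_of_normal_left.1 (hle hxc)
  obtain ⟨i, rfl⟩ := mem_zpowers_iff.1 hw
  have htI : t' ∈ invGen M t := mem_invGen ht2
  have hdI : d ∈ invGen M t := by simpa using mul_mem hx (inv_mem (zpow_mem htI i))
  refine ⟨d, ⟨hdI, hd⟩, ?_⟩
  rcases Int.even_or_odd' i with ⟨j, rfl | rfl⟩
  · left
    rw [zpow_mul, show ((2 : ℤ)) = ((2 : ℕ) : ℤ) from rfl, zpow_natCast, pow_two, ht2, one_zpow,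
      mul_one]
  · right
    rw [zpow_add_one, zpow_mul, show ((2 : ℤ)) = ((2 : ℕ) : ℤ) from rfl, zpow_natCast, pow_two, ht2,
      one_zpow, one_mul]

/-- No odd core inside the subgroup generated by the involutions. -/
theorem invGen_core_eq_bot {t : G} (ht : t ∈ (T : Subgroup G)) (ht1 : t ≠ 1)
    (e : cBar M t ≃* A5) : invGen M t ⊓ Cfsg.oddCore (cM M t) = ⊥ := by
  classical
  haveI : Fact (Nat.Prime 2) := ⟨Nat.prime_two⟩
  haveI := h.normal
  set C := cM M t
  set I := invGen M t with hI
  set D := I ⊓ Cfsg.oddCore C with hD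
  set π := QuotientGroup.mk' (cCore M t)
  set t' : C := ⟨t, h.mem_cM_self ht⟩
  have ht2 := h.toCore.involution ht ht1
  have htt : t' * t' = 1 := Subtype.ext (sq_eq ht2)
  have hDodd : Odd (Nat.card D) := by
    refine Odd.of_dvd_nat ?_ (card_dvd_of_le (inf_le_right : D ≤ Cfsg.oddCore C))
    rw [← Nat.not_even_iff_odd, even_iff_two_dvd]
    exact CfsgLib.PCore.not_dvd_card_pPrimeCore
  haveI hAs : IsSimpleGroup (cBar M t) := e.isSimpleGroup
  -- two commuting involutions outside the core
  have hTC : ∀ x ∈ (T : Subgroup G), x ∈ C := fun x hx => h.T_le_cM ht hx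
  obtain ⟨a₀, ha, ha1, hat⟩ : ∃ a ∈ (T : Subgroup G), a ≠ 1 ∧ a ≠ t := by
    by_contra! hall
    have hsub : ((T : Subgroup G) : Set G) ⊆ {1, t} := fun z hz => by
      by_cases h1 : z = 1
      · exact Or.inl h1
      · exact Or.inr (hall z hz h1)
    have := (Set.ncard_le_ncard hsub (Set.toFinite _)).trans (Set.ncard_insert_le _ _)
    rw [Set.ncard_singleton, ← Nat.card_coe_set_eq] at this
    change Nat.card (T : Subgroup G) ≤ 2 at this
    rw [h.toCore.card_T] at this
    omega
  obtain ⟨b₀, hb, hb1, hbt, hba, hbta⟩ : ∃ b ∈ (T : Subgroup G),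
      b ≠ 1 ∧ b ≠ t ∧ b ≠ a₀ ∧ b ≠ t * a₀ := by
    by_contra! hall
    have hsub : ((T : Subgroup G) : Set G) ⊆ (({1, t, a₀, t * a₀} : Finset G) : Set G) := fun z hz => by
      simp only [Finset.coe_insert, Finset.coe_singleton, Set.mem_insert_iff, Set.mem_singleton_iff]
      by_contra! hh
      exact hh.2.2.2 (hall z hz hh.1 hh.2.1 hh.2.2.1)
    have := Set.ncard_le_ncard hsub (Finset.finite_toSet _)
    rw [Set.ncard_coe_finset, ← Nat.card_coe_set_eq] at this
    change Nat.card (T : Subgroup G) ≤ _ at this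
    rw [h.toCore.card_T] at this
    have := this.trans Finset.card_le_four
    omega
  set a : C := ⟨a₀, hTC a₀ ha⟩
  set b : C := ⟨b₀, hTC b₀ hb⟩
  have haa : a * a = 1 := Subtype.ext (by simpa [pow_two] using h.elem.2 a₀ ha)
  have hbb : b * b = 1 := Subtype.ext (by simpa [pow_two] using h.elem.2 b₀ hb)
  have hab : a * b = b * a := Subtype.ext (h.toCore.comm ha hb)
  have habb : a * b * (a * b) = 1 := by
    rw [show a * b * (a * b) = a * (b * a) * b by group, ← hab,
      show a * (a * b) * b = a * a * (b * b) by group, haa, hbb, one_mul]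
  -- involutions of the centraliser in the core
  have inv_core : ∀ w : C, w * w = 1 → π w = 1 → (w : G) = 1 ∨ (w : G) = t := by
    intro w hw hπ
    obtain ⟨d, hd, hwd⟩ := h.inner_cases ht ht1 (mem_invGen hw) ((QuotientGroup.eq_one_iff _).1 hπ)
    have hd2 : d * d = 1 := by
      rcases hwd with e1 | e1
      · rw [← e1, hw]
      · have hc : Commute d t' := Subtype.ext (mem_cM.1 d.2).2
        have : d = w * t' := by rw [e1, mul_assoc, htt, mul_one]
        rw [this, show w * t' * (w * t') = w * (t' * w) * t' by group,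
          show t' * w = w * t' from Subtype.ext (mem_cM.1 w.2).2.symm,
          show w * (w * t') * t' = w * w * (t' * t') by group, hw, htt, one_mul]
    have hd1 : d = 1 := CfsgLib.RankOneInvol.eq_one_of_mem_of_sq hDodd hd hd2
    rcases hwd with e1 | e1 <;> rw [e1, hd1]
    · exact Or.inl rfl
    · exact Or.inr (by rw [one_mul])
  have hπa : π a ≠ 1 := fun e1 => by rcases inv_core a haa e1 with e2 | e2; exacts [ha1 e2, hat e2]
  have hπb : π b ≠ 1 := fun e1 => by rcases inv_core b hbb e1 with e2 | e2; exacts [hb1 e2, hbt e2]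
  have hπab : π (a * b) ≠ 1 := fun e1 => by
    rcases inv_core _ habb e1 with e2 | e2
    · exact hba (eq_inv_of_mul_eq_one_right e2 |>.trans (inv_eq (h.toCore.involution ha ha1)))
    · refine hbta ?_
      change a₀ * b₀ = t at e2
      rw [h.toCore.comm ht ha, ← e2, ← mul_assoc, sq_eq (h.toCore.involution ha ha1), one_mul]
  -- everything is generated by involutions modulo the core
  have htop : ∀ A : Subgroup C, A.Normal → (∃ x ∈ A, π x ≠ 1) → A.map π = ⊤ := by
    intro A hA hx
    haveI := hA.map π (QuotientGroup.mk'_surjective _)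
    refine (IsSimpleGroup.eq_bot_or_eq_top_of_normal (A.map π) inferInstance).resolve_left fun hb => ?_
    obtain ⟨x, hxA, hx1⟩ := hx
    have := mem_map_of_mem π hxA
    rw [hb, mem_bot] at this
    exact hx1 this
  have hItop : ∀ u : cBar M t, ∃ i ∈ I, π i = u := fun u => by
    have := htop I inferInstance ⟨a, mem_invGen haa, hπa⟩ ▸ mem_top u
    exact this
  by_contra hne
  -- a chief factor on top
  obtain ⟨N1, -, ⟨⟨hN1n, hN1D⟩, hmax⟩⟩ := Finite.exists_le_maximal
    (p := fun A : Subgroup C => A.Normal ∧ A < D) (a := ⊥) ⟨inferInstance, bot_lt_iff_ne_bot.2 hne⟩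
  haveI := hN1n
  set q := QuotientGroup.mk' N1
  have hqs := QuotientGroup.mk'_surjective N1
  set V := D.map q with hV
  haveI hVn : V.Normal := (inferInstance : D.Normal).map q hqs
  have hVne : V ≠ ⊥ := fun e1 => by
    rw [hV, Subgroup.map_eq_bot_iff, QuotientGroup.ker_mk'] at e1
    exact not_le_of_gt hN1D e1
  have hVmin : CfsgLib.Structure.IsMinNormal V := by
    refine ⟨hVne, hVn, fun A hA hAV => ?_⟩
    by_cases hA0 : A = ⊥
    · exact Or.inl hA0
    refine Or.inr (le_antisymm hAV ?_)
    by_contra hAne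
    haveI := hA
    have hlt : A.comap q < D := by
      refine lt_of_le_of_ne (fun x hx => ?_) fun e1 => hAne ?_
      · obtain ⟨d, hd, hdx⟩ := hAV hx
        have h1 : d⁻¹ * x ∈ D := hN1D.le ((QuotientGroup.eq (s := N1)).1 hdx)
        simpa using mul_mem hd h1
      · rw [hV, ← e1, map_comap_eq_self_of_surjective hqs]
    have heq := hmax ⟨inferInstance, hlt⟩ (QuotientGroup.le_comap_mk' N1 A)
    refine hA0 (eq_bot_iff.2 fun x hx => ?_)
    obtain ⟨c, rfl⟩ := hqs x
    exact mem_bot.2 ((QuotientGroup.eq_one_iff _).2 (heq (mem_comap.2 hx)))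
  have hVodd : Odd (Nat.card V) := hDodd.of_dvd_nat (card_map_dvd D q)
  have hVab : IsMulCommutative V := by
    haveI : Group.IsSolvable V := CfsgLib.HallNumbers.solvable_odd hVodd
    haveI : Nontrivial V := (nontrivial_iff_ne_bot V).2 hVne
    by_contra hna
    have hlt := Group.IsSolvable.commutator_lt_top_of_nontrivial V
    have hn : ((_root_.commutator V).map V.subtype).Normal := inferInstance
    rcases hVmin.2.2 _ hn (map_subtype_le _) with e1 | e1
    · refine hna ⟨⟨fun x y => ?_⟩⟩
      have h1 : _root_.commutator V = ⊥ := (map_eq_bot_iff_of_injective _ V.subtype_injective).1 e1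
      exact commutatorElement_eq_one_iff_mul_comm.1 (mem_bot.1 (h1 ▸
        commutator_mem_commutator (mem_top x) (mem_top y)))
    · refine hlt.ne (map_injective V.subtype_injective ?_)
      rw [e1, ← MonoidHom.range_eq_map, range_subtype]
  obtain ⟨s, hs, hVel⟩ := hVmin.exponent_prime hVab
  haveI := Fact.mk hs
  letI : CommGroup V :=
    { (inferInstance : Group V) with mul_comm := fun x y => hVab.is_comm.comm x y }
  obtain ⟨k, hk⟩ := IsPGroup.iff_card.1
    (show IsPGroup s V from fun x => ⟨1, Subtype.ext (by rw [pow_one]; exact hVel.2 x x.2)⟩)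
  have hk0 : k ≠ 0 := fun e1 => hVne (Subgroup.card_eq_one.1 (by rw [hk, e1, pow_zero]))
  have hs2 : s ≠ 2 := fun e1 => by
    subst e1
    rw [hk, Nat.odd_pow_iff hk0] at hVodd
    exact absurd hVodd (by decide)
  -- the action
  let ρ : C →* MulAut V := (MulAut.conjNormal (H := V)).comp q
  have hρ : ∀ (c : C) (v : V), ((ρ c v : V) : C ⧸ N1) = q c * v * (q c)⁻¹ := fun c v =>
    MulAut.conjNormal_apply (q c) v
  have hρD : ∀ c ∈ I, π c = 1 → ρ c = 1 := by
    intro c hc hπ
    obtain ⟨d, hd, hcd⟩ := h.inner_cases ht ht1 hc ((QuotientGroup.eq_one_iff _).1 hπ)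
    have hdρ : ρ d = 1 := MulEquiv.ext fun v => Subtype.ext (by
      rw [hρ]
      have := congrArg Subtype.val (hVab.is_comm.comm (⟨q d, mem_map_of_mem q hd⟩ : V) v)
      change q d * (v : C ⧸ N1) = v * q d at this
      rw [this, mul_inv_cancel_right]
      rfl)
    have htρ : ρ t' = 1 := MulEquiv.ext fun v => Subtype.ext (by
      rw [hρ]
      obtain ⟨x, -, hxv⟩ := v.2
      rw [← hxv, ← map_mul, show t' * x = x * t' from Subtype.ext (mem_cM.1 x.2).2.symm, map_mul,
        mul_inv_cancel_right]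
      exact hxv)
    rcases hcd with rfl | rfl
    · exact hdρ
    · rw [map_mul, hdρ, one_mul]; exact htρ
  have hρeq : ∀ c ∈ I, ∀ c' ∈ I, π c = π c' → ρ c = ρ c' := fun c hc c' hc' e1 => by
    have := hρD _ (mul_mem (inv_mem hc) hc') (by rw [map_mul, map_inv, e1, inv_mul_cancel])
    rw [map_mul, map_inv] at this
    exact inv_mul_eq_one.1 this
  let Fx : C → Subgroup V := fun c => (moved (ρ c).toMonoidHom).ker
  let Mv : C → Subgroup V := fun c => (moved (ρ c).toMonoidHom).range
  have hcards : ∀ c, Nat.card (Fx c) * Nat.card (Mv c) = Nat.card V := fun c => by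
    rw [← Subgroup.index_ker]
    exact (Fx c).card_mul_index
  have hconjF : ∀ u : cBar M t, u * u = 1 → u ≠ 1 → ∀ w ∈ I, π w = u →
      Nat.card (Fx w) = Nat.card (Fx a) := by
    intro u hu hu1 w hw hwu
    obtain ⟨g5, hg5⟩ := alt_five_conj (e (π a)) (e u)
      (by rw [← map_mul, ← map_mul, haa, map_one, map_one]) (fun e1 => hπa (e.injective (by rw [e1, map_one])))
      (by rw [← map_mul, hu, map_one]) (fun e1 => hu1 (e.injective (by rw [e1, map_one])))
    obtain ⟨g, hgI, hg⟩ := hItop (e.symm g5)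
    have he : π (g * a * g⁻¹) = u := e.injective (by
      rw [map_mul, map_mul, map_inv, map_mul, map_mul, map_inv, hg, MulEquiv.apply_symm_apply, hg5])
    rw [← hwu] at he
    have h1 := hρeq _ (mul_mem (mul_mem hgI (mem_invGen haa)) (inv_mem hgI)) w hw he
    symm
    refine Nat.card_congr ((ρ g).toEquiv.subtypeEquiv fun v => ?_)
    show v ∈ Fx a ↔ ρ g v ∈ Fx w
    simp only [Fx, mem_ker_moved, ← h1, map_mul, map_inv]
    show ρ a v = v ↔ ρ g (ρ a ((ρ g)⁻¹ (ρ g v))) = ρ g v
    rw [MulAut.inv_apply_self, (ρ g).injective.eq_iff]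
  have hπ2 : ∀ w : C, w * w = 1 → π w * π w = 1 := fun w hw => by rw [← map_mul, hw, map_one]
  have hFb : Nat.card (Fx b) = Nat.card (Fx a) := hconjF _ (hπ2 b hbb) hπb b (mem_invGen hbb) rfl
  have hFab : Nat.card (Fx (a * b)) = Nat.card (Fx a) :=
    hconjF _ (hπ2 _ habb) hπab _ (mem_invGen habb) rfl
  set m := Nat.card (Mv a) with hm
  have hMv : ∀ c, Nat.card (Fx c) = Nat.card (Fx a) → Nat.card (Mv c) = m := fun c hc => by
    have h1 := hcards c
    have h2 := hcards a
    rw [hc, ← h2] at h1
    exact Nat.eq_of_mul_eq_mul_left Nat.card_pos h1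
  have hsq : ∀ c : C, c * c = 1 → ∀ v, (ρ c).toMonoidHom ((ρ c).toMonoidHom v) = v := fun c hc v => by
    show (ρ c * ρ c) v = v
    rw [← map_mul, hc, map_one, MulAut.one_apply]
  have hms : m ≠ s := fun e1 => not_all_reflections hVodd (α := (ρ a).toMonoidHom)
    (β := (ρ b).toMonoidHom) (hsq a haa) (hsq b hbb) (fun v => by
      show (ρ a * ρ b) v = (ρ b * ρ a) v
      rw [← map_mul, ← map_mul, hab]) e1 ((hMv b hFb).trans e1) (by
      have := (hMv _ hFab).trans e1
      rwa [show (ρ a).toMonoidHom.comp (ρ b).toMonoidHom = (ρ (a * b)).toMonoidHom from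
        MonoidHom.ext fun v => by rw [map_mul]; rfl])
  by_cases hm1 : m = 1
  · -- the central case
    have hρa : ρ a = 1 := MulEquiv.ext fun v => by
      have : moved (ρ a).toMonoidHom v ∈ Mv a := ⟨v, rfl⟩
      rw [Subgroup.card_eq_one.1 hm1, mem_bot] at this
      exact mem_ker_moved.1 this
    have hIker : ∀ c ∈ I, ρ c = 1 := by
      intro c hc
      have := htop (I ⊓ ρ.ker) inferInstance ⟨a, ⟨mem_invGen haa, hρa⟩, hπa⟩ ▸ mem_top (π c)
      obtain ⟨z, ⟨hzI, hzρ⟩, hz⟩ := this
      rw [← hρeq z hzI c hc hz]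
      exact hzρ
    let Ih : Subgroup (C ⧸ N1) := closure (q '' {x : C | x * x = 1})
    have hIh : I.map q = Ih := MonoidHom.map_closure q _
    obtain ⟨v, hv⟩ : ∃ v : V, v ≠ 1 := by
      haveI : Nontrivial V := (nontrivial_iff_ne_bot V).2 hVne
      exact exists_ne 1
    let z : Ih := ⟨v, hIh ▸ map_mono inf_le_left v.2⟩
    have hcen : ∀ (y : Ih) (w : V), (y : C ⧸ N1) * w = w * y := fun y w => by
      obtain ⟨c, hc, hcy⟩ : (y : C ⧸ N1) ∈ I.map q := hIh.symm ▸ y.2
      have h1 := hρ c w
      rw [hIker c hc, MulAut.one_apply, hcy] at h1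
      exact mul_inv_eq_iff_eq_mul.1 h1.symm
    have hzc : z ∈ center Ih := mem_center_iff.2 fun y => Subtype.ext (hcen y v)
    have hzs : z ^ s = 1 := Subtype.ext (hVel.2 _ v.2)
    obtain ⟨P⟩ : Nonempty (Sylow s Ih) := inferInstance
    have hN1c : N1 ≤ cCore M t := hN1D.le.trans (inf_le_right.trans le_sup_left)
    let h' : C ⧸ N1 →* cBar M t := QuotientGroup.lift N1 π (by
      rw [QuotientGroup.ker_mk']; exact hN1c)
    let κ : (P : Subgroup Ih) →* cBar M t := (h'.comp Ih.subtype).comp (P : Subgroup Ih).subtype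
    have hκker : κ.ker ≤ center (P : Subgroup Ih) := by
      intro y hy
      refine mem_center_iff.2 fun y' => Subtype.ext (Subtype.ext ?_)
      obtain ⟨c, hc, hcy⟩ : ((y : Ih) : C ⧸ N1) ∈ I.map q := hIh.symm ▸ (y : Ih).2
      have hπc : π c = 1 := by
        have : h' ((y : Ih) : C ⧸ N1) = 1 := hy
        rwa [← hcy] at this
      obtain ⟨d, hd, hcd⟩ := h.inner_cases ht ht1 hc ((QuotientGroup.eq_one_iff _).1 hπc)
      have hy2 : ((y : Ih) : C ⧸ N1) * (y : Ih) ∈ V := by
        rw [← hcy, ← map_mul]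
        refine mem_map_of_mem q ?_
        rcases hcd with rfl | rfl
        · exact mul_mem hd hd
        · rw [show d * t' * (d * t') = d * (t' * d) * t' by group,
            show t' * d = d * t' from Subtype.ext (mem_cM.1 d.2).2.symm,
            show d * (d * t') * t' = d * d * (t' * t') by group, htt, mul_one]
          exact mul_mem hd hd
      have hyo : Odd (orderOf ((y : Ih) : C ⧸ N1)) := by
        obtain ⟨j, hj⟩ := (IsPGroup.iff_orderOf.1 P.isPGroup') y
        rw [Subgroup.orderOf_coe, Subgroup.orderOf_coe, hj]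
        exact (hs.odd_of_ne_two hs2).pow
      obtain ⟨j, hj⟩ := CfsgLib.RankOneInvol.exists_pow_sq_eq hyo
      show ((y' : Ih) : C ⧸ N1) * (y : Ih) = (y : Ih) * (y' : Ih)
      have hc2 := (show Commute ((y' : Ih) : C ⧸ N1) (((y : Ih) : C ⧸ N1) * (y : Ih)) from
        hcen (y' : Ih) ⟨_, hy2⟩).pow_right j
      rw [(Commute.refl _).mul_pow, hj] at hc2
      exact hc2.eq
    haveI : IsCyclic κ.range := by
      obtain ⟨j, hj⟩ := IsPGroup.iff_card.1 (P.isPGroup'.of_surjective κ.rangeRestrict
        κ.rangeRestrict_surjective)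
      have hd : s ^ j ∣ 60 := by
        rw [← hj]
        refine (card_subgroup_dvd_card _).trans ?_
        rw [Nat.card_congr e.toEquiv, Nat.card_eq_fintype_card]
        decide +kernel
      have hj1 : j ≤ 1 := by
        by_contra hj2
        have h2 := (pow_dvd_pow s (show 2 ≤ j by omega)).trans hd
        have h3 := Nat.le_of_dvd (by norm_num) h2
        have : s ≤ 7 := by nlinarith
        interval_cases s <;> first | omega | (norm_num at h2) | (norm_num at hs)
      rcases Nat.le_one_iff_eq_zero_or_eq_one.1 hj1 with e1 | e1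
      · haveI : Subsingleton κ.range := (Nat.card_eq_one_iff_unique.1 (by rw [hj, e1, pow_zero])).1
        infer_instance
      · exact isCyclic_of_prime_card (p := s) (by rw [hj, e1, pow_one])
    have hcomm : z ∈ _root_.commutator Ih := mem_commutator_of_odd
      (closure_closure_coe_preimage (k := q '' {x : C | x * x = 1}))
      (fun y hy => by
        obtain ⟨c, hc, hcy⟩ := hy
        exact Subtype.ext (by
          show (y : C ⧸ N1) * y = 1
          rw [← hcy, ← map_mul, show c * c = 1 from hc, map_one]))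
      ((hs.odd_of_ne_two hs2).of_dvd_nat (orderOf_dvd_of_pow_eq_one hzs))
    have hPab : ∀ x ∈ (P : Subgroup Ih), ∀ y ∈ (P : Subgroup Ih), x * y = y * x := fun x hx y hy => by
      have hk' : κ.rangeRestrict.ker ≤ center (P : Subgroup Ih) := by
        rw [MonoidHom.ker_rangeRestrict]; exact hκker
      exact congrArg Subtype.val (commutative_of_cyclic_center_quotient κ.rangeRestrict hk'
        ⟨x, hx⟩ ⟨y, hy⟩)
    have := eq_one_of_central_commutator P hPab hzc hzs hcomm
    exact hv (Subtype.ext (show ((v : V) : C ⧸ N1) = 1 from congrArg (fun y : Ih => (y : C ⧸ N1)) this))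
  -- the moved parts are large
  have hm2 : s ^ 2 ≤ m := by
    obtain ⟨j, hj, hj'⟩ := (Nat.dvd_prime_pow hs).1 (hk ▸ card_subgroup_dvd_card (Mv a))
    rw [← hm] at hj'
    rw [hj']
    refine Nat.pow_le_pow_right hs.pos ?_
    rcases j with _ | _ | j
    · exact absurd (by rw [hj', pow_zero]) hm1
    · exact absurd (by rw [hj', pow_one]) hms
    · omega
  obtain ⟨S⟩ : Nonempty (Sylow s D) := inferInstance
  set S' := ((S : Subgroup D).map D.subtype).map C.subtype
  let qD : D →* V := (q.comp D.subtype).codRestrict V fun x => mem_map_of_mem q x.2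
  have hqD : Function.Surjective qD := fun v => by
    obtain ⟨x, hx, hxv⟩ := v.2
    exact ⟨⟨x, hx⟩, Subtype.ext hxv⟩
  have hlift : ∀ v : V, ∃ x ∈ (S : Subgroup D), qD x = v := fun v => by
    have h1 : ((S.mapSurjective hqD : Sylow s V) : Subgroup V) = ⊤ := by
      apply Subgroup.eq_top_of_card_eq
      rw [Sylow.card_eq_multiplicity, hk, hs.factorization_pow, Finsupp.single_eq_same]
    have h2 : v ∈ (S : Subgroup D).map qD := by
      rw [← Sylow.coe_mapSurjective hqD, h1]; exact mem_top v
    exact h2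
  have hel : ∀ x : G, IsPGroup s (zpowers x) → x ^ s = 1 := by
    intro x hx
    obtain ⟨R₁, hR₁⟩ := hx.exists_le_sylow
    refine ((h.conj.sylow_shape hs2 R₁).resolve_left fun hcyc => ?_).2 x (hR₁ (mem_zpowers x))
    haveI := hcyc
    obtain ⟨R₂, hR₂⟩ := (show IsPGroup s S' from (S.isPGroup'.map _).map _).exists_le_sylow
    haveI : IsCyclic R₂ := isCyclic_of_surjective (R₁.equiv R₂) (R₁.equiv R₂).surjective
    let ι : (S : Subgroup D) →* R₂ := (inclusion hR₂).comp
      (((equivMapOfInjective _ D.subtype D.subtype_injective).trans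
        (equivMapOfInjective _ C.subtype C.subtype_injective)).toMonoidHom)
    haveI : IsCyclic (S : Subgroup D) := isCyclic_of_injective ι
      ((inclusion_injective hR₂).comp (MulEquiv.injective _))
    haveI : IsCyclic V := isCyclic_of_surjective (qD.comp (S : Subgroup D).subtype) fun v => by
      obtain ⟨x, hx, hxv⟩ := hlift v
      exact ⟨⟨x, hx⟩, hxv⟩
    obtain ⟨g, hg⟩ := IsCyclic.exists_ofOrder_eq_natCard (α := V)
    have h1 : Nat.card V ≤ s := hg ▸ Nat.le_of_dvd hs.pos
      (orderOf_dvd_of_pow_eq_one (Subtype.ext (hVel.2 g g.2)))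
    have h2 := Nat.le_of_dvd Nat.card_pos (card_subgroup_dvd_card (Mv a))
    have h3 := Nat.pow_lt_pow_right hs.one_lt (show 1 < 2 by norm_num)
    rw [pow_one] at h3
    omega
  -- every element of order `s` commutes with two involutions
  have h4 : ∀ x : G, orderOf x = s → 4 ∣ Nat.card (centralizer ({x} : Set G)) := by
    obtain ⟨v, hv, hv1⟩ : ∃ v ∈ Fx a, v ≠ 1 := by
      by_contra! hall
      have hbot : ∀ c, Nat.card (Fx c) = Nat.card (Fx a) → c * c = 1 → ∀ v, ρ c v = v⁻¹ := by
        intro c hc hcc v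
        refine (mem_range_moved hVodd (hsq c hcc)).1 ?_
        have h1 : Nat.card (Fx a) = 1 := Subgroup.card_eq_one.2 ((eq_bot_iff_forall _).2 hall)
        have h2 := hcards c
        rw [hc, h1, one_mul] at h2
        show v ∈ Mv c
        rw [Subgroup.eq_top_of_card_eq _ h2]
        exact mem_top v
      refine hm1 ?_
      rw [← hMv _ hFab, Subgroup.card_eq_one, MonoidHom.range_eq_bot_iff]
      apply MonoidHom.ext
      intro v
      show v / ρ (a * b) v = 1
      rw [map_mul, MulAut.mul_apply, hbot b hFb hbb, map_inv, hbot a rfl haa, inv_inv, div_self']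
    obtain ⟨x, -, hxv⟩ := hlift v
    have hwn : ∀ g ∈ D, a * g * a ∈ D := fun g hg => by
      have := (inferInstance : D.Normal).conj_mem g hg a
      rwa [inv_eq_of_mul_eq_one_right haa] at this
    obtain ⟨y, z, hy, hya, hz, hza, hxyz⟩ :=
      CfsgLib.RankOneInvol.exists_fixed_mul_inverted hDodd haa hwn x.2
    have ha' : a⁻¹ = a := inv_eq_of_mul_eq_one_right haa
    have hρa : ∀ (g : C) (hg : g ∈ D), ρ a ⟨q g, mem_map_of_mem q hg⟩ =
        (⟨q (a * g * a), mem_map_of_mem q (hwn g hg)⟩ : V) := fun g hg => Subtype.ext (by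
      rw [hρ, ← map_inv, ha', ← map_mul, ← map_mul])
    have hfixv := mem_ker_moved.1 hv
    change ρ a v = v at hfixv
    have hv' : v = (⟨q y, mem_map_of_mem q hy⟩ : V) * ⟨q z, mem_map_of_mem q hz⟩ := by
      apply Subtype.ext
      have e1 : ((v : V) : C ⧸ N1) = q (x : C) := (congrArg Subtype.val hxv).symm
      have e2 : q (x : C) = q y * q z := (congrArg q hxyz).trans (map_mul q y z)
      exact e1.trans e2
    have hz1 : (⟨q z, mem_map_of_mem q hz⟩ : V) = 1 := by
      refine eq_one_of_eq_inv hVodd ?_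
      rw [hv', map_mul, hρa y hy, hρa z hz] at hfixv
      simp only [hya, hza, map_inv] at hfixv
      exact (mul_left_cancel hfixv).symm
    rw [hz1, mul_one] at hv'
    have hqy : q y ≠ 1 := fun e1 => hv1 (hv'.trans (Subtype.ext e1))
    have hsy : s ∣ orderOf (y : G) := by
      rw [Subgroup.orderOf_coe]
      refine dvd_trans ?_ (orderOf_map_dvd q y)
      rw [orderOf_eq_prime (hVel.2 _ (mem_map_of_mem q hy)) hqy]
    set y' := (y : G) ^ (orderOf (y : G) / s)
    have hy' : orderOf y' = s := orderOf_pow_orderOf_div (orderOf_pos _).ne' hsy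
    have hyt : Commute (y : G) t := (mem_cM.1 y.2).2
    have hya' : Commute (y : G) a₀ := by
      have h1 := congrArg (a * ·) hya
      simp only [← mul_assoc, haa, one_mul] at h1
      exact congrArg Subtype.val h1
    have h4' : 4 ∣ Nat.card (centralizer ({y'} : Set G)) :=
      h.four_dvd ht2 (h.toCore.involution ha ha1) hat.symm (h.toCore.comm ht ha)
        (hyt.pow_left _).eq (hya'.pow_left _).eq
    intro x' hx'
    rwa [h.conj.card_centralizer hs (k := 1) (by rw [hy', pow_one]) (y := x') (by rw [hx', pow_one])]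
      at h4'
  -- second involutions
  have hsec : ∀ x : C, orderOf x = s → ∃ w : C, w * w = 1 ∧ π w ≠ 1 ∧ x * w = w * x := by
    intro x hx
    obtain ⟨w, hw, hwt, hwct, hxw⟩ := h.exists_second ht2 (mem_cM.1 x.2).2
      (h4 x (by rw [Subgroup.orderOf_coe, hx]))
    refine ⟨⟨w, mem_cM.2 ⟨h.toCore.mem_of_involution hw, hwct⟩⟩, Subtype.ext (sq_eq hw),
      fun e1 => ?_, Subtype.ext hxw⟩
    rcases inv_core _ (Subtype.ext (sq_eq hw)) e1 with e2 | e2
    · exact (CfsgLib.Involutions.orderOf_eq_two_iff_mul.1 hw).1 e2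
    · exact hwt e2
  have hs5 : 5 ≤ s := by
    by_contra hlt
    have hs3 : s = 3 := by
      have := hs.two_le
      have : s ≠ 4 := fun e1 => by rw [e1] at hs; norm_num at hs
      omega
    subst hs3
    obtain ⟨Q⟩ : Nonempty (Sylow 3 C) := inferInstance
    obtain ⟨x, hx, hx1⟩ : ∃ x ∈ (Q : Subgroup C), π x ≠ 1 := by
      by_contra! hall
      have hd : Nat.card (cBar M t) ∣ (Q : Subgroup C).index :=
        index_dvd_of_le (fun x hx => (QuotientGroup.eq_one_iff _).1 (hall x hx))
      rw [Nat.card_congr e.toEquiv, Nat.card_eq_fintype_card] at hd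
      exact Q.not_dvd_index ((show 3 ∣ Fintype.card A5 by decide +kernel).trans hd)
    have hx3 : (x : G) ^ 3 = 1 := hel _ ((Q.isPGroup'.map C.subtype).to_le
      (zpowers_le.2 (mem_map_of_mem _ hx)))
    have hxo : orderOf x = 3 :=
      orderOf_eq_prime (Subtype.ext (by simpa using hx3)) fun e1 => hx1 (by rw [e1, map_one])
    obtain ⟨w, hw, hw1, hxw⟩ := hsec x hxo
    rcases alt_five_commute (e (π w)) (e (π x)) (by rw [← map_mul, ← map_mul, hw, map_one, map_one])
      (by
        have h3 := pow_orderOf_eq_one x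
        rw [hxo, pow_succ', pow_two] at h3
        rw [← map_mul, ← map_mul, ← map_mul, ← map_mul, h3, map_one, map_one])
      (by rw [← map_mul, ← map_mul, ← map_mul, ← map_mul, hxw]) with e1 | e1
    · exact hw1 (e.injective (by rw [e1, map_one]))
    · exact hx1 (e.injective (by rw [e1, map_one]))
  -- the covering by fifteen fixed spaces
  let U : Finset A5 := Finset.univ.filter fun u => u * u = 1 ∧ u ≠ 1
  choose w hwI hwπ using fun u : A5 => hItop (e.symm u)
  let Z : A5 → Finset V := fun u => (Fx (w u) : Set V).toFinite.toFinset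
  haveI : Fintype V := Fintype.ofFinite _
  have hZ : ∀ u ∈ U, (Z u).card = Nat.card (Fx a) := by
    intro u hu
    simp only [U, Finset.mem_filter, Finset.mem_univ, true_and] at hu
    rw [← Set.ncard_eq_toFinset_card _ (Fx (w u) : Set V).toFinite, ← Nat.card_coe_set_eq]
    refine hconjF (e.symm u) (by rw [← map_mul, hu.1, map_one]) (fun e1 => hu.2 ?_) (w u) (hwI u)
      (hwπ u)
    rw [← e.apply_symm_apply u, e1, map_one]
  have hcov : (Finset.univ : Finset V) ⊆ U.biUnion Z := by
    intro v _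
    rw [Finset.mem_biUnion]
    obtain ⟨u, huU, hu⟩ : ∃ c : C, c * c = 1 ∧ π c ≠ 1 ∧ ρ c v = v := by
      by_cases hv1 : v = 1
      · exact ⟨a, haa, hπa, by rw [hv1, map_one]⟩
      obtain ⟨x, hxS, hxv⟩ := hlift v
      have hx3 : ((x : C) : G) ^ s = 1 := hel _ (((S.isPGroup'.map D.subtype).map C.subtype).to_le
        (zpowers_le.2 (mem_map_of_mem _ (mem_map_of_mem _ hxS))))
      have hxo : orderOf (x : C) = s := orderOf_eq_prime (Subtype.ext (by simpa using hx3)) fun e1 =>
        hv1 (by rw [← hxv, show x = 1 from Subtype.ext e1, map_one])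
      obtain ⟨c, hc, hc1, hxc⟩ := hsec x hxo
      refine ⟨c, hc, hc1, Subtype.ext ?_⟩
      rw [hρ, ← hxv]
      show q c * q (x : C) * (q c)⁻¹ = q (x : C)
      rw [← map_mul, ← hxc, map_mul, mul_inv_cancel_right]
    refine ⟨e (π u), ?_, ?_⟩
    · simp only [U, Finset.mem_filter, Finset.mem_univ, true_and]
      exact ⟨by rw [← map_mul, ← map_mul, huU, map_one, map_one],
        fun e1 => hu.1 (e.injective (by rw [e1, map_one]))⟩
    · rw [Set.Finite.mem_toFinset, SetLike.mem_coe, mem_ker_moved]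
      show ρ (w (e (π u))) v = v
      rw [hρeq _ (hwI _) u (mem_invGen huU) (by rw [hwπ, MulEquiv.symm_apply_apply])]
      exact hu.2
  have h1 := (Finset.card_le_card hcov).trans (Finset.card_biUnion_le.trans
    ((Finset.sum_le_card_nsmul U _ _ fun u hu => (hZ u hu).le).trans (le_of_eq (smul_eq_mul _ _))))
  rw [Finset.card_univ, ← Nat.card_eq_fintype_card, alt_five_count, ← hcards a,
    mul_comm (Nat.card (Fx a)), ← hm] at h1
  have h2 := Nat.le_of_mul_le_mul_right h1 Nat.card_pos
  have := Nat.pow_le_pow_left hs5 2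
  omega

/-- The weak closure of `t` in its centraliser is `2 × A₅`. -/
theorem invGen_equiv {t : G} (ht : t ∈ (T : Subgroup G)) (ht1 : t ≠ 1) (e : cBar M t ≃* A5) :
    Nonempty (invGen M t ≃* Multiplicative (ZMod 2) × A5) := by
  classical
  haveI : Fact (Nat.Prime 2) := ⟨Nat.prime_two⟩
  haveI : IsSimpleGroup (cBar M t) := e.isSimpleGroup
  set C := cM M t
  set I := invGen M t
  have hbot := h.invGen_core_eq_bot ht ht1 e
  have ht2 := h.toCore.involution ht ht1
  set t' : C := ⟨t, h.mem_cM_self ht⟩ with ht'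
  have htt : t' * t' = 1 := Subtype.ext (sq_eq ht2)
  let τ : I := ⟨t', mem_invGen htt⟩
  let θ : I →* A5 := e.toMonoidHom.comp ((QuotientGroup.mk' (cCore M t)).comp I.subtype)
  have hker : ∀ x : I, θ x = 1 → x = 1 ∨ x = τ := by
    intro x hx
    have hπ : QuotientGroup.mk' (cCore M t) (x : C) = 1 := e.injective (hx.trans (map_one e).symm)
    obtain ⟨d, hd, hcd⟩ := h.inner_cases ht ht1 x.2 ((QuotientGroup.eq_one_iff _).1 hπ)
    rw [hbot, mem_bot] at hd
    subst hd
    rcases hcd with e1 | e1
    · exact Or.inl (Subtype.ext e1)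
    · exact Or.inr (Subtype.ext (e1.trans (one_mul _)))
  -- `θ` is onto
  have hθ : Function.Surjective θ := by
    intro u
    haveI : (I.map (QuotientGroup.mk' (cCore M t))).Normal :=
      (inferInstance : I.Normal).map _ (QuotientGroup.mk'_surjective _)
    have htop : I.map (QuotientGroup.mk' (cCore M t)) = ⊤ := by
      refine (IsSimpleGroup.eq_bot_or_eq_top_of_normal _ inferInstance).resolve_left fun hb => ?_
      rw [Subgroup.map_eq_bot_iff, QuotientGroup.ker_mk'] at hb
      -- all involutions of `T` would then be trivial or `t`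
      have hsub : ((T : Subgroup G) : Set G) ⊆ {1, t} := fun z hz => by
        let z' : C := ⟨z, h.T_le_cM ht hz⟩
        have hzz : z' * z' = 1 := Subtype.ext (by simpa [pow_two] using h.elem.2 z hz)
        obtain ⟨d, hd, hcd⟩ := h.inner_cases ht ht1 (mem_invGen hzz) (hb (mem_invGen hzz))
        rw [hbot, mem_bot] at hd
        subst hd
        rcases hcd with e1 | e1
        · exact Or.inl (congrArg Subtype.val e1)
        · exact Or.inr ((congrArg Subtype.val e1).trans (one_mul t))
      have := (Set.ncard_le_ncard hsub (Set.toFinite _)).trans (Set.ncard_insert_le _ _)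
      rw [Set.ncard_singleton, ← Nat.card_coe_set_eq] at this
      change Nat.card (T : Subgroup G) ≤ 2 at this
      rw [h.toCore.card_T] at this
      omega
    obtain ⟨i, hi, hiu⟩ := htop ▸ mem_top (e.symm u)
    exact ⟨⟨i, hi⟩, by show e (QuotientGroup.mk' _ i) = u; rw [hiu, e.apply_symm_apply]⟩
  -- `t` is not a commutator
  set K := _root_.commutator I
  have hτ : τ ∉ K := fun hK => by
    obtain ⟨P⟩ : Nonempty (Sylow 2 I) := inferInstance
    have hc := (h.two_group ((P.isPGroup'.map I.subtype).map C.subtype)).1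
    have h1 : τ = 1 := eq_one_of_central_commutator P
      (fun x hx y hy => Subtype.ext (Subtype.ext
        (hc _ (mem_map_of_mem _ (mem_map_of_mem _ hx)) _ (mem_map_of_mem _ (mem_map_of_mem _ hy)))))
      (mem_center_iff.2 fun y => Subtype.ext (Subtype.ext (mem_cM.1 (y : C).2).2))
      (by rw [pow_two]; exact Subtype.ext htt) hK
    exact ht1 (congrArg (fun x : I => ((x : C) : G)) h1)
  have hKmap : K.map θ = ⊤ := by
    haveI : IsSimpleGroup A5 := inferInstance
    haveI := (inferInstance : K.Normal).map θ hθ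
    refine (IsSimpleGroup.eq_bot_or_eq_top_of_normal (K.map θ) inferInstance).resolve_left fun hb => ?_
    have hab : ∀ x y : A5, x * y = y * x := fun x y => by
      obtain ⟨x', rfl⟩ := hθ x
      obtain ⟨y', rfl⟩ := hθ y
      have := mem_map_of_mem θ (commutator_mem_commutator (mem_top x') (mem_top y'))
      change θ ⁅x', y'⁆ ∈ K.map θ at this
      rw [hb, mem_bot, map_commutatorElement] at this
      exact commutatorElement_eq_one_iff_mul_comm.1 this
    exact absurd hab (by decide +kernel)
  let θK : K ≃* A5 := MulEquiv.ofBijective (θ.comp K.subtype) ⟨(injective_iff_map_eq_one _).2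
    fun x hx => by
      rcases hker x hx with e1 | e1
      · exact Subtype.ext e1
      · exact absurd (e1 ▸ x.2) hτ,
    fun u => by
      obtain ⟨x, hx, hxu⟩ := hKmap ▸ mem_top u
      exact ⟨⟨x, hx⟩, hxu⟩⟩
  have hτo : orderOf τ = 2 := orderOf_eq_prime (by rw [pow_two]; exact Subtype.ext htt) fun e1 =>
    ht1 (congrArg (fun x : I => ((x : C) : G)) e1)
  have hτ' : τ * τ = 1 := sq_eq hτo
  have hz : ∀ x ∈ zpowers τ, x = 1 ∨ x = τ := by
    intro x hx
    obtain ⟨i, rfl⟩ := mem_zpowers_iff.1 hx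
    rcases Int.even_or_odd' i with ⟨j, rfl | rfl⟩
    · left
      rw [zpow_mul, show ((2 : ℤ)) = ((2 : ℕ) : ℤ) from rfl, zpow_natCast, pow_two, hτ', one_zpow]
    · right
      rw [zpow_add_one, zpow_mul, show ((2 : ℤ)) = ((2 : ℕ) : ℤ) from rfl, zpow_natCast, pow_two,
        hτ', one_zpow, one_mul]
  let f : zpowers τ × K →* I := MonoidHom.noncommCoprod (zpowers τ).subtype K.subtype fun x y => by
    obtain ⟨i, hi⟩ := mem_zpowers_iff.1 x.2
    show Commute (x : I) (y : I)
    rw [← hi]
    exact (show Commute τ (y : I) from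
      Subtype.ext (Subtype.ext (mem_cM.1 ((y : I) : C).2).2.symm)).zpow_left i
  have hf : Function.Bijective f := by
    constructor
    · refine (injective_iff_map_eq_one _).2 ?_
      rintro ⟨x, y⟩ hxy
      change (x : I) * (y : I) = 1 at hxy
      rcases hz x x.2 with e1 | e1
      · rw [e1, one_mul] at hxy
        exact Prod.ext (Subtype.ext e1) (Subtype.ext hxy)
      · rw [e1] at hxy
        refine absurd ?_ hτ
        rw [mul_eq_one_iff_eq_inv.1 hxy]
        exact inv_mem y.2
    · intro x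
      obtain ⟨y, hy, hyx⟩ := hKmap ▸ mem_top (θ x)
      rcases hker (x * y⁻¹) (by rw [map_mul, map_inv, hyx, mul_inv_cancel]) with e1 | e1
      · exact ⟨(1, ⟨y, hy⟩), by show (1 : I) * y = x; rw [one_mul, (mul_inv_eq_one.1 e1)]⟩
      · exact ⟨(⟨τ, mem_zpowers τ⟩, ⟨y, hy⟩), by
          show τ * y = x
          rw [← e1, inv_mul_cancel_right]⟩
  have hz2 : Nat.card (zpowers τ) = 2 := by rw [Nat.card_zpowers, hτo]
  exact ⟨(MulEquiv.ofBijective f hf).symm.trans (MulEquiv.prodCongr
    (mulEquivOfPrimeCardEq (p := 2) hz2 (by simp [Nat.card_eq_fintype_card])) θK)⟩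

/-- With an `A₅` top the group is the first Janko group. -/
theorem isJ1_of_five {t : G} (ht : t ∈ (T : Subgroup G)) (ht1 : t ≠ 1) {F : Type} [Field F]
    [Fintype F] {L : Subgroup (cBar M t)} (top : CentTop M t F L) (h5 : Fintype.card F = 5) :
    Cfsg.IsJ1 G := by
  classical
  haveI := h.normal
  obtain ⟨e⟩ := h.five_top ht ht1 top h5
  obtain ⟨eI⟩ := h.invGen_equiv ht ht1 e
  have ht2 := h.toCore.involution ht ht1
  have hW : Subgroup.closure {x : G | ∃ g : G, x = g * t * g⁻¹ ∧ x * t = t * x} =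
      (invGen M t).map (cM M t).subtype := by
    rw [invGen, MonoidHom.map_closure]
    refine le_antisymm ((closure_le _).2 ?_) ((closure_le _).2 ?_)
    · rintro x ⟨g, rfl, hx⟩
      have ho : orderOf (g * t * g⁻¹) = 2 := (orderOf_conj_eq g t).trans ht2
      exact subset_closure ⟨⟨g * t * g⁻¹, mem_cM.2 ⟨h.toCore.mem_of_involution ho, hx⟩⟩,
        Subtype.ext (sq_eq ho), rfl⟩
    · rintro x ⟨y, hy, rfl⟩
      by_cases h1 : (y : G) = 1
      · show (y : G) ∈ Subgroup.closure _
        rw [h1]; exact one_mem _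
      obtain ⟨g, hg⟩ := h.conj.conj_involution ht2
        (CfsgLib.Involutions.orderOf_eq_two_iff_mul.2 ⟨h1, congrArg Subtype.val hy⟩)
      exact subset_closure ⟨g, hg.symm, (mem_cM.1 y.2).2⟩
  have hJ := Cfsg.Agent.S3239.result t ht2 T ht (fun s hs => h.toCore.comm hs ht)
    ⟨((MulEquiv.subgroupCongr hW).trans
      (equivMapOfInjective _ _ (cM M t).subtype_injective).symm).trans eI⟩
  have hnc : normalClosure ({t} : Set G) = M := by
    have hle : normalClosure ({t} : Set G) ≤ M :=
      normalClosure_le_normal (by simpa using h.toCore.mem_of_involution ht2)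
    refine le_antisymm hle ?_
    haveI := h.simple
    haveI : ((normalClosure ({t} : Set G)).subgroupOf M).Normal :=
      (inferInstance : (normalClosure ({t} : Set G)).Normal).subgroupOf M
    rcases IsSimpleGroup.eq_bot_or_eq_top_of_normal
      ((normalClosure ({t} : Set G)).subgroupOf M) inferInstance with e1 | e1
    · rw [subgroupOf_eq_bot, disjoint_iff, inf_eq_left.2 hle] at e1
      have := subset_normalClosure (Set.mem_singleton t)
      rw [e1] at this
      exact absurd this ht1
    · exact subgroupOf_eq_top.1 e1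
  obtain ⟨j⟩ : Cfsg.Spor.IsoJ1 M := by
    obtain ⟨j⟩ := hJ
    exact ⟨(MulEquiv.subgroupCongr hnc).symm.trans j⟩
  -- every automorphism is inner
  have hMtop : ∀ g : G, g ∈ M := by
    intro g
    have hinn : Cfsg.Inn Cfsg.Spor.J1 = ⊤ := index_eq_one.1 Cfsg.Agent.S2065.result
    obtain ⟨y, hy⟩ : (j.symm.trans ((MulAut.conjNormal (H := M) g).trans j) :
        MulAut Cfsg.Spor.J1) ∈ Cfsg.Inn Cfsg.Spor.J1 := hinn ▸ mem_top _
    set m := j.symm y
    have hg : (m : G)⁻¹ * g ∈ centralizer (M : Set G) := by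
      rw [mem_centralizer_iff]
      intro x hx
      have h1 := congrArg (fun f : MulAut Cfsg.Spor.J1 => j.symm (f (j ⟨x, hx⟩))) hy
      simp only [MulAut.conj_apply, MulEquiv.trans_apply, MulEquiv.symm_apply_apply, map_mul,
        map_inv] at h1
      have h2 : (m : G) * x * (m : G)⁻¹ = g * x * g⁻¹ :=
        (congrArg Subtype.val h1).trans (MulAut.conjNormal_apply g ⟨x, hx⟩)
      calc x * ((m : G)⁻¹ * g) = (m : G)⁻¹ * ((m : G) * x * (m : G)⁻¹) * g := by group
        _ = (m : G)⁻¹ * (g * x * g⁻¹) * g := by rw [h2]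
        _ = (m : G)⁻¹ * g * x := by group
    rw [h.toCore.cent, mem_bot, inv_mul_eq_one] at hg
    exact hg ▸ m.2
  let eG : G ≃* Cfsg.Spor.J1 :=
    (Subgroup.topEquiv.symm.trans (MulEquiv.subgroupCongr ((Subgroup.eq_top_iff' M).2 hMtop).symm)).trans j
  haveI := CfsgLib.Sporadic.J1.isSimple_J1
  exact ⟨eG.isSimpleGroup, (Nat.card_congr eG.toEquiv).trans CfsgLib.Sporadic.J1.card_J1⟩

end Hard

end CfsgLib.EqualOrderE8
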