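import Cfsg.Agent.Lib.EqualOrderE8.Hard

/-!
The hard case: every four-subgroup of the Sylow two-subgroup is rotated by its normaliser in `M`,
and every elementary two-subgroup of order four or eight has a transitive normaliser.
-/

set_option autoImplicit false
set_option linter.unusedSectionVars false
set_option linter.style.haveILetI false

namespace CfsgLib.EqualOrderE8

open Subgroup
open CfsgLib.StrongEmbedding.ElementaryCentralizers (normT)

universe u

/-- The number of four-subgroups of an elementary group of order eight. -/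
theorem card_fours_le {X : Type u} [Group X] [Finite X] (hX : Nat.card X = 8)
    (hsq : ∀ x : X, x ^ 2 = 1) : Nat.card {W : Subgroup X // Nat.card W = 4} ≤ 7 := by
  classical
  haveI : Fact (Nat.Prime 2) := ⟨Nat.prime_two⟩
  have hT := Cfsg.Agent.S4025.card_pairs (p := 2) hsq
  rw [hX] at hT
  have hclo : ∀ (W : {W : Subgroup X // Nat.card W = 4})
      (ab : {ab : W.1 × W.1 // ab.1 ≠ 1 ∧ ab.2 ∉ zpowers ab.1}),
      closure {(ab.1.1 : X), (ab.1.2 : X)} = W.1 := by
    rintro ⟨W, hW⟩ ⟨⟨a, b⟩, ha, hb⟩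
    set D := closure {(a : X), (b : X)}
    have hle : D ≤ W := (closure_le _).2 (by rintro z (rfl | rfl); exacts [a.2, b.2])
    refine Subgroup.eq_of_le_of_card_ge hle ?_
    have h1 : Nat.card D ∣ 4 := hW ▸ card_dvd_of_le hle
    have hz : zpowers (a : X) ≤ D := zpowers_le.2 (subset_closure (Or.inl rfl))
    have hbD : (b : X) ∈ D := subset_closure (Or.inr rfl)
    have hbz : (b : X) ∉ zpowers (a : X) := by
      rintro ⟨i, hi⟩
      exact hb ⟨i, Subtype.ext (by simpa using hi)⟩
    have h2 : Nat.card (zpowers (a : X)) < Nat.card D :=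
      lt_of_le_of_ne (card_le_of_le hz) fun e =>
        hbz ((Subgroup.eq_of_le_of_card_ge hz e.ge).symm ▸ hbD)
    rw [Nat.card_zpowers, orderOf_eq_prime (hsq a) (fun e => ha (Subtype.ext e))] at h2
    rcases (Nat.dvd_prime_pow Nat.prime_two).1 (show Nat.card D ∣ 2 ^ 2 from h1) with ⟨k, hk, e⟩
    rw [hW, e]
    interval_cases k <;> omega
  let f : (Σ W : {W : Subgroup X // Nat.card W = 4},
      {ab : W.1 × W.1 // ab.1 ≠ 1 ∧ ab.2 ∉ zpowers ab.1}) →
      {ab : X × X // ab.1 ≠ 1 ∧ ab.2 ∉ zpowers ab.1} := fun z =>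
    ⟨(z.2.1.1, z.2.1.2), fun e => z.2.2.1 (Subtype.ext e), by
      rintro ⟨i, hi⟩
      exact z.2.2.2 ⟨i, Subtype.ext (by simpa using hi)⟩⟩
  have hf : Function.Injective f := by
    rintro ⟨W, ab⟩ ⟨W', ab'⟩ e
    have e' : ((ab.1.1 : X), (ab.1.2 : X)) = ((ab'.1.1 : X), (ab'.1.2 : X)) := congrArg Subtype.val e
    obtain rfl : W = W' := Subtype.ext (by
      obtain ⟨e1, e2⟩ := Prod.mk.inj e'
      rw [← hclo W ab, ← hclo W' ab', e1, e2])
    have : ab = ab' := Subtype.ext (Prod.ext (Subtype.ext (Prod.ext_iff.1 e').1)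
      (Subtype.ext (Prod.ext_iff.1 e').2))
    rw [this]
  have h := Nat.card_le_card_of_injective f hf
  haveI : Fintype {W : Subgroup X // Nat.card W = 4} := Fintype.ofFinite _
  rw [hT, Nat.card_sigma, Finset.sum_congr rfl fun W _ => (Cfsg.Agent.S4025.card_pairs (X := W.1)
    (p := 2) fun x => Subtype.ext (by simpa using hsq x)).trans (by rw [W.2]), Finset.sum_const,
    Finset.card_univ, ← Nat.card_eq_fintype_card, smul_eq_mul] at h
  omega

variable {G : Type u} [Group G] [Finite G] {M : Subgroup G} {T : Sylow 2 G}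

namespace Hard

variable (h : Hard M T)
include h

/-- Some element of order three of the group induced in `M` fixes an involution. -/
theorem exists_auto_three : ∃ s ∈ autM M T, orderOf s = 3 := by
  haveI : Fact (Nat.Prime 2) := ⟨Nat.prime_two⟩
  obtain ⟨t, ht, ht1, hns⟩ := h.nonsolv
  by_contra hno
  push Not at hno
  refine hns ?_
  set C := cM M t
  have hTC := h.T_le_cM ht
  set TC : Sylow 2 C := T.subtype hTC
  have hTCmap : (TC : Subgroup C).map C.subtype = (T : Subgroup G) := map_subgroupOf_eq_of_le hTC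
  have hle : normalizer ((TC : Subgroup C) : Set C) ≤ centralizer ((TC : Subgroup C) : Set C) := by
    intro g hg
    have hgN : (g : G) ∈ normT T := by
      refine CfsgLib.Coprime.mem_normalizer_of_forall_conj fun x hx => ?_
      rw [← hTCmap] at hx ⊢
      obtain ⟨y, hy, rfl⟩ := hx
      exact ⟨g * y * g⁻¹, (mem_normalizer_iff.1 hg y).1 hy, rfl⟩
    have hgt := (mem_cM.1 g.2)
    set s := (T : Subgroup G).normalizerMonoidHom ⟨g, hgN⟩
    have hs : s ∈ autM M T := ⟨⟨g, hgN⟩, hgt.1, rfl⟩
    have hs3 : s ^ 3 = 1 := by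
      have hp := h.toCore.pow_stab h.auto ht ht1 hgN hgt.2
      rw [← map_pow, ← MonoidHom.mem_ker, normalizerMonoidHom_ker]
      exact mem_centralizer_iff.2 fun x hx => (hp x hx).symm
    have hs1 : s = 1 := by
      by_contra hne
      exact hno s hs (orderOf_eq_prime (hp := ⟨Nat.prime_three⟩) hs3 hne)
    rw [← MonoidHom.mem_ker, normalizerMonoidHom_ker] at hs1
    exact mem_centralizer_iff.2 fun x hx =>
      Subtype.ext (mem_centralizer_iff.1 hs1 _ (hTCmap ▸ mem_map_of_mem _ hx))
  obtain ⟨S, N, hN, hc⟩ := CfsgLib.Transfer.hasNormalPComplement_of_normalizer_le TC hle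
  have hodd : ¬ 2 ∣ Nat.card N := fun h2 => by
    apply S.not_dvd_index
    rwa [hc.index_eq_card]
  haveI := hN
  haveI := CfsgLib.PF.oddSolvable N (Nat.odd_iff.2 (by omega))
  haveI : Group.IsNilpotent (C ⧸ N) := by
    refine (IsPGroup.of_card (p := 2) (n := (Nat.card C).factorization 2) ?_).isNilpotent
    rw [← index_eq_card, hc.symm.index_eq_card, Sylow.card_eq_multiplicity]
  exact solvable_of_ker_le_range N.subtype (QuotientGroup.mk' N) (by simp)

/-- The normaliser of a four-subgroup of `T` in `N_M(T)` rotates it. -/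
theorem rot {W : Subgroup G} (hW : W ≤ (T : Subgroup G)) (hW4 : Nat.card W = 4) {a b : G}
    (ha : a ∈ W) (ha1 : a ≠ 1) (hb : b ∈ W) (hb1 : b ≠ 1) :
    ∃ g ∈ M, g ∈ normT T ∧ (∀ x ∈ W, g * x * g⁻¹ ∈ W) ∧ g * a * g⁻¹ = b := by
  classical
  haveI : Fact (Nat.Prime 7) := ⟨by norm_num⟩
  set X := (T : Subgroup G)
  set W' := W.subgroupOf X
  have hW'4 : Nat.card W' = 4 := (Nat.card_congr (subgroupOfEquivOfLe hW).toEquiv).trans hW4
  have hX : Nat.card X = 8 := h.card_T
  have hsq : ∀ x : X, x ^ 2 = 1 := fun x => Subtype.ext (by simpa using h.elem.2 x x.2)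
  obtain ⟨r, hr, hro⟩ := h.toCore.exists_autM_order h.auto
  obtain ⟨s, hs, hso⟩ := h.exists_auto_three
  let act : MulAut X → Subgroup X := fun u => W'.map u.toMonoidHom
  have hact : ∀ u v : MulAut X, act (u * v) = (act v).map u.toMonoidHom := fun u v => by
    simp only [act, Subgroup.map_map]; rfl
  have hcard : ∀ u, Nat.card (act u) = 4 := fun u =>
    (card_map_of_injective u.injective).trans hW'4
  -- an automorphism of order seven moves every four-subgroup
  have hmove : ∀ u : MulAut X, orderOf u = 7 → act u ≠ W' := by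
    intro u hu e
    haveI : Nontrivial W' := Finite.one_lt_card_iff_nontrivial.1 (by omega)
    obtain ⟨w, hw⟩ := exists_ne (1 : W')
    have hall : ∀ v ∈ zpowers u, ∀ x ∈ W', v x ∈ W' := by
      intro v hv
      obtain ⟨k, rfl⟩ := mem_powers_iff_mem_zpowers.2 hv
      have hk : ∀ m : ℕ, ∀ x ∈ W', (u ^ m) x ∈ W' := by
        intro m
        induction m with
        | zero => intro x hx; simpa using hx
        | succ m ih =>
          intro x hx
          rw [pow_succ' u m, MulAut.mul_apply, ← e]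
          exact mem_map_of_mem _ (ih x hx)
      exact hk k
    have htop : W' = ⊤ := top_le_iff.1 fun y _ => by
      by_cases hy : y = 1
      · exact hy ▸ one_mem W'
      obtain ⟨v, hv, rfl⟩ := transitive_zpowers (p := 7) (n := 3) hX (by norm_num) hu
        (x := (w : X)) (fun e => hw (Subtype.ext e)) hy
      exact hall v hv _ w.2
    rw [htop, card_top, hX] at hW'4
    omega
  have hinj : ∀ i j : Fin 7, act (r ^ (i : ℕ)) = act (r ^ (j : ℕ)) → i = j := by
    intro i j e
    by_contra hne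
    wlog hlt : (i : ℕ) < j generalizing i j
    · exact this j i e.symm (Ne.symm hne) (by
        have : (i : ℕ) ≠ j := fun e => hne (Fin.ext e)
        omega)
    set d := (j : ℕ) - i
    have hd : orderOf (r ^ d) = 7 := by
      refine orderOf_eq_prime (by rw [← pow_mul, mul_comm, pow_mul, ← hro, pow_orderOf_eq_one,
        one_pow]) fun e1 => ?_
      have h1 := orderOf_dvd_of_pow_eq_one e1
      rw [hro] at h1
      have := Nat.le_of_dvd (by omega) h1
      omega
    refine hmove _ hd (Subgroup.map_injective (f := (r ^ (i : ℕ)).toMonoidHom)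
      (r ^ (i : ℕ)).injective ?_)
    rw [← hact, ← pow_add, show (i : ℕ) + d = j by omega]
    exact e.symm
  let g : Fin 7 → {V : Subgroup X // Nat.card V = 4} := fun i => ⟨act (r ^ (i : ℕ)), hcard _⟩
  have hg : Function.Surjective g := ((Nat.bijective_iff_injective_and_card g).2
    ⟨fun i j e => hinj i j (congrArg Subtype.val e), le_antisymm
      (Nat.card_le_card_of_injective g fun i j e => hinj i j (congrArg Subtype.val e))
      (by simpa using card_fours_le hX hsq)⟩).2
  obtain ⟨i, hi⟩ := hg ⟨act s, hcard s⟩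
  set s' := (r ^ (i : ℕ))⁻¹ * s
  have hs'B : s' ∈ autM M T := mul_mem (inv_mem (pow_mem hr _)) hs
  have hs'W : act s' = W' := by
    have hi' : act (r ^ (i : ℕ)) = act s := congrArg Subtype.val hi
    rw [hact, ← hi']
    rw [← hact, inv_mul_cancel]
    exact Subgroup.map_id _
  have hs'1 : s' ≠ 1 := by
    intro e
    rw [inv_mul_eq_one] at e
    have h1 : orderOf s ∣ orderOf r := e ▸ orderOf_pow_dvd _
    rw [hso, hro] at h1
    norm_num at h1
  have h21 : orderOf s' ∣ 21 := by
    have hle := h.toCore.autM_le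
    exact ((orderOf_dvd_natCard (⟨s', hle hs'B⟩ : (T : Subgroup G).normalizerMonoidHom.range)).trans
      (card_range_eq T ▸ h.auto.le)) |> fun e => by rwa [Subgroup.orderOf_mk] at e
  have hs3 : s' ^ 3 = 1 := by
    by_contra h3
    have hu : orderOf (s' ^ 3) = 7 := by
      refine orderOf_eq_prime ?_ h3
      rw [← pow_mul]
      exact orderOf_dvd_iff_pow_eq_one.1 h21
    refine hmove _ hu ?_
    have h2 : act (s' * s') = W' := by rw [hact, hs'W]; exact hs'W
    have h3' : act (s' * (s' * s')) = W' := by rw [hact, h2]; exact hs'W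
    rwa [show s' ^ 3 = s' * (s' * s') by rw [pow_succ', pow_two]]
  have hmaps : ∀ x ∈ W', s' x ∈ W' := fun x hx => hs'W ▸ mem_map_of_mem _ hx
  have h333 : ∀ x, s' (s' (s' x)) = x := fun x => by
    rw [← MulAut.mul_apply, ← MulAut.mul_apply, show s' * s' * s' = s' ^ 3 by
      rw [pow_succ, pow_two], hs3, MulAut.one_apply]
  -- no fixed involution in `W`
  have hfree : ∀ w ∈ W', w ≠ 1 → s' w ≠ w := by
    intro w hw hw1 hfix
    have hpt : ∀ x ∈ W', s' x = x := by
      intro x hx
      by_contra hxne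
      have hx1 : x ≠ 1 := fun e => hxne (by rw [e, map_one])
      have hxw : x ≠ w := fun e => hxne (by rw [e, hfix])
      have hy : s' (s' x) = x := by
        by_contra hyne
        have hsub : ({1, w, x, s' x, s' (s' x)} : Finset X) ⊆ (W' : Set X).toFinite.toFinset := by
          intro z hz
          simp only [Finset.mem_insert, Finset.mem_singleton] at hz
          rw [Set.Finite.mem_toFinset]
          rcases hz with rfl | rfl | rfl | rfl | rfl
          exacts [one_mem W', hw, hx, hmaps x hx, hmaps _ (hmaps x hx)]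
        have hne : ∀ z, z ≠ 1 → s' z ≠ 1 := fun z hz e => hz (s'.injective (e.trans (map_one s').symm))
        have hnw : ∀ z, z ≠ w → s' z ≠ w := fun z hz e => hz (s'.injective (e.trans hfix.symm))
        have h5 := Finset.card_le_card hsub
        rw [Finset.card_insert_of_notMem, Finset.card_insert_of_notMem, Finset.card_insert_of_notMem,
          Finset.card_pair, ← Set.ncard_eq_toFinset_card _ (W' : Set X).toFinite,
          ← Nat.card_coe_set_eq] at h5
        · change 5 ≤ Nat.card W' at h5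
          omega
        all_goals try simp only [Finset.mem_insert, Finset.mem_singleton, not_or]
        · exact fun e => hxne (s'.injective e.symm)
        · exact ⟨Ne.symm hxne, Ne.symm hyne⟩
        · exact ⟨Ne.symm hxw, Ne.symm (hnw x hxw), Ne.symm (hnw _ (hnw x hxw))⟩
        · exact ⟨Ne.symm hw1, Ne.symm hx1, Ne.symm (hne x hx1), Ne.symm (hne _ (hne x hx1))⟩
      have h0 := h333 x
      rw [hy] at h0
      exact hxne h0
    refine hs'1 (MulEquiv.ext fun x => ?_)
    by_cases hx : x ∈ W'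
    · exact hpt x hx
    have hidx : W'.index = 2 := by
      have := W'.card_mul_index
      rw [hW'4, hX] at this
      omega
    have hc : x⁻¹ * s' x ∈ W' := by
      rw [mul_mem_iff_of_index_two hidx, inv_mem_iff]
      refine iff_of_false hx fun hsx => hx ?_
      have h0 := h333 x
      rw [hpt _ hsx, hpt _ hsx] at h0
      exact h0 ▸ hsx
    set c := x⁻¹ * s' x
    have hsx : s' x = x * c := by simp [c]
    have hc2 : c * c = 1 := by rw [← pow_two]; exact hsq c
    have h0 := h333 x
    rw [hsx, map_mul, hpt c hc, hsx, map_mul, map_mul, hpt c hc, hsx] at h0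
    rw [mul_assoc (x * c), hc2, mul_one] at h0
    rw [hsx]
    exact h0
  set a' : X := ⟨a, hW ha⟩
  have ha' : a' ∈ W' := ha
  have ha'1 : a' ≠ 1 := fun e => ha1 (congrArg Subtype.val e)
  have hsa := hfree a' ha' ha'1
  have hs2 : s' (s' a') ≠ a' := fun e => hsa (by
    have h0 := h333 a'
    rwa [e] at h0)
  obtain ⟨v, hv, hva⟩ : ∃ v : MulAut X, (v = 1 ∨ v = s' ∨ v = s' * s') ∧ v a' = ⟨b, hW hb⟩ := by
    by_contra! hall
    have hb0 := hall 1 (Or.inl rfl)
    have hb1' := hall s' (Or.inr (Or.inl rfl))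
    have hb2 := hall (s' * s') (Or.inr (Or.inr rfl))
    rw [MulAut.one_apply] at hb0
    rw [MulAut.mul_apply] at hb2
    have hsub : ({1, ⟨b, hW hb⟩, a', s' a', s' (s' a')} : Finset X) ⊆
        (W' : Set X).toFinite.toFinset := by
      intro z hz
      simp only [Finset.mem_insert, Finset.mem_singleton] at hz
      rw [Set.Finite.mem_toFinset]
      rcases hz with rfl | rfl | rfl | rfl | rfl
      exacts [one_mem W', hb, ha', hmaps _ ha', hmaps _ (hmaps _ ha')]
    have hne : ∀ z, z ≠ 1 → s' z ≠ 1 := fun z hz e => hz (s'.injective (e.trans (map_one s').symm))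
    have h5 := Finset.card_le_card hsub
    rw [Finset.card_insert_of_notMem, Finset.card_insert_of_notMem, Finset.card_insert_of_notMem,
      Finset.card_pair, ← Set.ncard_eq_toFinset_card _ (W' : Set X).toFinite,
      ← Nat.card_coe_set_eq] at h5
    · change 5 ≤ Nat.card W' at h5
      omega
    all_goals try simp only [Finset.mem_insert, Finset.mem_singleton, not_or]
    · exact fun e => hsa (s'.injective e.symm)
    · exact ⟨Ne.symm hsa, Ne.symm hs2⟩
    · exact ⟨Ne.symm hb0, Ne.symm hb1', Ne.symm hb2⟩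
    · exact ⟨fun e => hb1 (congrArg Subtype.val e).symm, Ne.symm ha'1, Ne.symm (hne _ ha'1),
        Ne.symm (hne _ (hne _ ha'1))⟩
  have hvB : v ∈ autM M T := by
    rcases hv with rfl | rfl | rfl
    exacts [one_mem _, hs'B, mul_mem hs'B hs'B]
  have hvW : ∀ x ∈ W', v x ∈ W' := by
    rcases hv with rfl | rfl | rfl <;> intro x hx
    exacts [hx, hmaps x hx, hmaps _ (hmaps x hx)]
  obtain ⟨γ, hγM, hγN, hγ⟩ := mem_autM hvB
  refine ⟨γ, hγM, hγN, fun x hx => ?_, ?_⟩
  · rw [show γ * x * γ⁻¹ = _ from hγ ⟨x, hW hx⟩]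
    exact hvW ⟨x, hW hx⟩ hx
  · rw [show γ * a * γ⁻¹ = _ from hγ a', hva]

/-- An elementary two-group of order four or eight has a transitive normaliser in `M`. -/
theorem trans_sub {W : Subgroup G} (hW : Nat.card W = 4 ∨ Nat.card W = 8) {a b : G} (ha : a ∈ W)
    (ha1 : a ≠ 1) (hb : b ∈ W) (hb1 : b ≠ 1) :
    ∃ g ∈ M, (∀ x ∈ W, g * x * g⁻¹ ∈ W) ∧ g * a * g⁻¹ = b := by
  haveI : Fact (Nat.Prime 2) := ⟨Nat.prime_two⟩
  haveI := h.normal
  have hWp : IsPGroup 2 W := by
    rcases hW with e | e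
    · exact IsPGroup.of_card (n := 2) (by rw [e]; norm_num)
    · exact IsPGroup.of_card (n := 3) (by rw [e]; norm_num)
  obtain ⟨c, hc⟩ := CfsgLib.Involutions.exists_conj_le_sylow hWp T
  set W₁ := W.map (MulAut.conj c).toMonoidHom
  have hle : W₁ ≤ (T : Subgroup G) := by
    rintro _ ⟨x, hx, rfl⟩
    exact hc x hx
  have hc₁ : Nat.card W₁ = Nat.card W := card_map_of_injective (MulAut.conj c).injective
  have hne : ∀ x : G, x ≠ 1 → c * x * c⁻¹ ≠ 1 := fun x hx e => hx (conj_eq_one_iff.1 e)
  obtain ⟨g, hgM, hgW, hg⟩ : ∃ g ∈ M, (∀ x ∈ W₁, g * x * g⁻¹ ∈ W₁) ∧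
      g * (c * a * c⁻¹) * g⁻¹ = c * b * c⁻¹ := by
    rcases hW with e | e
    · obtain ⟨g, hgM, -, hgW, hg⟩ := h.rot hle (hc₁.trans e) (a := c * a * c⁻¹) (b := c * b * c⁻¹)
        ⟨a, ha, rfl⟩ (hne a ha1) ⟨b, hb, rfl⟩ (hne b hb1)
      exact ⟨g, hgM, hgW, hg⟩
    · obtain ⟨g, hgM, hgN, hg⟩ := h.trans' (hc a ha) (hne a ha1) (hc b hb) (hne b hb1)
      have heq : W₁ = (T : Subgroup G) :=
        Subgroup.eq_of_le_of_card_ge hle (by rw [hc₁, e, h.card_T]; norm_num)
      refine ⟨g, hgM, fun x hx => ?_, hg⟩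
      rw [heq] at hx ⊢
      exact (mem_normalizer_iff.1 hgN x).1 hx
  refine ⟨c⁻¹ * g * c, by simpa using h.normal.conj_mem g hgM c⁻¹, fun x hx => ?_, ?_⟩
  · obtain ⟨y, hy, hye⟩ := hgW _ ⟨x, hx, rfl⟩
    have hye' : c * y * c⁻¹ = g * (c * x * c⁻¹) * g⁻¹ := hye
    have : c⁻¹ * g * c * x * (c⁻¹ * g * c)⁻¹ = c⁻¹ * (g * (c * x * c⁻¹) * g⁻¹) * c := by group
    rw [this, ← hye']
    simpa [mul_assoc] using hy
  · have : c⁻¹ * g * c * a * (c⁻¹ * g * c)⁻¹ = c⁻¹ * (g * (c * a * c⁻¹) * g⁻¹) * c := by group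
    rw [this, hg]
    group

end Hard

end CfsgLib.EqualOrderE8
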