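import Cfsg.Agent.Lib.EqualOrderE8.Hard
import Cfsg.Agent.Lib.GW.Field
import Cfsg.Agent.Lib.PSL2.MaxDihedral
import Cfsg.Agent.Lib.PSL2.Involution
import Cfsg.Agent.Lib.PLocal.Constraint
import Cfsg.Agent.S0217
import Cfsg.Agent.S2903

/-!
The signalizer functor given by the odd cores of the centralisers: with a large top it is trivial.
-/

set_option autoImplicit false
set_option linter.unusedSectionVars false
set_option linter.style.haveILetI false

namespace CfsgLib.EqualOrderE8

open Subgroup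
open CfsgLib.StrongEmbedding.ElementaryCentralizers (normT)

universe u

section Psl

open CfsgLib.PSL2

variable {F : Type} [Field F] [Fintype F]

local notation "PSL" => Matrix.ProjectiveSpecialLinearGroup (Fin 2) F

/-- The centraliser of an involution of `PSL₂(q)`, `q ≥ 11`, `q ≡ ±3 (mod 8)`, is maximal. -/
theorem isCoatom_centralizer (h8 : Fintype.card F % 8 = 3 ∨ Fintype.card F % 8 = 5)
    (hq : 11 ≤ Fintype.card F) {i : PSL} (hi : orderOf i = 2) :
    IsCoatom (centralizer ({i} : Set PSL)) := by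
  classical
  obtain ⟨p, hp⟩ := CharP.exists F
  have : Fact p.Prime := ⟨CharP.char_is_prime F p⟩
  let ι : F →+* AlgebraicClosure F := algebraMap F _
  have : CharP (AlgebraicClosure F) p := charP_of_injective_ringHom ι.injective p
  obtain ⟨Φ, hΦ⟩ := exists_frob (F := F) (L := AlgebraicClosure F) p
  have hodd : Odd (Fintype.card F) := Nat.odd_iff.2 (by omega)
  obtain ⟨j, hj, hjc⟩ : ∃ j : PSL, orderOf j = 2 ∧ IsCoatom (centralizer ({j} : Set PSL)) := by
    rcases h8 with h8 | h8
    · obtain ⟨x, y, hP⟩ := exists_isPair_nonsplit hΦ (ι := ι)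
      obtain ⟨j, hj, hC, -⟩ := exists_centralizer_eq hodd hΦ hP (by omega)
      refine ⟨j, hj, hC ▸ isCoatom_pslPair hΦ p hP (Or.inr ⟨rfl, ?_⟩)⟩
      simp only [Finset.mem_insert, Finset.mem_singleton, not_or]
      omega
    · obtain ⟨x, y, hP⟩ := exists_isPair_split (F := F) (ι := ι) (Φ := Φ)
      obtain ⟨j, hj, hC, -⟩ := exists_centralizer_eq hodd hΦ hP (by omega)
      refine ⟨j, hj, hC ▸ isCoatom_pslPair hΦ p hP (Or.inl ⟨rfl, ?_⟩)⟩
      simp only [Finset.mem_insert, Finset.mem_singleton, not_or]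
      omega
  obtain ⟨g, rfl⟩ := isConj_iff.1 (isConj_of_orderOf_two (two_ne_zero_of_odd hodd) hj hi)
  have e : centralizer ({g * j * g⁻¹} : Set PSL) = (MulAut.conj g).mapSubgroup (centralizer {j}) := by
    ext x
    rw [MulEquiv.mapSubgroup_apply, mem_centralizer_singleton_iff]
    constructor
    · intro hx
      refine ⟨g⁻¹ * x * g, mem_centralizer_singleton_iff.2 ?_, by simp [mul_assoc]⟩
      calc g⁻¹ * x * g * j = g⁻¹ * (x * (g * j * g⁻¹)) * g := by group
        _ = g⁻¹ * (g * j * g⁻¹ * x) * g := by rw [hx]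
        _ = j * (g⁻¹ * x * g) := by group
    · rintro ⟨z, hz, rfl⟩
      have hz' := mem_centralizer_singleton_iff.1 hz
      show g * z * g⁻¹ * (g * j * g⁻¹) = g * j * g⁻¹ * (g * z * g⁻¹)
      calc g * z * g⁻¹ * (g * j * g⁻¹) = g * (z * j) * g⁻¹ := by group
        _ = g * (j * z) * g⁻¹ := by rw [hz']
        _ = _ := by group
  rw [e]
  exact (OrderIso.isCoatom_iff _ _).2 hjc

end Psl

/-- In a normal `PSL₂(q)`, `q ≥ 11`, `q ≡ ±3 (mod 8)`, two commuting involutions have centralisers
generating it. -/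
theorem le_of_centralizers {Y : Type u} [Group Y] [Finite Y] {F : Type} [Field F] [Fintype F]
    {L : Subgroup Y} (hP : CfsgLib.GW.Field.Psl L F)
    (h8 : Fintype.card F % 8 = 3 ∨ Fintype.card F % 8 = 5) (hq : 11 ≤ Fintype.card F)
    {a b : Y} (ha : orderOf a = 2) (hb : orderOf b = 2) (hne : a ≠ b) (hab : a * b = b * a)
    (haL : a ∈ L) (hbL : b ∈ L) {K : Subgroup Y} (hKa : L ⊓ centralizer ({a} : Set Y) ≤ K)
    (hKb : L ⊓ centralizer ({b} : Set Y) ≤ K) : L ≤ K := by
  let f := L.subtype.comp hP.e.symm.toMonoidHom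
  have hf : Function.Injective f := Subtype.val_injective.comp hP.e.symm.injective
  have hco : IsCoatom (centralizer ({hP.e ⟨a, haL⟩} : Set (Matrix.ProjectiveSpecialLinearGroup (Fin 2) F))) :=
    isCoatom_centralizer h8 hq (by rw [MulEquiv.orderOf_eq, Subgroup.orderOf_mk, ha])
  have hmem : ∀ {v : Y} (hv : v ∈ L) {z}, z ∈ centralizer ({hP.e ⟨v, hv⟩} : Set
      (Matrix.ProjectiveSpecialLinearGroup (Fin 2) F)) → f z ∈ L ⊓ centralizer ({v} : Set Y) := by
    intro v hv z hz
    refine ⟨(hP.e.symm z).2, mem_centralizer_singleton_iff.2 ?_⟩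
    have h1 := congrArg f (mem_centralizer_singleton_iff.1 hz)
    rw [map_mul, map_mul] at h1
    have h2 : f (hP.e ⟨v, hv⟩) = v := congrArg Subtype.val (hP.e.symm_apply_apply ⟨v, hv⟩)
    rwa [h2] at h1
  -- an element of odd prime order in the centraliser of `b`
  obtain ⟨r, hr, hr2, hrd⟩ : ∃ r : ℕ, r.Prime ∧ r ≠ 2 ∧
      r ∣ Nat.card (L ⊓ centralizer ({b} : Set Y) : Subgroup Y) := by
    set c := Nat.card (L ⊓ centralizer ({b} : Set Y) : Subgroup Y)
    have hc := hP.card_centralizer hb hbL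
    obtain ⟨m, hcm, hm, hm3⟩ : ∃ m, c = 4 * m ∧ m % 2 = 1 ∧ 3 ≤ m := by
      refine ⟨c / 4, ?_⟩
      rcases h8 with h8 | h8
      · rw [CfsgLib.GW.FieldModel.eps, if_neg (by omega)] at hc
        omega
      · rw [CfsgLib.GW.FieldModel.eps, if_pos (by omega)] at hc
        omega
    obtain ⟨r, hr, hrm⟩ := Nat.exists_prime_and_dvd (show m ≠ 1 by omega)
    refine ⟨r, hr, ?_, hcm ▸ hrm.mul_left 4⟩
    rintro rfl
    omega
  have hne' : ¬ centralizer ({hP.e ⟨b, hbL⟩} : Set (Matrix.ProjectiveSpecialLinearGroup (Fin 2) F)) ≤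
      centralizer {hP.e ⟨a, haL⟩} := by
    intro hle
    haveI := Fact.mk hr
    obtain ⟨⟨x, hxm⟩, hx⟩ := exists_prime_orderOf_dvd_card'
      (G := (L ⊓ centralizer ({b} : Set Y) : Subgroup Y)) r hrd
    rw [Subgroup.orderOf_mk] at hx
    obtain ⟨hxL, hxb⟩ := mem_inf.1 hxm
    rw [mem_centralizer_singleton_iff] at hxb
    have hxa : hP.e ⟨x, hxL⟩ ∈ centralizer ({hP.e ⟨a, haL⟩} : Set _) := hle (by
      rw [mem_centralizer_singleton_iff, ← map_mul, ← map_mul]
      exact congrArg hP.e (Subtype.ext hxb))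
    have h1 := (hmem haL hxa).2
    have h2 : f (hP.e ⟨x, hxL⟩) = x := congrArg Subtype.val (hP.e.symm_apply_apply ⟨x, hxL⟩)
    rw [h2] at h1
    replace h1 := mem_centralizer_singleton_iff.1 h1
    have := hP.eq_one_of_mem ha hb hne hab h1 hxb (hx ▸ hr.odd_of_ne_two hr2) hxL
    rw [this, orderOf_one] at hx
    exact hr.ne_one hx.symm
  have htop := hco.2 _ (left_lt_sup.2 hne')
  have hle : centralizer ({hP.e ⟨a, haL⟩} : Set _) ⊔ centralizer {hP.e ⟨b, hbL⟩} ≤ K.comap f :=
    sup_le (fun z hz => hKa (hmem haL hz)) fun z hz => hKb (hmem hbL hz)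
  rw [htop] at hle
  intro x hx
  have h1 := hle (mem_top (hP.e ⟨x, hx⟩))
  rw [mem_comap] at h1
  have h2 : f (hP.e ⟨x, hx⟩) = x := congrArg Subtype.val (hP.e.symm_apply_apply ⟨x, hx⟩)
  rwa [h2] at h1

variable {G : Type u} [Group G] [Finite G] {M : Subgroup G} {T : Sylow 2 G}

/-- The subgroup generated by the cores. -/
def thGen (M : Subgroup G) (T : Sylow 2 G) : Subgroup G :=
  ⨆ a : {a : G // a ∈ (T : Subgroup G) ∧ a ≠ 1}, th M a

theorem exists_mem_normT {H : Subgroup G} {x : G} (hT : (T : Subgroup G) ≤ H)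
    (hx : ∀ y ∈ (T : Subgroup G), x * y * x⁻¹ ∈ H) : ∃ c ∈ H, c * x ∈ normT T := by
  haveI : Fact (Nat.Prime 2) := ⟨Nat.prime_two⟩
  have hp : IsPGroup 2 (((T : Subgroup G).map (MulAut.conj x).toMonoidHom).subgroupOf H) :=
    (T.isPGroup'.map _).comap_subtype
  obtain ⟨c, hc⟩ := CfsgLib.Involutions.exists_conj_le_sylow hp (T.subtype hT)
  refine ⟨c, c.2, CfsgLib.Coprime.mem_normalizer_of_forall_conj fun y hy => ?_⟩
  have h1 := hc ⟨x * y * x⁻¹, hx y hy⟩ (mem_subgroupOf.2 ⟨y, hy, rfl⟩)
  replace h1 : (c : G) * (x * y * x⁻¹) * (c : G)⁻¹ ∈ (T : Subgroup G) := h1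
  simpa [mul_assoc] using h1

/-- An element normalising a four-group inside `T` and centralising one involution of it centralises
it. -/
theorem commute_of_normalizer (h : Hard M T) {W : Subgroup G} (hW : W ≤ (T : Subgroup G)) {t v y : G}
    (hv : v ∈ W) (ht : y * t = t * y) (hWt : ∀ w ∈ W, w = 1 ∨ w = t ∨ w = v ∨ w = t * v)
    (ht2 : t * t = 1) (hvt : v ≠ t) (hv1 : v ≠ 1)
    (hy : y ∈ normalizer (W : Set G)) : y * v = v * y := by
  haveI : Fact (Nat.Prime 2) := ⟨Nat.prime_two⟩
  obtain ⟨k, m, hm, hkm⟩ := Nat.exists_eq_pow_mul_and_not_dvd (orderOf_pos y).ne' 2 (by norm_num)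
  have h2 : y ^ 2 * v = v * y ^ 2 := by
    have hc : y * v * y⁻¹ ∈ W := (mem_normalizer_iff.1 hy v).1 hv
    have hct : ∀ u, y * u * y⁻¹ = t → u = t := fun u hu => by
      have : y * u * y⁻¹ = y * t * y⁻¹ := by rw [hu, ht, mul_inv_cancel_right]
      exact mul_left_cancel (mul_right_cancel this)
    rcases hWt _ hc with e | e | e | e
    · exact absurd (conj_eq_one_iff.1 e) hv1
    · exact absurd (hct v e) hvt
    · rw [mul_inv_eq_iff_eq_mul] at e
      exact ((show Commute y v from e).pow_left 2).eq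
    · rw [mul_inv_eq_iff_eq_mul] at e
      calc y ^ 2 * v = y * (t * v * y) := by rw [← e, pow_two, mul_assoc]
        _ = t * (y * v) * y := by simp only [← mul_assoc, ht]
        _ = t * t * v * (y * y) := by rw [e]; simp only [mul_assoc]
        _ = v * y ^ 2 := by rw [ht2, one_mul, pow_two]
  have hp : IsPGroup 2 (zpowers (y ^ m)) :=
    isPGroup_zpowers (k := k) (by
      rw [orderOf_pow_of_dvd (by rintro rfl; simp at hm) ⟨2 ^ k, by rw [hkm, mul_comm]⟩, hkm,
        Nat.mul_div_cancel _ (Nat.pos_of_ne_zero (by rintro rfl; simp at hm))])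
  have hpW := hp.to_sup_of_normal_right' (T.isPGroup'.to_le hW)
    (zpowers_le.2 (pow_mem hy m))
  have hm' : y ^ m * v = v * y ^ m :=
    (h.two_group hpW).1 _ (mem_sup_left (mem_zpowers _)) _ (mem_sup_right hv)
  obtain ⟨j, rfl⟩ : Odd m := Nat.odd_iff.2 (by omega)
  have hj : Commute ((y ^ 2) ^ j)⁻¹ v := ((show Commute (y ^ 2) v from h2).pow_left j).inv_left
  have e : y = ((y ^ 2) ^ j)⁻¹ * y ^ (2 * j + 1) := by rw [← pow_mul, pow_succ, inv_mul_cancel_left]
  rw [e]
  exact (hj.mul_left hm').eq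

namespace Hard

variable (h : Hard M T)
include h

/-- With a top of order at least eleven the odd cores are trivial. -/
theorem th_eq_bot_of_balance
    (hbal : ∀ a ∈ (T : Subgroup G), a ≠ 1 → ∀ b ∈ (T : Subgroup G), b ≠ 1 →
      ∀ x ∈ th M a, x * b = b * x → x ∈ th M b)
    {t : G} (ht : t ∈ (T : Subgroup G)) (ht1 : t ≠ 1) {F : Type} [Field F] [Fintype F]
    {L : Subgroup (cBar M t)} (top : CentTop M t F L) (hq : 11 ≤ Fintype.card F) : th M t = ⊥ := by
  classical
  haveI : Fact (Nat.Prime 2) := ⟨Nat.prime_two⟩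
  haveI := h.normal
  by_contra hne
  have h8 : Nat.card (T : Subgroup G) = 8 := h.card_T
  obtain ⟨hodd, hfix⟩ := Cfsg.Agent.S0217.result (p := 2) (T : Subgroup G)
    (fun a ha b hb => h.comm ha hb) (fun a ha => h.elem.2 a ha) (by rw [h8]; norm_num) (th M)
    (fun a _ _ => (th_le M a).trans inf_le_right)
    (fun a _ _ e => (Nat.not_even_iff_odd.2 (odd_card_th M a)) (even_iff_two_dvd.2 e))
    (fun a ha _ b hb x hx => conj_mem_th (h.T_le_cM ha hb) hx)
    (fun a _ _ => CfsgLib.PF.oddSolvable _ (odd_card_th M a))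
    (fun a ha ha1 b hb hb1 x hx => hbal a ha ha1 b hb hb1 x hx.1
      (mem_centralizer_singleton_iff.1 hx.2))
  change ¬ 2 ∣ Nat.card (thGen M T) at hodd
  have hth : ∀ a ∈ (T : Subgroup G), a ≠ 1 → th M a ≤ thGen M T := fun a ha ha1 =>
    le_iSup (fun a : {a : G // a ∈ (T : Subgroup G) ∧ a ≠ 1} => th M a) ⟨a, ha, ha1⟩
  have hmem : ∀ g : G, (∀ a ∈ (T : Subgroup G), a ≠ 1 →
      ∀ x ∈ th M a, g * x * g⁻¹ ∈ thGen M T) → g ∈ normalizer (thGen M T : Set G) := by
    intro g hg
    refine CfsgLib.Coprime.mem_normalizer_of_forall_conj fun x hx => ?_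
    have : thGen M T ≤ (thGen M T).comap (MulAut.conj g).toMonoidHom :=
      iSup_le fun a x hx => hg a a.2.1 a.2.2 x hx
    exact this hx
  set M0 := M ⊓ normalizer (thGen M T : Set G) with hM0
  have hN : ∀ g ∈ M, g ∈ normT T → g ∈ M0 := fun g hgM hg => ⟨hgM, hmem g fun a ha ha1 x hx =>
    hth _ ((mem_normalizer_iff.1 hg a).1 ha) (fun e => ha1 (conj_eq_one_iff.1 e)) (conj_mem_th' hx)⟩
  have hT0 : (T : Subgroup G) ≤ M0 := fun x hx => hN x (h.le hx) (le_normalizer hx)
  -- centralisers of four-groups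
  have hW0 : ∀ W : Subgroup G, W ≤ (T : Subgroup G) → ¬ IsCyclic W →
      ∀ x ∈ M, (∀ w ∈ W, x * w = w * x) → x ∈ M0 := by
    intro W hWT hW x hxM hxW
    refine ⟨hxM, CfsgLib.Coprime.mem_normalizer_of_forall_conj fun y hy => ?_⟩
    haveI : IsMulCommutative W := ⟨⟨fun a b => Subtype.ext (h.comm (hWT a.2) (hWT b.2))⟩⟩
    have hgen := CfsgLib.CoprimeGeneration.iSup_centralizer_eq W (thGen M T) hW (hWT.trans (hT0.trans inf_le_right))
      (by
        obtain ⟨k, hk⟩ := IsPGroup.iff_card.1 (T.isPGroup'.to_le hWT)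
        rw [hk]
        exact Nat.Coprime.pow_left k ((Nat.prime_two.coprime_iff_not_dvd).2 hodd))
    have : thGen M T ≤ (thGen M T).comap (MulAut.conj x).toMonoidHom := by
      conv_lhs => rw [← hgen]
      refine iSup₂_le fun w hw z hz => ?_
      have hwT := hWT hw.1
      refine hth w hwT hw.2 ?_
      refine conj_mem_th (mem_cM.2 ⟨hxM, hxW w hw.1⟩) ?_
      exact hfix w hwT hw.2 ▸ hz
    exact this hy
  -- the centraliser of `t`
  have hC0 : cM M t ≤ M0 := by
    let π := QuotientGroup.mk' (cCore M t)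
    have hsur : Function.Surjective π := QuotientGroup.mk'_surjective _
    have ht2 : t * t = 1 := by rw [← pow_two]; exact h.elem.2 t ht
    have htc : ∀ x : cM M t, (x : G) = t → ∀ c : cM M t, c * x * c⁻¹ = x := fun x hx c =>
      Subtype.ext (by
        show (c : G) * x * (c : G)⁻¹ = x
        rw [hx, (mem_cM.1 c.2).2, mul_inv_cancel_right])
    have hOK : Cfsg.oddCore (cM M t) ≤ M0.subgroupOf (cM M t) := by
      intro x hx
      have : (x : G) ∈ th M t := ⟨x, hx, rfl⟩
      exact ⟨th_le_M M t this, le_normalizer (hth t ht ht1 this)⟩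
    have hker : cCore M t ≤ M0.subgroupOf (cM M t) := by
      refine sup_le hOK ?_
      refine (closure_le _).2 fun x hx => ?_
      obtain ⟨y, hy, hc⟩ := Group.mem_conjugatesOfSet_iff.1 hx
      obtain ⟨c, rfl⟩ := isConj_iff.1 hc
      rw [SetLike.mem_coe, htc y hy c, mem_subgroupOf, show (y : G) = t from hy]
      exact hT0 ht
    obtain ⟨a', b', ha'L, hb'L, ha', hb', hab', habc'⟩ := top.psl.exists_four
    obtain ⟨S', hS'⟩ : ∃ S' : Sylow 2 (cBar M t), a' ∈ (S' : Subgroup _) ∧ b' ∈ (S' : Subgroup _) := by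
      have hp : IsPGroup 2 (closure ({a', b'} : Set (cBar M t))) := by
        refine CfsgLib.DGroup.closure_isPGroup ?_ ?_
        · rintro x (rfl | rfl) y (rfl | rfl)
          exacts [rfl, habc', habc'.symm, rfl]
        · rw [Involutions.orderOf_eq_two_iff_mul] at ha' hb'
          rintro x (rfl | rfl)
          exacts [ha'.2, hb'.2]
      obtain ⟨S', hS'⟩ := hp.exists_le_sylow
      exact ⟨S', hS' (subset_closure (by simp)), hS' (subset_closure (by simp))⟩
    set TC : Sylow 2 (cM M t) := T.subtype (h.T_le_cM ht)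
    obtain ⟨g, hg⟩ := CfsgLib.Involutions.exists_conj_le_sylow S'.isPGroup' (TC.mapSurjective hsur)
    set a := g * a' * g⁻¹
    set b := g * b' * g⁻¹
    have haL : a ∈ L := top.psl.normal.conj_mem _ ha'L g
    have hbL : b ∈ L := top.psl.normal.conj_mem _ hb'L g
    have ha : orderOf a = 2 := by rw [← ha']; exact (MulAut.conj g).orderOf_eq a'
    have hb : orderOf b = 2 := by rw [← hb']; exact (MulAut.conj g).orderOf_eq b'
    have hab : a ≠ b := fun e => hab' (mul_left_cancel (mul_right_cancel e))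
    have habc : a * b = b * a := by
      calc a * b = g * (a' * b') * g⁻¹ := by simp [a, b, mul_assoc]
        _ = g * (b' * a') * g⁻¹ := by rw [habc']
        _ = b * a := by simp [a, b, mul_assoc]
    -- a preimage in `T` of an involution of the image
    have hpre : ∀ i ∈ ((TC.mapSurjective hsur : Sylow 2 (cBar M t)) : Subgroup (cBar M t)),
        ∃ v : cM M t, (v : G) ∈ (T : Subgroup G) ∧ π v = i := by
      intro i hi
      rw [Sylow.coe_mapSurjective] at hi
      obtain ⟨v, hv, hv'⟩ := hi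
      exact ⟨v, mem_subgroupOf.1 (by rwa [← Sylow.coe_subtype T (h.T_le_cM ht)]), hv'⟩
    have key : ∀ i ∈ ((TC.mapSurjective hsur : Sylow 2 (cBar M t)) : Subgroup (cBar M t)),
        orderOf i = 2 → L ⊓ centralizer ({i} : Set (cBar M t)) ≤ (M0.subgroupOf (cM M t)).map π := by
      intro i hi hi2 z hz
      obtain ⟨v, hvT, rfl⟩ := hpre i hi
      obtain ⟨x, rfl⟩ := hsur z
      refine ⟨x, ?_, rfl⟩
      let t' : cM M t := ⟨t, h.mem_cM_self ht⟩
      have ht'K : t' ∈ cCore M t := mem_sup_right (subset_normalClosure rfl)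
      have hv1 : v ∉ cCore M t := fun hv => by
        rw [show π v = 1 from (QuotientGroup.eq_one_iff v).2 hv, orderOf_one] at hi2
        omega
      have hvt : (v : G) ≠ t := fun e => hv1 (by rw [show v = t' from Subtype.ext e]; exact ht'K)
      have hv1' : (v : G) ≠ 1 := fun e => hv1 (by rw [show v = 1 from Subtype.ext e]; exact one_mem _)
      have hv2 : v * v = 1 := Subtype.ext (by
        show (v : G) * v = 1
        rw [← pow_two]; exact h.elem.2 _ hvT)
      have ht2' : t' * t' = 1 := Subtype.ext ht2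
      have htv : t' * v = v * t' := Subtype.ext (h.comm ht hvT)
      -- the four-group
      let W : Subgroup (cM M t) :=
        { carrier := {w | w = 1 ∨ w = t' ∨ w = v ∨ w = t' * v}
          one_mem' := Or.inl rfl
          inv_mem' := by
            rintro w (rfl | rfl | rfl | rfl)
            · simp
            · exact Or.inr (Or.inl (inv_eq_of_mul_eq_one_left ht2'))
            · exact Or.inr (Or.inr (Or.inl (inv_eq_of_mul_eq_one_left hv2)))
            · refine Or.inr (Or.inr (Or.inr (inv_eq_of_mul_eq_one_left ?_)))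
              rw [mul_assoc, ← mul_assoc v, ← htv, mul_assoc t', hv2, mul_one, ht2']
          mul_mem' := by
            have e1 : v * t' = t' * v := htv.symm
            have e2 : t' * (t' * v) = v := by rw [← mul_assoc, ht2', one_mul]
            have e3 : v * (t' * v) = t' := by rw [← mul_assoc, e1, mul_assoc, hv2, mul_one]
            have e4 : t' * v * t' = v := by rw [mul_assoc, e1, e2]
            have e5 : t' * v * v = t' := by rw [mul_assoc, hv2, mul_one]
            have e6 : t' * v * (t' * v) = 1 := by rw [mul_assoc, e3, ht2']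
            rintro a b (rfl | rfl | rfl | rfl) (rfl | rfl | rfl | rfl) <;>
              simp [e1, e2, e3, e4, e5, e6, hv2, ht2'] }
      have hWT : W.map (cM M t).subtype ≤ (T : Subgroup G) := by
        rintro _ ⟨w, hw, rfl⟩
        rcases hw with rfl | rfl | rfl | rfl
        exacts [one_mem _, ht, hvT, mul_mem ht hvT]
      have hWp : IsPGroup 2 W := fun w => ⟨1, Subtype.ext (Subtype.ext (by
        simpa using h.elem.2 _ (hWT ⟨w, w.2, rfl⟩)))⟩
      have hWK : ∀ y : cM M t, π y = π (x * v * x⁻¹) → y ∈ W →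
          π (x * v * x⁻¹) ∈ (W.map π) := fun y e hy => ⟨y, hy, e⟩
      have hxv : π (x * v * x⁻¹) = π v := by
        rw [map_mul, map_mul, map_inv, mem_centralizer_singleton_iff.1 hz.2, mul_inv_cancel_right]
      let O := Cfsg.oddCore (cM M t)
      -- `x v x⁻¹` is congruent to an element of `W` modulo the odd core
      have hO : ∀ y ∈ W, QuotientGroup.mk' O (x * y * x⁻¹) ∈ W.map (QuotientGroup.mk' O) := by
        have hv' : QuotientGroup.mk' O (x * v * x⁻¹) ∈ W.map (QuotientGroup.mk' O) := by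
          have h1 : v⁻¹ * (x * v * x⁻¹) ∈ cCore M t := QuotientGroup.eq.1 hxv.symm
          have hle : cCore M t ≤ (W.map (QuotientGroup.mk' O)).comap (QuotientGroup.mk' O) := by
            refine sup_le (fun o ho => ?_) ((closure_le _).2 fun w hw => ?_)
            · rw [mem_comap, QuotientGroup.mk'_apply, (QuotientGroup.eq_one_iff o).2 ho]
              exact one_mem _
            · obtain ⟨y, hy, hc⟩ := Group.mem_conjugatesOfSet_iff.1 hw
              obtain ⟨c, rfl⟩ := isConj_iff.1 hc
              rw [SetLike.mem_coe, htc y hy c, show y = t' from Subtype.ext hy]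
              exact ⟨t', Or.inr (Or.inl rfl), rfl⟩
          have h2 := mem_comap.1 (hle h1)
          rw [map_mul] at h2
          have h3 := mul_mem (mem_map_of_mem (QuotientGroup.mk' O) (show v ∈ W from Or.inr (Or.inr (Or.inl rfl)))) h2
          rwa [map_inv, mul_inv_cancel_left] at h3
        have ht' : x * t' * x⁻¹ = t' := htc t' rfl x
        intro y hy
        rcases hy with rfl | rfl | rfl | rfl
        · exact ⟨1, Or.inl rfl, by simp⟩
        · exact ⟨t', Or.inr (Or.inl rfl), by rw [ht']⟩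
        · exact hv'
        · have e : x * (t' * v) * x⁻¹ = x * t' * x⁻¹ * (x * v * x⁻¹) := by group
          rw [e, ht', map_mul]
          exact mul_mem (mem_map_of_mem _ (show t' ∈ W from Or.inr (Or.inl rfl))) hv'
      obtain ⟨n, hn, hnx⟩ := CfsgLib.PLocal.exists_mul_mem_normalizer (N := O) (p := 2)
        CfsgLib.PCore.pPrimeCore_coprime hWp hO
      have hcomm : ((n * x : cM M t) : G) * v = v * (n * x : cM M t) := by
        refine commute_of_normalizer h hWT (v := (v : G)) (t := t)
          ⟨v, Or.inr (Or.inr (Or.inl rfl)), rfl⟩ (mem_cM.1 (n * x).2).2 ?_ ht2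
          hvt hv1' ?_
        · rintro _ ⟨w, hw, rfl⟩
          rcases hw with rfl | rfl | rfl | rfl
          exacts [Or.inl rfl, Or.inr (Or.inl rfl), Or.inr (Or.inr (Or.inl rfl)),
            Or.inr (Or.inr (Or.inr rfl))]
        · exact le_normalizer_map (cM M t).subtype ⟨_, hnx, rfl⟩
      have hnx0 : ((n * x : cM M t) : G) ∈ M0 := by
        refine hW0 (W.map (cM M t).subtype) hWT ?_ _ (n * x).2.1 ?_
        · intro hc
          haveI := hc
          have hWv : ((v : G) ∈ W.map (cM M t).subtype) := ⟨v, Or.inr (Or.inr (Or.inl rfl)), rfl⟩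
          have hWt : (t ∈ W.map (cM M t).subtype) := ⟨t', Or.inr (Or.inl rfl), rfl⟩
          have := CfsgLib.PSL2.eq_of_orderOf_two (G := W.map (cM M t).subtype) (a := ⟨v, hWv⟩)
            (b := ⟨t, hWt⟩) ((Subgroup.orderOf_mk _ hWv).trans (h.involution hvT hv1'))
            ((Subgroup.orderOf_mk _ hWt).trans (h.involution ht ht1))
          exact hvt (congrArg Subtype.val this)
        · rintro _ ⟨w, hw, rfl⟩
          have hct : ((n * x : cM M t) : G) * t = t * (n * x : cM M t) := (mem_cM.1 (n * x).2).2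
          rcases hw with rfl | rfl | rfl | rfl
          · simp
          · exact hct
          · exact hcomm
          · exact ((show Commute _ t from hct).mul_right hcomm).eq
      have hn0 := hOK hn
      rw [SetLike.mem_coe, mem_subgroupOf] at *
      have := mul_mem (inv_mem hn0) hnx0
      simpa using this
    have haT := hg a' hS'.1
    have hbT := hg b' hS'.2
    have hL0 : L.comap π ≤ M0.subgroupOf (cM M t) := by
      have h1 := le_of_centralizers top.psl top.mod8 hq ha hb hab habc haL hbL (key a haT ha)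
        (key b hbT hb)
      intro x hx
      obtain ⟨y, hy, hyx⟩ := h1 hx
      have h2 := hker (QuotientGroup.eq.1 hyx)
      simpa using mul_mem hy h2
    -- the image of `T` lies in `L`
    have hTL : ((TC.mapSurjective hsur : Sylow 2 (cBar M t)) : Subgroup (cBar M t)) ≤ L := by
      set Tb := ((TC.mapSurjective hsur : Sylow 2 (cBar M t)) : Subgroup (cBar M t)) with hTb
      have hTbc : Nat.card Tb ≤ 4 := by
        have h1 := CfsgLib.Coprime.card_map_mul_inf_ker π (TC : Subgroup (cM M t))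
        rw [← Sylow.coe_mapSurjective hsur TC, ← hTb] at h1
        have h2 : Nat.card (TC : Subgroup (cM M t)) = 8 := by
          rw [← h8]
          exact Nat.card_congr (Subgroup.subgroupOfEquivOfLe (h.T_le_cM ht)).toEquiv
        have h3 : 2 ≤ Nat.card ((TC : Subgroup (cM M t)) ⊓ π.ker : Subgroup (cM M t)) := by
          rw [← Nat.succ_le_iff.symm]
          refine Finite.one_lt_card_iff_nontrivial.2 ((nontrivial_iff_ne_bot _).2 fun e => ht1 ?_)
          have : (⟨t, h.mem_cM_self ht⟩ : cM M t) ∈ (TC : Subgroup (cM M t)) ⊓ π.ker := by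
            refine ⟨?_, ?_⟩
            · rw [Sylow.coe_subtype]; exact mem_subgroupOf.2 ht
            · exact (QuotientGroup.eq_one_iff _).2 (mem_sup_right (subset_normalClosure rfl))
          rw [e, mem_bot] at this
          exact congrArg Subtype.val this
        rw [h2, inf_comm] at h1
        by_contra hlt
        have h5 := Nat.mul_le_mul (show 5 ≤ Nat.card Tb by omega) h3
        exact absurd (h5.trans (le_of_eq h1)) (by norm_num)
      let V : Subgroup (cBar M t) := closure {a, b}
      have hVT : V ≤ Tb := (closure_le _).2 (by rintro z (rfl | rfl); exacts [haT, hbT])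
      have hVL : V ≤ L := (closure_le _).2 (by rintro z (rfl | rfl); exacts [haL, hbL])
      have haV : a ∈ V := subset_closure (by simp)
      have hbV : b ∈ V := subset_closure (by simp)
      have h4 : 4 ≤ Nat.card V := by
        have hsub : ({1, a, b, a * b} : Set (cBar M t)) ⊆ V := by
          rintro z (rfl | rfl | rfl | rfl)
          exacts [one_mem _, haV, hbV, mul_mem haV hbV]
        rw [Involutions.orderOf_eq_two_iff_mul] at ha hb
        have h5 : ({1, a, b, a * b} : Set (cBar M t)).ncard = 4 := by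
          rw [Set.ncard_insert_of_notMem, Set.ncard_insert_of_notMem, Set.ncard_pair]
          · intro e
            exact ha.1 (right_eq_mul.1 e)
          · rintro (e | e)
            · exact hab e
            · exact hb.1 (left_eq_mul.1 e)
          · rintro (e | e | e)
            · exact ha.1 e.symm
            · exact hb.1 e.symm
            · exact hab (mul_left_cancel (ha.2.trans e))
        have h6 := Set.ncard_le_ncard hsub (Set.toFinite _)
        rw [h5, ← Nat.card_coe_set_eq] at h6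
        exact h6
      rw [← eq_of_le_of_card_ge hVT (hTbc.trans h4)]
      exact hVL
    intro x hx
    set H := (L.comap π).map (cM M t).subtype
    have hTH : (T : Subgroup G) ≤ H := by
      intro y hy
      refine ⟨⟨y, h.T_le_cM ht hy⟩, mem_comap.2 (hTL ?_), rfl⟩
      rw [Sylow.coe_mapSurjective, Sylow.coe_subtype]
      exact mem_map_of_mem π (mem_subgroupOf.2 hy)
    haveI := top.psl.normal
    obtain ⟨c, hc, hcx⟩ := exists_mem_normT hTH (x := x) fun y hy => by
      obtain ⟨y', hy', rfl⟩ := hTH hy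
      exact ⟨⟨x, hx⟩ * y' * ⟨x, hx⟩⁻¹, (inferInstance : (L.comap π).Normal).conj_mem _ hy' _, rfl⟩
    obtain ⟨c, hc', rfl⟩ := hc
    have h1 := hN _ (mul_mem c.2.1 hx.1) hcx
    have h2 : ((c : cM M t) : G) ∈ M0 := hL0 hc'
    have := mul_mem (inv_mem h2) h1
    simpa using this
  -- the centralisers of all involutions
  have hCa : ∀ a ∈ (T : Subgroup G), a ≠ 1 → cM M a ≤ M0 := by
    intro a ha ha1 x hx
    obtain ⟨g, hgM, hgN, hga⟩ := h.trans' ht ht1 ha ha1
    have hg0 := hN g hgM hgN
    have h1 := conj_mem_cM (g := g⁻¹) hx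
    have e : g⁻¹ * a * g⁻¹⁻¹ = t := by rw [← hga]; group
    rw [e] at h1
    have := mul_mem (mul_mem hg0 (hC0 h1)) (inv_mem hg0)
    simpa [mul_assoc] using this
  -- strongly embedded
  have hproper : M0.subgroupOf M ≠ ⊤ := by
    intro e
    haveI := h.simple
    have hle : M ≤ normalizer (thGen M T : Set G) :=
      (subgroupOf_eq_top.1 e).trans inf_le_right
    have hle' : thGen M T ≤ M := iSup_le fun a => th_le_M M _
    haveI : ((thGen M T).subgroupOf M).Normal := (normal_subgroupOf_iff_le_normalizer hle').2 hle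
    rcases IsSimpleGroup.eq_bot_or_eq_top_of_normal ((thGen M T).subgroupOf M) inferInstance with e | e
    · refine hne (le_bot_iff.1 fun x hx => mem_bot.2 ?_)
      have : (⟨x, th_le_M M t hx⟩ : M) ∈ (thGen M T).subgroupOf M := mem_subgroupOf.2 (hth t ht ht1 hx)
      rw [e, mem_bot] at this
      exact congrArg Subtype.val this
    · exact hodd (h.two_dvd_card.trans (card_dvd_of_le (subgroupOf_eq_top.1 e)))
  have hstrong : Cfsg.IsStronglyPEmbedded 2 (M0.subgroupOf M) := by
    refine ⟨h.two_dvd_card, hproper, T.subtype h.le, ?_⟩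
    refine iSup_le fun ⟨Q, hQ, hQ1⟩ g hg => ?_
    rw [Sylow.coe_subtype] at hQ
    obtain ⟨q, hq, hq1⟩ : ∃ q ∈ Q, q ≠ 1 := by
      by_contra! hall
      refine hQ1 fun A _ _ => ?_
      have : Q = ⊥ := (eq_bot_iff_forall Q).2 hall
      haveI : Subsingleton Q := this ▸ inferInstance
      simp
    set C := M ⊓ centralizer ((Q.map M.subtype : Subgroup G) : Set G)
    have hTC : (T : Subgroup G) ≤ C := fun y hy => ⟨h.le hy, mem_centralizer_iff.2 fun w hw => by
      obtain ⟨w', hw', rfl⟩ := hw
      exact h.comm (mem_subgroupOf.1 (hQ hw')) hy⟩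
    obtain ⟨c, hc, hcg⟩ := exists_mem_normT hTC (x := (g : G)) fun y hy =>
      ⟨M.mul_mem (M.mul_mem g.2 (h.le hy)) (M.inv_mem g.2), mem_centralizer_iff.2 fun w hw => by
        obtain ⟨w', hw', rfl⟩ := hw
        have h1 : g⁻¹ * w' * g ∈ Q := by
          have hg' : g⁻¹ ∈ normalizer (Q : Set M) := (normalizer (Q : Set M)).inv_mem hg
          have := (mem_normalizer_iff.1 hg' w').1 hw'
          simpa using this
        have h2 : Commute y ((g⁻¹ * w' * g : M) : G) := h.comm hy (mem_subgroupOf.1 (hQ h1))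
        show (w' : G) * ((g : G) * y * (g : G)⁻¹) = (g : G) * y * (g : G)⁻¹ * w'
        calc (w' : G) * ((g : G) * y * (g : G)⁻¹)
            = g * (((g⁻¹ * w' * g : M) : G) * y) * (g : G)⁻¹ := by simp [mul_assoc]
          _ = g * (y * ((g⁻¹ * w' * g : M) : G)) * (g : G)⁻¹ := by rw [h2.eq]
          _ = (g : G) * y * (g : G)⁻¹ * w' := by simp [mul_assoc]⟩
    have h1 : c ∈ M0 := hCa (q : G) (mem_subgroupOf.1 (hQ hq)) (fun e => hq1 (Subtype.ext e))
      (mem_cM.2 ⟨hc.1, (mem_centralizer_iff.1 hc.2 _ (mem_map_of_mem M.subtype hq)).symm⟩)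
    have h2 := hN _ (mul_mem hc.1 g.2) hcg
    have := mul_mem (inv_mem h1) h2
    show (g : G) ∈ M0
    simpa using this
  have hrank : Cfsg.PRankAtLeast 2 2 M := by
    refine ⟨(T : Subgroup G).subgroupOf M, ⟨⟨fun a b => Subtype.ext (Subtype.ext (h.comm a.2 b.2))⟩⟩,
      fun a ha => Subtype.ext (by simpa using h.elem.2 _ (mem_subgroupOf.1 ha)), ?_⟩
    rw [Nat.card_congr (Subgroup.subgroupOfEquivOfLe h.le).toEquiv, h8]
    norm_num
  haveI : Group.IsSolvable (M0.subgroupOf M) := Cfsg.Agent.S2903.result hrank _ hstrong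
  refine h.not_solvable ht ht1 (Group.isSolvable_of_isSolvable_injective
    (f := ((cM M t).subtype.codRestrict M fun x => x.2.1).codRestrict (M0.subgroupOf M)
      fun x => mem_subgroupOf.2 (hC0 x.2)) fun x y e => ?_)
  exact Subtype.ext (congrArg (fun z : M0.subgroupOf M => ((z : M) : G)) e)

end Hard

end CfsgLib.EqualOrderE8
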