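import Cfsg.Agent.Lib.EqualOrderE8.Auto
import Cfsg.Agent.Lib.GW.FieldBase

/-!
The hard case: an elementary Sylow two-subgroup of order eight, the centraliser in the simple
subgroup of some involution not solvable.  Definitions and the first consequences.
-/

set_option autoImplicit false
set_option linter.unusedSectionVars false
set_option linter.style.haveILetI false

namespace CfsgLib.EqualOrderE8

open Subgroup
open CfsgLib.StrongEmbedding.ElementaryCentralizers (normT)

universe u

variable {G : Type u} [Group G] [Finite G]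

/-- The hard case. -/
structure Hard (M : Subgroup G) (T : Sylow 2 G) : Prop extends Core M T 3 where
  auto : AutData T 3 7 3
  nonsolv : ∃ t ∈ (T : Subgroup G), t ≠ 1 ∧ ¬ Group.IsSolvable (cM M t)

/-- The normal subgroup `O(C_M(t))⟨t⟩` of `C_M(t)`. -/
def cCore (M : Subgroup G) (t : G) : Subgroup (cM M t) :=
  Cfsg.oddCore (cM M t) ⊔ normalClosure {x : cM M t | (x : G) = t}

instance cCore_normal (M : Subgroup G) (t : G) : (cCore M t).Normal := by
  unfold cCore
  infer_instance

/-- The quotient `C_M(t) / O(C_M(t))⟨t⟩`. -/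
abbrev cBar (M : Subgroup G) (t : G) : Type u := cM M t ⧸ cCore M t

/-- The top of the centraliser of `t`: a self-centralising normal `PSL₂(q)`, `q ≡ ±3 (mod 8)`. -/
structure CentTop (M : Subgroup G) (t : G) (F : Type) [Field F] [Fintype F]
    (L : Subgroup (cBar M t)) : Prop where
  psl : CfsgLib.GW.Field.Psl L F
  mod8 : Fintype.card F % 8 = 3 ∨ Fintype.card F % 8 = 5

variable {M : Subgroup G} {T : Sylow 2 G}

namespace Hard

variable (h : Hard M T)
include h

/-- Two-subgroups are elementary abelian. -/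
theorem two_group {S : Subgroup G} (hS : IsPGroup 2 S) :
    (∀ a ∈ S, ∀ b ∈ S, a * b = b * a) ∧ ∀ a ∈ S, a ^ 2 = 1 := by
  haveI : Fact (Nat.Prime 2) := ⟨Nat.prime_two⟩
  obtain ⟨g, hg⟩ := CfsgLib.Involutions.exists_conj_le_sylow hS T
  refine ⟨fun a ha b hb => (MulAut.conj g).injective ?_, fun a ha => (MulAut.conj g).injective ?_⟩
  · rw [map_mul, map_mul]
    exact h.comm (hg a ha) (hg b hb)
  · rw [map_pow, map_one]
    exact h.elem.2 _ (hg a ha)

theorem conj_T {a : G} (ha : orderOf a = 2) : ∃ g : G, g * a * g⁻¹ ∈ (T : Subgroup G) := by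
  haveI : Fact (Nat.Prime 2) := ⟨Nat.prime_two⟩
  obtain ⟨g, hg⟩ := CfsgLib.Involutions.exists_conj_le_sylow
    (isPGroup_zpowers (p := 2) (x := a) (k := 1) (by rw [ha, pow_one])) T
  exact ⟨g, hg a (mem_zpowers a)⟩

theorem T_le_cM {a : G} (ha : a ∈ (T : Subgroup G)) : (T : Subgroup G) ≤ cM M a :=
  fun _ hx => mem_cM.2 ⟨h.le hx, h.comm hx ha⟩

theorem mem_cM_self {t : G} (ht : t ∈ (T : Subgroup G)) : t ∈ cM M t := h.T_le_cM ht ht

/-- Four divides the order of the centraliser of an element commuting with two involutions. -/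
theorem four_dvd {x a b : G} (ha : orderOf a = 2) (hb : orderOf b = 2) (hne : a ≠ b)
    (hab : a * b = b * a) (hxa : x * a = a * x) (hxb : x * b = b * x) :
    4 ∣ Nat.card (centralizer ({x} : Set G)) := by
  classical
  let W : Subgroup G := closure {a, b}
  have hW : W ≤ centralizer ({x} : Set G) := (closure_le _).2 (by
    rintro z (rfl | rfl) <;> rw [SetLike.mem_coe, mem_centralizer_singleton_iff]
    exacts [hxa.symm, hxb.symm])
  have haW : a ∈ W := subset_closure (Or.inl rfl)
  have hbW : b ∈ W := subset_closure (Or.inr rfl)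
  haveI : IsMulCommutative W := by
    refine Subgroup.isMulCommutative_closure ?_
    rintro u (rfl | rfl) v (rfl | rfl) <;> first | rfl | exact hab | exact hab.symm
  have h2 : ∀ w ∈ W, w ^ 2 = 1 := by
    intro w hw
    induction hw using Subgroup.closure_induction with
    | mem z hz =>
      rcases hz with rfl | rfl
      · rw [← ha, pow_orderOf_eq_one]
      · rw [← hb, pow_orderOf_eq_one]
    | one => exact one_pow 2
    | mul u v hu hv iu iv =>
      have hc : Commute u v :=
        congrArg Subtype.val (IsMulCommutative.is_comm.comm (⟨u, hu⟩ : W) ⟨v, hv⟩)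
      rw [hc.mul_pow, iu, iv, one_mul]
    | inv u hu iu => rw [inv_pow, iu, inv_one]
  have hWp : IsPGroup 2 W := fun w => ⟨1, Subtype.ext (by simpa using h2 w w.2)⟩
  haveI : Fact (Nat.Prime 2) := ⟨Nat.prime_two⟩
  obtain ⟨k, hk⟩ := IsPGroup.iff_card.1 hWp
  have h3 : 3 ≤ Nat.card W := by
    have hsub : ({1, a, b} : Finset G) ⊆ (W : Set G).toFinite.toFinset := by
      intro z hz
      simp only [Finset.mem_insert, Finset.mem_singleton] at hz
      rw [Set.Finite.mem_toFinset]
      rcases hz with rfl | rfl | rfl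
      exacts [one_mem W, haW, hbW]
    have h1a : (1 : G) ≠ a := fun e => by rw [← e, orderOf_one] at ha; omega
    have h1b : (1 : G) ≠ b := fun e => by rw [← e, orderOf_one] at hb; omega
    have := Finset.card_le_card hsub
    rw [Finset.card_eq_three.2 ⟨1, a, b, h1a, h1b, hne, rfl⟩,
      ← Set.ncard_eq_toFinset_card _ (W : Set G).toFinite, ← Nat.card_coe_set_eq] at this
    exact this
  have hk2 : 2 ≤ k := by
    by_contra hlt
    have := Nat.pow_le_pow_right two_pos (show k ≤ 1 by omega)
    omega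
  exact ((pow_dvd_pow 2 hk2).trans (dvd_of_eq hk.symm)).trans (card_dvd_of_le hW)

/-- A second involution in the centraliser of an element commuting with `t`. -/
theorem exists_second {x t : G} (ht : orderOf t = 2) (hxt : x * t = t * x)
    (h4 : 4 ∣ Nat.card (centralizer ({x} : Set G))) :
    ∃ b : G, orderOf b = 2 ∧ b ≠ t ∧ b * t = t * b ∧ x * b = b * x := by
  haveI : Fact (Nat.Prime 2) := ⟨Nat.prime_two⟩
  set C := centralizer ({x} : Set G)
  have htC : t ∈ C := mem_centralizer_singleton_iff.2 hxt.symm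
  obtain ⟨S, hS⟩ := (isPGroup_zpowers (G := C) (p := 2) (x := ⟨t, htC⟩) (k := 1)
    (by rw [orderOf_mk, ht, pow_one])).exists_le_sylow
  obtain ⟨hc, hsq⟩ := h.two_group (S.isPGroup'.map C.subtype)
  have hSc : 4 ≤ Nat.card (S : Subgroup C) := by
    refine Nat.le_of_dvd Nat.card_pos ?_
    rw [Sylow.card_eq_multiplicity]
    exact (pow_dvd_pow 2 ((Nat.prime_two.pow_dvd_iff_le_factorization Nat.card_pos.ne').1
      (show 2 ^ 2 ∣ Nat.card C from h4)))
  obtain ⟨s, hs, hs1, hst⟩ : ∃ s ∈ (S : Subgroup C), (s : G) ≠ 1 ∧ (s : G) ≠ t := by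
    by_contra! hall
    have hsub : ((S : Subgroup C) : Set C) ⊆ {1, ⟨t, htC⟩} := fun s hs => by
      by_cases h1 : (s : G) = 1
      · exact Or.inl (Subtype.ext h1)
      · exact Or.inr (Subtype.ext (hall s hs h1))
    have := (Set.ncard_le_ncard hsub (Set.toFinite _)).trans (Set.ncard_insert_le _ _)
    rw [Set.ncard_singleton, ← Nat.card_coe_set_eq] at this
    change Nat.card (S : Subgroup C) ≤ 1 + 1 at this
    omega
  exact ⟨s, orderOf_eq_prime (hsq _ (mem_map_of_mem _ hs)) hs1, hst,
    hc _ (mem_map_of_mem _ hs) _ (mem_map_of_mem _ (hS (mem_zpowers _))),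
    (mem_centralizer_singleton_iff.1 s.2).symm⟩

theorem trans' {a b : G} (ha : a ∈ (T : Subgroup G)) (ha1 : a ≠ 1) (hb : b ∈ (T : Subgroup G))
    (hb1 : b ≠ 1) : ∃ g ∈ M, g ∈ normT T ∧ g * a * g⁻¹ = b :=
  h.toCore.trans h.auto ha ha1 hb hb1

theorem not_solvable {t : G} (ht : t ∈ (T : Subgroup G)) (ht1 : t ≠ 1) :
    ¬ Group.IsSolvable (cM M t) := by
  haveI := h.normal
  obtain ⟨s, hs, hs1, hns⟩ := h.nonsolv
  obtain ⟨g, hgM, -, hg⟩ := h.trans' ht ht1 hs hs1
  intro hsol
  refine hns (Group.isSolvable_of_surjective (f := ((MulAut.conj g).toMonoidHom.comp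
    (cM M t).subtype).codRestrict (cM M s) fun x => hg ▸ conj_mem_cM x.2) ?_)
  rintro ⟨y, hy⟩
  refine ⟨⟨g⁻¹ * y * g, ?_⟩, Subtype.ext (by simp [mul_assoc])⟩
  have := conj_mem_cM (g := g⁻¹) hy
  rw [← hg] at this
  simpa [mul_assoc] using this

end Hard

end CfsgLib.EqualOrderE8
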