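import Cfsg.Agent.Lib.EqualOrderE8.Hard
import Cfsg.Agent.Lib.EqualOrderE8.RankAct
import Cfsg.Agent.Lib.AutPSL.FieldGalois

/-!
The hard case with trivial odd core of the centraliser: the field of the top is of degree one, or
of degree three with a Sylow subgroup for the characteristic of order `r³`.
-/

set_option autoImplicit false
set_option linter.unusedSectionVars false
set_option linter.style.haveILetI false

namespace CfsgLib.EqualOrderE8

open Subgroup
open CfsgLib.PSL2 CfsgLib.GW.Field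

universe u

section Pgl

open Matrix CfsgLib.GWCons.OuterTorus

variable {F : Type*} [Field F] [Fintype F] {r : ℕ} [hr : Fact r.Prime] [CharP F r]

theorem pmk_pow (A : Matrix (Fin 2) (Fin 2) F) (hA : A.det ≠ 0) (k : ℕ) :
    pmk A hA ^ k = pmk (A ^ k) (by rw [det_pow]; exact pow_ne_zero _ hA) := by
  induction k with
  | zero =>
    rw [pow_zero, eq_comm, pmk_eq_one_iff]
    exact ⟨1, by rw [pow_zero, one_smul]⟩
  | succ k ih =>
    rw [pow_succ, ih, pmk_mul]
    exact pmk_eq_iff.2 ⟨1, by rw [one_smul, pow_succ]⟩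

/-- An element commuting with one of order the characteristic has order dividing it. -/
theorem pgl_pow_eq_one_of_commute (h2 : (2 : F) ≠ 0) {g g' : ProjGenLinGroup (Fin 2) F}
    (hg : g ^ r = 1) (hg1 : g ≠ 1) (hc : g * g' = g' * g) : g' ^ r = 1 := by
  have hrp := hr.out
  obtain ⟨A, hA, rfl⟩ := pmk_surjective g
  obtain ⟨B, hB, rfl⟩ := pmk_surjective g'
  -- a unipotent representative
  rw [pmk_pow, pmk_eq_one_iff] at hg
  obtain ⟨c, hc1⟩ := hg
  obtain ⟨d, hd⟩ : ∃ d : F, d ^ r = c :=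
    Finite.injective_iff_surjective.1 (frobenius_inj F r) c
  have hd0 : d ≠ 0 := by
    rintro rfl
    rw [zero_pow hrp.ne_zero] at hd
    apply hA
    have := congrArg Matrix.det hc1
    rw [det_pow, ← hd, zero_smul, det_zero] at this
    exact eq_zero_of_pow_eq_zero this
  set A₁ := d⁻¹ • A with hA₁
  have hA₁d : A₁.det ≠ 0 := by
    rw [hA₁, det_smul]
    exact mul_ne_zero (pow_ne_zero _ (inv_ne_zero hd0)) hA
  have hA₁e : pmk A hA = pmk A₁ hA₁d := pmk_eq_iff.2 ⟨d⁻¹, rfl⟩
  rw [hA₁e] at hg1 hc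
  have hA₁r : A₁ ^ r = 1 := by
    rw [hA₁, smul_pow, hc1, smul_smul, ← hd, inv_pow, inv_mul_cancel₀ (pow_ne_zero _ hd0), one_smul]
  set N := A₁ - 1 with hNdef
  have hNr : N ^ r = 0 := by
    rw [hNdef, sub_pow_char_of_commute _ (Commute.one_right A₁), one_pow, hA₁r, sub_self]
  have hN0 : N ≠ 0 := fun e => hg1 (pmk_eq_one_iff.2 ⟨1, by rw [one_smul]; exact sub_eq_zero.1 e⟩)
  -- the representatives commute
  rw [pmk_mul, pmk_mul, pmk_eq_iff] at hc
  obtain ⟨μ, hμ⟩ := hc
  have hk : ∀ k : ℕ, B * A₁ ^ k = μ ^ k • (A₁ ^ k * B) := by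
    intro k
    induction k with
    | zero => simp
    | succ k ih =>
      rw [pow_succ, ← mul_assoc, ih, smul_mul_assoc, mul_assoc, ← hμ, mul_smul_comm, smul_smul,
        ← mul_assoc, pow_succ]
  have hμ1 : μ = 1 := by
    have h1 := hk r
    rw [hA₁r, one_mul, mul_one] at h1
    have hB0 : B ≠ 0 := fun e => hB (by rw [e]; simp)
    have h3 : μ ^ r = 1 := by
      by_contra h4
      have : (μ ^ r - 1) • B = 0 := by rw [sub_smul, one_smul, ← h1, sub_self]
      rcases smul_eq_zero.1 this with h5 | h5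
      · exact h4 (sub_eq_zero.1 h5)
      · exact hB0 h5
    refine sub_eq_zero.1 (eq_zero_of_pow_eq_zero (n := r) ?_)
    rw [sub_pow_char, h3, one_pow, sub_self]
  rw [hμ1, one_smul] at hμ
  have hNB : Commute N B := (show Commute A₁ B from hμ).sub_left (Commute.one_left B)
  -- `N` squares to zero
  have hNt : N.trace = 0 := (Matrix.isNilpotent_trace_of_isNilpotent ⟨r, hNr⟩).eq_zero
  have hNN : N * N = 0 := by
    have hdet : N.det = 0 := by
      refine eq_zero_of_pow_eq_zero (n := r) ?_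
      rw [← det_pow, hNr]; simp
    rw [sq_eq_of_trace N hNt, hdet, neg_zero, zero_smul]
  set m := B.trace / 2
  set B₀ := B - m • (1 : Matrix (Fin 2) (Fin 2) F) with hB₀
  have hB₀t : B₀.trace = 0 := by
    rw [hB₀, trace_sub, trace_smul, trace_one, Fintype.card_fin, smul_eq_mul, Nat.cast_ofNat,
      div_mul_cancel₀ _ h2, sub_self]
  have hcN : Commute N B₀ := hNB.sub_right ((Commute.one_right N).smul_right m)
  have hsum : (N + B₀).trace = 0 := by rw [trace_add, hNt, hB₀t, add_zero]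
  have hB₀B₀ := sq_eq_of_trace B₀ hB₀t
  obtain ⟨τ, hτ⟩ : ∃ τ : F, N * B₀ = τ • 1 := by
    refine ⟨(-(N + B₀).det + B₀.det) / 2, ?_⟩
    have h1 := sq_eq_of_trace (N + B₀) hsum
    rw [add_mul, mul_add, mul_add, hNN, zero_add, hcN.symm.eq, hB₀B₀] at h1
    have h3 : (2 : F) • (N * B₀) = (-(N + B₀).det + B₀.det) • 1 := by
      rw [two_smul, add_smul, ← h1, neg_smul]
      abel
    rw [div_eq_inv_mul, mul_smul, ← h3, inv_smul_smul₀ h2]
  have hτ0 : τ = 0 := by
    have h1 : N * B₀ * (N * B₀) = 0 := by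
      rw [hcN.symm.mul_mul_mul_comm, hNN, zero_mul]
    rw [hτ, smul_mul_assoc, one_mul, smul_smul] at h1
    simpa using congrFun (congrFun h1 0) 0
  rw [hτ0, zero_smul] at hτ
  have hB₀0 : B₀ * B₀ = 0 := by
    have h1 : N * (B₀ * B₀) = 0 := by rw [← mul_assoc, hτ, zero_mul]
    rw [hB₀B₀, mul_smul_comm, mul_one] at h1
    rcases smul_eq_zero.1 h1 with h3 | h3
    · rw [hB₀B₀, h3, zero_smul]
    · exact absurd h3 hN0
  rw [pmk_pow, pmk_eq_one_iff]
  refine ⟨m ^ r, ?_⟩
  have hBe : B = m • (1 : Matrix (Fin 2) (Fin 2) F) + B₀ := by rw [hB₀]; abel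
  obtain ⟨k, hk⟩ : ∃ k, r = k + 2 := ⟨r - 2, by have := hrp.two_le; omega⟩
  rw [hBe, add_pow_char_of_commute _ ((Commute.one_left B₀).smul_left m), smul_pow, one_pow,
    show B₀ ^ r = 0 by rw [hk, pow_add, pow_two, hB₀0, mul_zero], add_zero]

/-- In a group over `PSL₂`: an element of the linear part commuting with one of order the
characteristic has order dividing it. -/
theorem psl_pow_eq_one_of_commute {Y : Type u} [Group Y] [Finite Y] {L : Subgroup Y}
    (hY : Psl L F) {x y : Y} (hfx : hY.fp x = 1) (hfy : hY.fp y = 1) (hx : x ^ r = 1) (hx1 : x ≠ 1)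
    (hc : x * y = y * x) : y ^ r = 1 := by
  obtain ⟨g, hg⟩ := hY.exists_rep hfx
  obtain ⟨g', hg'⟩ := hY.exists_rep hfy
  have ho := hY.orderOf_rep hg
  have h1 : g ^ r = 1 := orderOf_dvd_iff_pow_eq_one.1 (ho ▸ orderOf_dvd_of_pow_eq_one hx)
  have h2 : g ≠ 1 := fun e => hx1 (orderOf_eq_one_iff.1 (by rw [← ho, e, orderOf_one]))
  have h3 := pgl_pow_eq_one_of_commute hY.two_ne_zero h1 h2 ((hY.commute_rep hg hg').1 hc)
  exact orderOf_dvd_iff_pow_eq_one.1 (hY.orderOf_rep hg' ▸ orderOf_dvd_of_pow_eq_one h3)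

end Pgl

variable {G : Type u} [Group G] [Finite G] {M : Subgroup G} {T : Sylow 2 G}

/-- With a trivial odd core, `O(C_M(t))⟨t⟩ = ⟨t⟩`. -/
theorem cCore_cases {t : G} (ht : orderOf t = 2) (htM : t ∈ cM M t) (hth : th M t = ⊥)
    {x : cM M t} (hx : x ∈ cCore M t) : (x : G) = 1 ∨ (x : G) = t := by
  set t' : cM M t := ⟨t, htM⟩
  haveI : (zpowers t').Normal := ⟨fun g hg k => by
    obtain ⟨i, rfl⟩ := mem_zpowers_iff.1 hg
    have hc : Commute t' k := Subtype.ext (mem_cM.1 k.2).2.symm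
    rw [(hc.zpow_left i).symm.eq, mul_inv_cancel_right]
    exact zpow_mem_zpowers t' i⟩
  have hle : cCore M t ≤ zpowers t' := by
    refine sup_le ?_ (normalClosure_le_normal ?_)
    · have : Cfsg.oddCore (cM M t) = ⊥ :=
        (map_eq_bot_iff_of_injective _ (cM M t).subtype_injective).1 hth
      rw [this]; exact bot_le
    · intro y hy
      have : y = t' := Subtype.ext hy
      rw [this]; exact mem_zpowers t'
  obtain ⟨i, rfl⟩ := mem_zpowers_iff.1 (hle hx)
  rw [SubgroupClass.coe_zpow]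
  rcases Int.even_or_odd' i with ⟨j, rfl | rfl⟩
  · left
    rw [zpow_mul, show ((2 : ℤ)) = ((2 : ℕ) : ℤ) from rfl, zpow_natCast]
    show ((t : G) ^ 2) ^ j = 1
    rw [pow_two, sq_eq ht, one_zpow]
  · right
    rw [zpow_add_one, zpow_mul, show ((2 : ℤ)) = ((2 : ℕ) : ℤ) from rfl, zpow_natCast]
    show ((t : G) ^ 2) ^ j * t = t
    rw [pow_two, sq_eq ht, one_zpow, one_mul]

theorem cCore_sq {t : G} (ht : orderOf t = 2) (htM : t ∈ cM M t) (hth : th M t = ⊥)
    {x : cM M t} (hx : x ∈ cCore M t) : (x : G) * x = 1 := by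
  rcases cCore_cases ht htM hth hx with e | e
  · rw [e, one_mul]
  · rw [e, sq_eq ht]

/-- A large subgroup of exponent `r` in the centraliser of `t`, over the top. -/
theorem Hard.exists_unipotent {t : G} (h : Hard M T) (ht : t ∈ (T : Subgroup G)) (ht1 : t ≠ 1)
    {F : Type} [Field F] [Fintype F] {L : Subgroup (cBar M t)} (top : CentTop M t F L)
    (hth : th M t = ⊥) {r : ℕ} [hr : Fact r.Prime] [CharP F r] {f : ℕ}
    (hf : Fintype.card F = r ^ f) (hr2 : r ≠ 2) :
    ∃ P : Subgroup (cM M t), IsPGroup r P ∧ r ^ f ∣ Nat.card P ∧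
      ∀ z ∈ P, z ^ r = 1 ∧ QuotientGroup.mk' (cCore M t) z ∈ L := by
  classical
  have hY := top.psl
  obtain ⟨Q⟩ : Nonempty (Sylow r L) := inferInstance
  set U := (Q : Subgroup L).map L.subtype with hU
  have hUp : IsPGroup r U := Q.isPGroup'.map _
  have hUexp : ∀ z ∈ U, z ^ r = 1 := by
    intro z hz
    by_cases h1 : z = 1
    · rw [h1, one_pow]
    obtain ⟨k, hk⟩ := (IsPGroup.iff_orderOf.1 hUp) ⟨z, hz⟩
    rw [orderOf_mk] at hk
    have hzL : z ∈ L := map_subtype_le _ hz
    obtain ⟨j, rfl⟩ : ∃ j, k = j + 1 := ⟨k - 1, by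
      have : k ≠ 0 := fun e => h1 (orderOf_eq_one_iff.1 (by rw [hk, e, pow_zero]))
      omega⟩
    refine psl_pow_eq_one_of_commute hY (hY.fp_of_mem (pow_mem hzL (r ^ j))) (hY.fp_of_mem hzL)
      (by rw [← pow_mul, ← pow_succ, ← hk, pow_orderOf_eq_one]) (fun e => ?_)
      (Commute.pow_self z _).eq
    have h2 := Nat.le_of_dvd (pow_pos hr.out.pos j) (orderOf_dvd_of_pow_eq_one e)
    rw [hk] at h2
    have := Nat.pow_lt_pow_right hr.out.one_lt (show j < j + 1 by omega)
    omega
  have hUc : r ^ f ∣ Nat.card U := by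
    rw [hU, card_map_of_injective L.subtype_injective, Sylow.card_eq_multiplicity]
    refine pow_dvd_pow r ((hr.out.pow_dvd_iff_le_factorization Nat.card_pos.ne').1 ?_)
    obtain ⟨e⟩ := hY.equiv
    rw [Nat.card_congr e.toEquiv]
    have hcop : Nat.Coprime (r ^ f) (Nat.gcd 2 (Fintype.card F - 1)) :=
      Nat.Coprime.coprime_dvd_right (Nat.gcd_dvd_left _ _)
        (Nat.coprime_two_right.2 ((hr.out.odd_of_ne_two hr2).pow))
    refine hcop.dvd_of_dvd_mul_left ?_
    rw [CfsgLib.PSL2.card_psl, hf]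
    exact (dvd_mul_right _ _).mul_left _
  obtain ⟨P, hP, hPmap, hPc⟩ := exists_preimage hUp
  refine ⟨P, hP, ?_, fun z hz => ?_⟩
  · rw [hPc]
    refine pow_dvd_pow r ((hr.out.pow_dvd_iff_le_factorization
      (Nat.mul_pos Nat.card_pos Nat.card_pos).ne').1 (hUc.mul_left _))
  have hzU : QuotientGroup.mk' (cCore M t) z ∈ U := hPmap ▸ mem_map_of_mem _ hz
  refine ⟨?_, map_subtype_le _ hzU⟩
  have h1 := hUexp _ hzU
  rw [← map_pow] at h1
  have h2 := cCore_sq (h.toCore.involution ht ht1) (h.mem_cM_self ht) hth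
    ((QuotientGroup.eq_one_iff _).1 h1)
  obtain ⟨k, hk⟩ := (IsPGroup.iff_orderOf.1 hP) ⟨z, hz⟩
  rw [orderOf_mk] at hk
  refine CfsgLib.RankOneInvol.eq_one_of_sq_of_odd ?_ (Subtype.ext h2)
  exact ((hr.out.odd_of_ne_two hr2).pow (n := k)).of_dvd_nat (hk ▸ orderOf_pow_dvd r)

theorem Hard.rank_cases (h : Hard M T) {t : G} (ht : t ∈ (T : Subgroup G)) (ht1 : t ≠ 1)
    {F : Type} [Field F] [Fintype F] {L : Subgroup (cBar M t)} (top : CentTop M t F L)
    (hq : 11 ≤ Fintype.card F) (hth : th M t = ⊥) {r : ℕ} [Fact r.Prime] [CharP F r] :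
    Fintype.card F = r ∨ (Fintype.card F = r ^ 3 ∧ ¬ r ^ 4 ∣ Nat.card G) := by
  classical
  have hrp : r.Prime := Fact.out
  haveI := h.normal
  have hY := top.psl
  have ht2 := h.toCore.involution ht ht1
  have htM := h.mem_cM_self ht
  obtain ⟨⟨f, hf0⟩, -, hf⟩ := FiniteField.card F r
  change Fintype.card F = r ^ f at hf
  have hr2 : r ≠ 2 := by
    intro e
    have := hY.odd
    rw [hf, e, Nat.odd_iff, Nat.pow_mod, Nat.mod_self, zero_pow (by omega)] at this
    omega
  have hrodd := hrp.odd_of_ne_two hr2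
  have hfodd : Odd f := by
    rw [← Nat.not_even_iff_odd]
    rintro ⟨j, rfl⟩
    have h8 := top.mod8
    rw [hf, ← two_mul, pow_mul, Nat.pow_mod] at h8
    have h1 : r ^ 2 % 8 = 1 := by
      rw [Nat.pow_mod]
      have := Nat.odd_iff.1 hrodd
      have h' : r % 8 = 1 ∨ r % 8 = 3 ∨ r % 8 = 5 ∨ r % 8 = 7 := by omega
      rcases h' with e | e | e | e <;> rw [e]
    rw [h1, one_pow] at h8
    omega
  rcases (show f = 1 ∨ 3 ≤ f by obtain ⟨j, rfl⟩ := hfodd; omega) with rfl | hf3
  · exact Or.inl (by rw [hf, pow_one])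
  right
  -- the Sylow subgroup
  obtain ⟨P, hP, hPc, hPel⟩ := h.exists_unipotent ht ht1 top hth hf hr2
  set P' := P.map (cM M t).subtype with hP'
  have hP'c : r ^ f ∣ Nat.card P' := by
    rw [hP', card_map_of_injective (cM M t).subtype_injective]; exact hPc
  obtain ⟨R, hR⟩ := (hP.map (cM M t).subtype).exists_le_sylow
  have hrP : r < Nat.card P := lt_of_lt_of_le
    ((pow_one r).symm.le.trans_lt (Nat.pow_lt_pow_right hrp.one_lt (show 1 < f by omega)))
    (Nat.le_of_dvd Nat.card_pos hPc)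
  have hel : Cfsg.IsElementaryAbelian r (R : Subgroup G) := by
    refine (h.conj.sylow_shape hr2 R).resolve_left fun hcyc => ?_
    haveI := hcyc
    haveI : IsCyclic P := isCyclic_of_injective
      (((inclusion hR).comp ((P.equivMapOfInjective _ (cM M t).subtype_injective).toMonoidHom)))
      ((inclusion_injective hR).comp (MulEquiv.injective _))
    obtain ⟨z, hz⟩ := IsCyclic.exists_ofOrder_eq_natCard (α := P)
    have h1 : z ^ r = 1 := Subtype.ext (hPel z z.2).1
    have := Nat.le_of_dvd hrp.pos (orderOf_dvd_of_pow_eq_one h1)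
    omega
  obtain ⟨n, hn⟩ := IsPGroup.iff_card.1 R.isPGroup'
  have hfn : f ≤ n := (Nat.pow_dvd_pow_iff_le_right hrp.one_lt).1
    (hn ▸ hP'c.trans (card_dvd_of_le hR))
  suffices hn3 : n = 3 by
    refine ⟨by rw [hf, show f = 3 by omega], fun h4 => ?_⟩
    have h1 : (Nat.card G).factorization r = 3 := by
      refine Nat.pow_right_injective hrp.two_le ?_
      show r ^ (Nat.card G).factorization r = r ^ 3
      rw [← Sylow.card_eq_multiplicity R, hn, hn3]
    have := (hrp.pow_dvd_iff_le_factorization Nat.card_pos.ne').1 h4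
    omega
  by_contra hn3
  have hn4 : 4 ≤ n := by omega
  have hab : ∀ x ∈ (R : Subgroup G), ∀ y ∈ (R : Subgroup G), x * y = y * x := fun x hx y hy =>
    congrArg Subtype.val (hel.1.is_comm.comm ⟨x, hx⟩ ⟨y, hy⟩)
  -- an element of order `r` in the centraliser of `t`
  obtain ⟨x₀, hx₀⟩ := exists_prime_orderOf_dvd_card' (G := P) r
    ((dvd_pow_self r (show f ≠ 0 by omega)).trans hPc)
  set x : G := ((x₀ : cM M t) : G) with hx
  have hxo : orderOf x = r := by rw [hx, Subgroup.orderOf_coe, Subgroup.orderOf_coe, hx₀]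
  have hrM : r ∣ Nat.card M := by
    have := Subgroup.orderOf_dvd_natCard M (mem_cM.1 (x₀ : cM M t).2).1
    rwa [← hx, hxo] at this
  have hcent : ∀ y : G, orderOf y = r → ¬ 4 ∣ Nat.card (centralizer ({y} : Set G)) := by
    intro y hy h4
    rw [h.conj.card_centralizer hrp (k := 1) (by rw [hy, pow_one]) (y := x) (by rw [hxo, pow_one])]
      at h4
    obtain ⟨b, hb, hbt, hcbt, hxb⟩ := h.exists_second ht2 (mem_cM.1 (x₀ : cM M t).2).2 h4
    let b' : cM M t := ⟨b, mem_cM.2 ⟨h.toCore.mem_of_involution hb, hcbt⟩⟩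
    set X := QuotientGroup.mk' (cCore M t) (x₀ : cM M t)
    set B := QuotientGroup.mk' (cCore M t) b'
    have hBB : B * B = 1 := by
      rw [← map_mul, show b' * b' = 1 from Subtype.ext (sq_eq hb), map_one]
    have hX1 : X ≠ 1 := fun e => by
      have h1 := cCore_sq ht2 htM hth ((QuotientGroup.eq_one_iff _).1 e)
      have h2 : Odd (orderOf x) := by rw [hxo]; exact hrodd
      have h3 : x = 1 := CfsgLib.RankOneInvol.eq_one_of_sq_of_odd h2 h1
      rw [h3, orderOf_one] at hxo
      exact hrp.one_lt.ne hxo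
    have hBr := psl_pow_eq_one_of_commute hY (hY.fp_of_mem (hPel _ x₀.2).2) (hY.fp_involution hBB)
      (show X ^ r = 1 by rw [← map_pow, (hPel _ x₀.2).1, map_one]) hX1
      (show X * B = B * X by rw [← map_mul, ← map_mul]; exact congrArg _ (Subtype.ext hxb))
    have hB1 : B = 1 := CfsgLib.RankOneInvol.eq_one_of_sq_of_odd
      (hrodd.of_dvd_nat (orderOf_dvd_of_pow_eq_one hBr)) hBB
    rcases cCore_cases ht2 htM hth ((QuotientGroup.eq_one_iff _).1 hB1) with e | e
    · exact (CfsgLib.Involutions.orderOf_eq_two_iff_mul.1 hb).1 e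
    · exact hbt e
  -- a complement to the Sylow subgroup in its normaliser
  set N := Subgroup.normalizer ((R : Subgroup G) : Set G) with hN
  have hRN : (R : Subgroup G) ≤ N := le_normalizer
  set R' := (R : Subgroup G).subgroupOf N with hR'
  haveI : R'.Normal := normal_in_normalizer
  have hR'idx : ¬ r ∣ R'.index := fun hd => R.not_dvd_index (hd.trans
    ⟨N.index, (relIndex_mul_index hRN).symm⟩)
  have hR'c : Nat.card R' = r ^ n := by
    rw [Nat.card_congr (subgroupOfEquivOfLe hRN).toEquiv, hn]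
  obtain ⟨H', hH'⟩ := Subgroup.exists_right_complement'_of_coprime (N := R')
    (by rw [hR'c]; exact Nat.Coprime.pow_left n ((hrp.coprime_iff_not_dvd).2 hR'idx))
  set H := H'.map N.subtype with hH
  have hHN : ∀ g ∈ H, g ∈ N := by rintro _ ⟨g, -, rfl⟩; exact g.2
  have hHr : ¬ r ∣ Nat.card H := by
    rw [hH, card_map_of_injective N.subtype_injective, ← hH'.symm.index_eq_card]
    exact hR'idx
  have hdec : ∀ m : N, ∃ ρ ∈ R', ∃ g ∈ H', ρ * g = m := fun m =>
    mem_sup_of_normal_left.1 (by rw [hH'.sup_eq_top]; exact mem_top m)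
  have A : Act (R : Subgroup G) H r :=
    { prime := hrp
      ne_two := hr2
      comm := hab
      exp := hel.2
      norm := fun g hg y hy => (mem_normalizer_iff.1 (hHN g hg) y).1 hy
      two := fun S hS => h.two_group hS
      cent := fun y hy hy1 h4 => hcent y (orderOf_eq_prime (hel.2 y hy) hy1)
        (h4.trans (card_dvd_of_le inf_le_right))
      uniq := fun y hy hy1 a b ha hb hc hya hyb => by
        by_contra hne
        exact hcent y (orderOf_eq_prime (hel.2 y hy) hy1) (h.four_dvd ha hb hne hc hya hyb)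
      fuse := fun y hy z hz hy1 hz1 => by
        have hyo := orderOf_eq_prime (hel.2 y hy) hy1
        have hzo := orderOf_eq_prime (hel.2 z hz) hz1
        obtain ⟨g, hg⟩ := h.conj r hrp (zpowers y) (zpowers z)
          (isPGroup_zpowers (k := 1) (by rw [hyo, pow_one]))
          (isPGroup_zpowers (k := 1) (by rw [hzo, pow_one]))
          (by rw [Nat.card_zpowers, Nat.card_zpowers, hyo, hzo])
        obtain ⟨m, hm, hmyz⟩ :=
          Cfsg.Agent.S4025.fusion R hab (zpowers_le.2 hy) (zpowers_le.2 hz) g hg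
        obtain ⟨ρ, hρ, k, hk, e⟩ := hdec ⟨m, hm⟩
        refine ⟨k, ⟨k, hk, rfl⟩, ?_⟩
        have h1 : (ρ : G) * (k : G) = m := congrArg Subtype.val e
        have h2 := hmyz y (mem_zpowers y)
        have h3 : (k : G) * y * (k : G)⁻¹ ∈ (R : Subgroup G) :=
          (mem_normalizer_iff.1 k.2 y).1 hy
        rwa [← h1, show (ρ : G) * k * y * ((ρ : G) * k)⁻¹ =
          ρ * ((k : G) * y * (k : G)⁻¹) * (ρ : G)⁻¹ by group, hab (ρ : G) hρ _ h3,
          mul_inv_cancel_right] at h2
      big := by rw [hn]; exact Nat.pow_le_pow_right hrp.pos hn4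
      key := ?_ }
  · -- solvable normaliser
    haveI hHs : Group.IsSolvable H := A.solvable
    haveI : Group.IsSolvable H' := Group.isSolvable_of_surjective
      (f := (H'.equivMapOfInjective _ N.subtype_injective).symm.toMonoidHom)
      (MulEquiv.surjective _)
    haveI : Group.IsSolvable R' := Group.isSolvable_of_comm fun a b =>
      Subtype.ext (Subtype.ext (hab _ a.2 _ b.2))
    haveI : Group.IsSolvable (N ⧸ R') := by
      refine Group.isSolvable_of_surjective (f := (QuotientGroup.mk' R').comp H'.subtype) ?_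
      intro q
      obtain ⟨m, rfl⟩ := QuotientGroup.mk'_surjective R' q
      obtain ⟨ρ, hρ, k, hk, e⟩ := hdec m
      refine ⟨⟨k, hk⟩, ?_⟩
      rw [← e, map_mul, show QuotientGroup.mk' R' ρ = 1 from (QuotientGroup.eq_one_iff _).2 hρ,
        one_mul]
      rfl
    haveI : Group.IsSolvable N := Act.solvable_of_normal R'
    rcases Cfsg.Agent.S4025.result (h.conj r hrp) R n (by omega) hel hn N rfl
        (Group.isSolvable_of_surjective (QuotientGroup.mk'_surjective _)) with ⟨e, -⟩ | ⟨-, e, -⟩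
    · exact hn3 e
    · exact hr2 e
  -- two involutions commuting with `a` and inverting its fixed points commute
  intro a haH b hbH b' hb'H ha hb hb' hba hb'a hbig hbinv hb'inv
  obtain ⟨g₁, hg₁⟩ := h.conj_T ha
  have hg₁1 : g₁ * a * g₁⁻¹ ≠ 1 := fun e =>
    (CfsgLib.Involutions.orderOf_eq_two_iff_mul.1 ha).1 (conj_eq_one_iff.1 e)
  obtain ⟨g₂, -, -, hg₂⟩ := h.trans' hg₁ hg₁1 ht ht1
  set g := g₂ * g₁
  have hgt : g * a * g⁻¹ = t := by
    rw [← hg₂]
    show g₂ * g₁ * a * (g₂ * g₁)⁻¹ = _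
    group
  let ψ : cM M a →* cM M t :=
    ((MulAut.conj g).toMonoidHom.comp (cM M a).subtype).codRestrict _
      fun z => hgt ▸ conj_mem_cM z.2
  have hψ : Function.Injective ψ := fun z w e =>
    Subtype.ext ((MulAut.conj g).injective (congrArg Subtype.val e))
  let Φ : cM M a →* cBar M t := (QuotientGroup.mk' (cCore M t)).comp ψ
  have hker : ∀ z : cM M a, Φ z = 1 → z * z = 1 := fun z e => hψ (by
    rw [map_mul, map_one]
    exact Subtype.ext (cCore_sq ht2 htM hth ((QuotientGroup.eq_one_iff _).1 e)))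
  have hle : fixIn (R : Subgroup G) a ≤ cM M a := fun z hz => by
    obtain ⟨hzR, hza⟩ := mem_fixIn.1 hz
    refine mem_cM.2 ⟨?_, hza⟩
    by_cases hz1 : z = 1
    · rw [hz1]; exact one_mem M
    · exact h.conj.mem_of_orderOf hrp hrM (orderOf_eq_prime (hel.2 z hzR) hz1)
  -- a fixed point mapping into the linear part
  obtain ⟨z, hz1, hzf⟩ : ∃ z : fixIn (R : Subgroup G) a, z ≠ 1 ∧ hY.fp (Φ (inclusion hle z)) = 1 := by
    by_contra! hall
    haveI := CfsgLib.FieldGalois.isCyclic_ringAut (F := F)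
    haveI : IsCyclic (fixIn (R : Subgroup G) a) := isCyclic_of_injective
      (hY.fp.comp (Φ.comp (inclusion hle))) ((injective_iff_map_eq_one _).2 fun z e => by
        by_contra hne
        exact hall z hne e)
    obtain ⟨z, hz⟩ := IsCyclic.exists_ofOrder_eq_natCard (α := fixIn (R : Subgroup G) a)
    have h1 : z ^ r = 1 := Subtype.ext (hel.2 _ (mem_fixIn.1 z.2).1)
    have := Nat.le_of_dvd hrp.pos (orderOf_dvd_of_pow_eq_one h1)
    omega
  have hzr : (inclusion hle z) ^ r = 1 := Subtype.ext (hel.2 _ (mem_fixIn.1 z.2).1)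
  have hX1 : Φ (inclusion hle z) ≠ 1 := fun e => hz1 (inclusion_injective hle (by
    rw [map_one]
    exact CfsgLib.RankOneInvol.eq_one_of_sq_of_odd
      (hrodd.of_dvd_nat (orderOf_dvd_of_pow_eq_one hzr)) (hker _ e)))
  let c : cM M a := ⟨b, mem_cM.2 ⟨h.toCore.mem_of_involution hb, hba⟩⟩
  let c' : cM M a := ⟨b', mem_cM.2 ⟨h.toCore.mem_of_involution hb', hb'a⟩⟩
  have hfc : ∀ d : cM M a, d * d = 1 → hY.fp (Φ d) = 1 := fun d hd =>
    hY.fp_involution (by rw [← map_mul, hd, map_one])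
  have hcomm : inclusion hle z * (c * c') = c * c' * inclusion hle z := by
    apply Subtype.ext
    show (z : G) * (b * b') = b * b' * (z : G)
    have e : b * b' * (z : G) * (b * b')⁻¹ = z := by
      rw [show b * b' * (z : G) * (b * b')⁻¹ = b * (b' * z * b'⁻¹) * b⁻¹ by group, hb'inv _ z.2,
        show b * (z : G)⁻¹ * b⁻¹ = (b * z * b⁻¹)⁻¹ by group, hbinv _ z.2, inv_inv]
    exact (mul_inv_eq_iff_eq_mul.1 e).symm
  have hEr := psl_pow_eq_one_of_commute (r := r) hY hzf
    (show hY.fp (Φ (c * c')) = 1 by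
      rw [map_mul, map_mul, hfc c (Subtype.ext (sq_eq hb)), hfc c' (Subtype.ext (sq_eq hb')), one_mul])
    (by rw [← map_pow, hzr, map_one]) hX1 (by rw [← map_mul, ← map_mul, hcomm])
  rw [← map_pow] at hEr
  have he2 : (b * b') ^ (r * 2) = 1 := by
    have h1 := congrArg Subtype.val (hker _ hEr)
    rw [pow_mul, pow_two]
    exact h1
  have he : (b * b') * (b * b') = 1 := by
    rw [← pow_two, ← orderOf_dvd_iff_pow_eq_one]
    refine Nat.Coprime.dvd_of_dvd_mul_left ?_ (orderOf_dvd_of_pow_eq_one he2)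
    refine ((hrp.coprime_iff_not_dvd).2 fun hd => hHr (hd.trans ?_)).symm
    exact Subgroup.orderOf_dvd_natCard _ (mul_mem hbH hb'H)
  calc b * b' = (b * b')⁻¹ := (inv_eq_of_mul_eq_one_right he).symm
    _ = b' * b := by rw [mul_inv_rev, inv_eq hb, inv_eq hb']

end CfsgLib.EqualOrderE8
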