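import Cfsg.Agent.Lib.EqualOrderE8.Hard
import Cfsg.Agent.S3188
import Cfsg.Agent.Lib.ClassicalGroups.SmallIso
import Cfsg.Agent.Lib.PSL2.Basic

/-!
The hard case: the top of the centraliser of an involution is `PSL₂(q)`, `q ≡ ±3 (mod 8)`.
Also: solvability of involution centralisers when a Sylow two-subgroup is a four-group.
-/

set_option autoImplicit false
set_option linter.unusedSectionVars false
set_option linter.style.haveILetI false

namespace CfsgLib.EqualOrderE8

open Subgroup
open CfsgLib.StrongEmbedding.ElementaryCentralizers (normT)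

universe u

/-- A group whose Sylow two-subgroup is centralised by its normaliser is solvable. -/
theorem solvable_of_normalizer_le {H : Type u} [Group H] [Finite H] (S : Sylow 2 H)
    (hle : normalizer ((S : Subgroup H) : Set H) ≤ centralizer ((S : Subgroup H) : Set H)) :
    Group.IsSolvable H := by
  haveI : Fact (Nat.Prime 2) := ⟨Nat.prime_two⟩
  obtain ⟨S', N, hN, hc⟩ := CfsgLib.Transfer.hasNormalPComplement_of_normalizer_le S hle
  have hodd : ¬ 2 ∣ Nat.card N := fun h2 => by
    apply S'.not_dvd_index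
    rwa [hc.index_eq_card]
  haveI := hN
  haveI := CfsgLib.PF.oddSolvable N (Nat.odd_iff.2 (by omega))
  haveI : Group.IsNilpotent (H ⧸ N) := by
    refine (IsPGroup.of_card (p := 2) (n := (Nat.card H).factorization 2) ?_).isNilpotent
    rw [← index_eq_card, hc.symm.index_eq_card, Sylow.card_eq_multiplicity]
  exact Group.isSolvable_of_ker_le_range N.subtype (QuotientGroup.mk' N) (by simp)

/-- With a four-group as a Sylow two-subgroup, the centralisers of involutions are solvable. -/
theorem solvable_cent_of_four {H : Type u} [Group H] [Finite H] (S : Sylow 2 H)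
    (h4 : Nat.card (S : Subgroup H) = 4) (hsq : ∀ x ∈ (S : Subgroup H), x ^ 2 = 1) {v : H}
    (hv : orderOf v = 2) : Group.IsSolvable (centralizer ({v} : Set H)) := by
  classical
  haveI : Fact (Nat.Prime 2) := ⟨Nat.prime_two⟩
  have hvS : ∃ S' : Sylow 2 H, v ∈ (S' : Subgroup H) := by
    obtain ⟨S', hS'⟩ := (IsPGroup.of_card (p := 2) (G := zpowers v) (n := 1)
      (by rw [Nat.card_zpowers, hv, pow_one])).exists_le_sylow
    exact ⟨S', hS' (mem_zpowers v)⟩
  obtain ⟨S', hvS'⟩ := hvS
  obtain ⟨g, hg⟩ := MulAction.exists_smul_eq H S S'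
  have h4' : Nat.card (S' : Subgroup H) = 4 := by
    rw [Sylow.card_eq_multiplicity, ← Sylow.card_eq_multiplicity S, h4]
  have hsq' : ∀ x ∈ (S' : Subgroup H), x ^ 2 = 1 := by
    intro x hx
    rw [← hg, Sylow.coe_subgroup_smul] at hx
    obtain ⟨y, hy, rfl⟩ := hx
    show ((MulAut.conj g) y) ^ 2 = 1
    rw [← map_pow, hsq y hy, map_one]
  have hcomm : ∀ x ∈ (S' : Subgroup H), ∀ y ∈ (S' : Subgroup H), x * y = y * x := by
    intro x hx y hy
    have hk : ∀ z ∈ (S' : Subgroup H), z⁻¹ = z := fun z hz =>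
      inv_eq_of_mul_eq_one_right (by rw [← pow_two, hsq' z hz])
    calc x * y = (x * y)⁻¹ := (hk _ (mul_mem hx hy)).symm
      _ = y * x := by rw [mul_inv_rev, hk x hx, hk y hy]
  set C := centralizer ({v} : Set H)
  have hSC : (S' : Subgroup H) ≤ C := fun x hx =>
    mem_centralizer_singleton_iff.2 (hcomm x hx v hvS')
  set SC : Sylow 2 C := S'.subtype hSC
  refine solvable_of_normalizer_le SC fun c hc => mem_centralizer_iff.2 fun x hx => ?_
  have hcN : (c : H) ∈ normalizer ((S' : Subgroup H) : Set H) := by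
    refine CfsgLib.Coprime.mem_normalizer_of_forall_conj fun z hz => ?_
    exact (mem_normalizer_iff.1 hc (⟨z, hSC hz⟩ : C)).1 hz
  -- the automorphism induced by `c` has odd order and square one
  set ψ := (S' : Subgroup H).normalizerMonoidHom
  set r := ψ ⟨c, hcN⟩
  have hrv : r ⟨v, hvS'⟩ = ⟨v, hvS'⟩ := Subtype.ext (show (c : H) * v * (c : H)⁻¹ = v by
    rw [show (c : H) * v = v * c from mem_centralizer_singleton_iff.1 c.2, mul_inv_cancel_right])
  have hr2 : r ^ 2 = 1 := by
    refine MulEquiv.ext fun z => ?_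
    rw [pow_two, MulAut.mul_apply, MulAut.one_apply]
    by_contra hne
    have hz1 : z ≠ 1 := fun e => hne (by rw [e, map_one, map_one])
    have hzv : z ≠ ⟨v, hvS'⟩ := fun e => hne (by rw [e, hrv, hrv])
    have hrz : r z ≠ z := fun e => hne (by rw [e, e])
    have hsub : ({1, ⟨v, hvS'⟩, z, r z, r (r z)} : Finset (S' : Subgroup H)) ⊆
        (Set.univ : Set (S' : Subgroup H)).toFinite.toFinset := fun _ _ => by simp
    have hv1 : (⟨v, hvS'⟩ : (S' : Subgroup H)) ≠ 1 := fun e => by
      rw [show v = 1 from congrArg Subtype.val e, orderOf_one] at hv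
      omega
    have hr1 : ∀ w, w ≠ 1 → r w ≠ 1 := fun w hw e => hw (r.injective (e.trans (map_one r).symm))
    have hrvn : ∀ w, w ≠ ⟨v, hvS'⟩ → r w ≠ ⟨v, hvS'⟩ := fun w hw e => hw (r.injective (e.trans hrv.symm))
    have h5 := Finset.card_le_card hsub
    rw [Finset.card_insert_of_notMem, Finset.card_insert_of_notMem, Finset.card_insert_of_notMem,
      Finset.card_pair, ← Set.ncard_eq_toFinset_card _ (Set.univ : Set (S' : Subgroup H)).toFinite,
      Set.ncard_univ] at h5
    · omega
    all_goals try simp only [Finset.mem_insert, Finset.mem_singleton, not_or]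
    · exact fun e => hrz (r.injective e.symm)
    · exact ⟨Ne.symm hrz, Ne.symm hne⟩
    · exact ⟨Ne.symm hzv, Ne.symm (hrvn z hzv), Ne.symm (hrvn _ (hrvn z hzv))⟩
    · exact ⟨Ne.symm hv1, Ne.symm hz1, Ne.symm (hr1 z hz1), Ne.symm (hr1 _ (hr1 z hz1))⟩
  have hker : (⟨c, hcN⟩ : normT S') ∈ (centralizer ((S' : Subgroup H) : Set H)).subgroupOf (normT S') := by
    rw [← normalizerMonoidHom_ker, MonoidHom.mem_ker]
    have hodd : ¬ 2 ∣ Nat.card ψ.range := by
      rw [card_range_eq]
      exact CfsgLib.CGroup.relIndex_not_even hcomm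
    have h1 : orderOf (⟨r, _, rfl⟩ : ψ.range) ∣ 2 := orderOf_dvd_of_pow_eq_one (Subtype.ext hr2)
    rcases (Nat.dvd_prime Nat.prime_two).1 h1 with e | e
    · exact congrArg Subtype.val (orderOf_eq_one_iff.1 e)
    · have h9 := orderOf_dvd_natCard (⟨r, _, rfl⟩ : ψ.range)
      rw [e] at h9
      exact absurd h9 hodd
  exact Subtype.ext (mem_centralizer_iff.1 hker _ hx)

variable {G : Type u} [Group G] [Finite G] {M : Subgroup G} {T : Sylow 2 G}

namespace Hard

variable (h : Hard M T)
include h

/-- The top of the centraliser of an involution of `T`. -/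
theorem exists_top {t : G} (ht : t ∈ (T : Subgroup G)) (ht1 : t ≠ 1) :
    ∃ (F : Type) (_ : Field F) (_ : Fintype F) (L : Subgroup (cBar M t)), CentTop M t F L := by
  classical
  haveI : Fact (Nat.Prime 2) := ⟨Nat.prime_two⟩
  set C := cM M t
  set t' : C := ⟨t, h.mem_cM_self ht⟩
  have ht'o : orderOf t' = 2 := by rw [orderOf_mk, h.toCore.involution ht ht1]
  have ht'c : t' ∈ center C := mem_center_iff.2 fun c => Subtype.ext (mem_cM.1 c.2).2
  set O := Cfsg.oddCore C
  haveI : (zpowers t').Normal := ⟨fun x hx g => by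
    obtain ⟨i, rfl⟩ := mem_zpowers_iff.1 hx
    rw [(Commute.zpow_right (mem_center_iff.1 ht'c g) i).eq, mul_inv_cancel_right]
    exact zpow_mem (mem_zpowers t') i⟩
  have hcC : cCore M t = O ⊔ zpowers t' := by
    unfold cCore
    congr 1
    refine le_antisymm (normalClosure_le_normal fun x hx => ?_) (zpowers_le.2 (subset_normalClosure rfl))
    rw [show x = t' from Subtype.ext hx]
    exact mem_zpowers t'
  set TC : Sylow 2 C := T.subtype (h.T_le_cM ht)
  have hTCmap : (TC : Subgroup C).map C.subtype = (T : Subgroup G) :=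
    map_subgroupOf_eq_of_le (h.T_le_cM ht)
  have hTC8 : Nat.card (TC : Subgroup C) = 8 := by
    rw [← card_map_of_injective (f := C.subtype) C.subtype_injective, hTCmap, h.card_T]
    norm_num
  have hOodd : Odd (Nat.card O) := CfsgLib.CGroup.odd_card_oddCore C
  have hKc : Nat.card (cCore M t) = 2 * Nat.card O := by
    rw [hcC, sup_comm, CfsgLib.Coprime.card_sup_of_disjoint (H := zpowers t') (N := O)
      (by rw [normalizer_eq_top_iff.2 (inferInstance : O.Normal)]; exact le_top) ?_,
      Nat.card_zpowers, ht'o]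
    refine CfsgLib.Coprime.inf_eq_bot_of_coprime_dvd (a := Nat.card O) (b := 2)
      dvd_rfl (by rw [Nat.card_zpowers, ht'o]) (Nat.coprime_two_right.2 hOodd)
  have hK2 : (Nat.card (cCore M t)).factorization 2 = 1 := by
    rw [hKc, Nat.factorization_mul two_ne_zero Nat.card_pos.ne', Finsupp.add_apply,
      Nat.prime_two.factorization_self,
      Nat.factorization_eq_zero_of_not_dvd (by rw [← even_iff_two_dvd, Nat.not_even_iff_odd]; exact hOodd)]
  set Y := cBar M t
  set π := QuotientGroup.mk' (cCore M t)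
  set S : Sylow 2 Y := TC.mapSurjective (QuotientGroup.mk'_surjective _)
  have hS4 : Nat.card (S : Subgroup Y) = 4 := by
    have h1 := CfsgLib.Coprime.card_map_mul_inf_ker π (TC : Subgroup C)
    have h2 : Nat.card ((TC : Subgroup C) ⊓ π.ker : Subgroup C) = 2 := by
      rw [QuotientGroup.ker_mk']
      have := card_le_of_le (show zpowers t' ≤ (TC : Subgroup C) ⊓ cCore M t from
        zpowers_le.2 ⟨(show t ∈ (T : Subgroup G) from ht), hcC ▸ (le_sup_right : zpowers t' ≤ O ⊔ zpowers t') (mem_zpowers t')⟩)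
      rw [Nat.card_zpowers, ht'o] at this
      obtain ⟨k, hk⟩ := IsPGroup.iff_card.1
        (TC.isPGroup'.to_le (inf_le_left : (TC : Subgroup C) ⊓ cCore M t ≤ _))
      have h3 : k ≤ 1 := by
        rw [← hK2]
        exact (Nat.prime_two.pow_dvd_iff_le_factorization Nat.card_pos.ne').1
          (hk ▸ card_dvd_of_le inf_le_right)
      rw [hk] at this ⊢
      interval_cases k <;> omega
    rw [inf_comm, h2, hTC8] at h1
    show Nat.card ((TC : Subgroup C).map π) = 4
    omega
  have hSsq : ∀ x ∈ (S : Subgroup Y), x ^ 2 = 1 := by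
    rintro _ ⟨x, hx, rfl⟩
    rw [← map_pow, show x ^ 2 = 1 from Subtype.ext (by simpa using h.elem.2 (x : G) hx), map_one]
  have hScomm : ∀ x ∈ (S : Subgroup Y), ∀ y ∈ (S : Subgroup Y), x * y = y * x := by
    rintro _ ⟨x, hx, rfl⟩ _ ⟨y, hy, rfl⟩
    rw [← map_mul, ← map_mul, show x * y = y * x from Subtype.ext (h.comm hx hy)]
  have hSab : IsMulCommutative ↥(S : Subgroup Y) :=
    ⟨⟨fun a b => Subtype.ext (hScomm _ a.2 _ b.2)⟩⟩
  have hOY : Cfsg.oddCore Y = ⊥ := by
    set X := (Cfsg.oddCore Y).comap π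
    have hXc : Nat.card X = Nat.card (cCore M t) * Nat.card (Cfsg.oddCore Y) :=
      CfsgLib.PCore.card_comap_mk' _ _
    have hKX : cCore M t ≤ X := QuotientGroup.le_comap_mk' _ _
    have htX : t' ∈ X := hKX (hcC ▸ (le_sup_right : zpowers t' ≤ O ⊔ zpowers t') (mem_zpowers t'))
    let ZX : Sylow 2 X := Sylow.ofCard (zpowers (⟨t', htX⟩ : X)) (by
      rw [Nat.card_zpowers, orderOf_mk, ht'o, hXc, Nat.factorization_mul Nat.card_pos.ne' Nat.card_pos.ne',
        Finsupp.add_apply, hK2,
        Nat.factorization_eq_zero_of_not_dvd CfsgLib.PCore.not_dvd_card_pPrimeCore]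
      rfl)
    have hcen : (ZX : Subgroup X) ≤ center X :=
      zpowers_le.2 (mem_center_iff.2 fun k => Subtype.ext (mem_center_iff.1 ht'c k.1))
    have h1 := CfsgLib.CGroup.card_eq_of_central_sylow ZX hcen
    rw [show Nat.card (ZX : Subgroup X) = 2 from by
      show Nat.card (zpowers (⟨t', htX⟩ : X)) = 2
      rw [Nat.card_zpowers, orderOf_mk, ht'o]] at h1
    haveI : X.Normal := Subgroup.Normal.comap inferInstance _
    have h2 : Nat.card (Cfsg.oddCore X) ≤ Nat.card O := by
      rw [← card_map_of_injective (f := X.subtype) X.subtype_injective,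
        CfsgLib.PCore.map_pPrimeCore_subtype_of_normal (p := 2) X]
      exact card_le_of_le inf_le_right
    rw [hXc, hKc] at h1
    have h3 : 0 < Nat.card O := Nat.card_pos
    have h4 : Nat.card O * Nat.card (Cfsg.oddCore Y) ≤ Nat.card O * 1 := by
      rw [mul_one]
      rw [mul_assoc] at h1
      omega
    exact card_eq_one.1 (le_antisymm (Nat.le_of_mul_le_mul_left h4 h3) Nat.card_pos)
  have hns : ¬ Group.IsSolvable Y := by
    intro hs
    refine h.not_solvable ht ht1 ?_
    haveI := hs
    haveI : Group.IsSolvable O := CfsgLib.PF.oddSolvable _ hOodd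
    haveI : Group.IsSolvable (cCore M t) := by
      haveI : (O.subgroupOf (cCore M t)).Normal := inferInstance
      haveI : Group.IsSolvable ↥(O.subgroupOf (cCore M t)) :=
        Group.isSolvable_of_isSolvable_injective
          (f := (subgroupOfEquivOfLe (hcC.symm ▸ le_sup_left : O ≤ cCore M t)).toMonoidHom)
          (MulEquiv.injective _)
      haveI : Group.IsNilpotent (cCore M t ⧸ O.subgroupOf (cCore M t)) := by
        refine (IsPGroup.of_card (p := 2) (n := 1) ?_).isNilpotent
        have h1 := (O.subgroupOf (cCore M t)).card_mul_index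
        rw [Nat.card_congr (subgroupOfEquivOfLe (hcC.symm ▸ le_sup_left : O ≤ cCore M t)).toEquiv, hKc,
          mul_comm 2] at h1
        rw [← index_eq_card, pow_one]
        exact Nat.eq_of_mul_eq_mul_left Nat.card_pos h1
      exact Group.isSolvable_of_ker_le_range (O.subgroupOf (cCore M t)).subtype
        (QuotientGroup.mk' (O.subgroupOf (cCore M t))) (by simp)
    exact Group.isSolvable_of_ker_le_range (cCore M t).subtype π (by simp [π])
  rcases Cfsg.Agent.S3188.result S hSab
      (fun v hv => solvable_cent_of_four S hS4 hSsq hv) with hs | ⟨F, iF, iFt, hF, N, hN, ⟨e⟩, hNC⟩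
  · exact absurd hs hns
  let e₀ : Y ⧸ Cfsg.oddCore Y ≃* Y :=
    (QuotientGroup.quotientMulEquivOfEq hOY).trans QuotientGroup.quotientBot
  set L := N.map e₀.toMonoidHom
  have eL : L ≃* N := (e₀.subgroupMap N).symm
  have hLn : L.Normal := hN.map _ e₀.surjective
  have hLC : centralizer (L : Set Y) = ⊥ := by
    refine eq_bot_iff.2 fun y hy => ?_
    have h1 : e₀.symm y ∈ centralizer (N : Set (Y ⧸ Cfsg.oddCore Y)) := by
      refine mem_centralizer_iff.2 fun n hn => e₀.injective ?_
      rw [map_mul, map_mul, e₀.apply_symm_apply]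
      exact mem_centralizer_iff.1 hy _ ⟨n, hn, rfl⟩
    rw [hNC, mem_bot] at h1
    exact mem_bot.2 (e₀.symm.injective (h1.trans (map_one _).symm))
  have h8 : ¬ 8 ∣ Nat.card Y := by
    intro h8
    have h1 := (Nat.prime_two.pow_dvd_iff_le_factorization (k := 3) Nat.card_pos.ne').1 h8
    have h2 := Sylow.card_eq_multiplicity S
    rw [hS4, show 4 = 2 ^ 2 by norm_num] at h2
    have := Nat.pow_right_injective (le_refl 2) h2
    omega
  have hdih : ∀ S' : Sylow 2 Y, ∃ n, Nonempty (↥(S' : Subgroup Y) ≃* DihedralGroup n) := by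
    intro S'
    refine ⟨2, ?_⟩
    obtain ⟨g, hg⟩ := MulAction.exists_smul_eq Y S S'
    have h4 : Nat.card (S' : Subgroup Y) = 4 := by
      rw [Sylow.card_eq_multiplicity, ← Sylow.card_eq_multiplicity S, hS4]
    haveI : IsKleinFour (S' : Subgroup Y) := by
      refine ⟨h4, ?_⟩
      refine Nat.dvd_antisymm (Monoid.exponent_dvd_of_forall_pow_eq_one fun x => ?_) ?_
      · refine Subtype.ext ?_
        have hx := x.2
        simp only [← hg, Sylow.coe_subgroup_smul] at hx
        obtain ⟨y, hy, hye⟩ := hx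
        rw [SubgroupClass.coe_pow, OneMemClass.coe_one, ← hye]
        show ((MulAut.conj g) y) ^ 2 = 1
        rw [← map_pow, hSsq y hy, map_one]
      · obtain ⟨x, hx⟩ := exists_prime_orderOf_dvd_card' (G := (S' : Subgroup Y)) 2 (by rw [h4]; norm_num)
        have h9 := Monoid.order_dvd_exponent x
        rwa [hx] at h9
    exact IsKleinFour.nonempty_mulEquiv
  rcases hF with ⟨hmod, h5⟩ | ⟨n, hn, hFn⟩
  · exact ⟨F, iF, iFt, L, ⟨hLn, hLC, ⟨eL.trans e⟩, Nat.odd_iff.2 (by omega), by omega, hdih⟩, hmod⟩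
  -- even characteristic: only `q = 4`
  have hLd : Nat.card (Matrix.ProjectiveSpecialLinearGroup (Fin 2) F) ∣ Nat.card Y := by
    rw [← Nat.card_congr (eL.trans e).toEquiv]
    exact card_subgroup_dvd_card L
  have hn2 : n = 2 := by
    by_contra hne
    apply h8
    refine dvd_trans ?_ hLd
    have hev : Even (Fintype.card F) := by
      rw [hFn]; exact (even_two).pow_of_ne_zero (by omega)
    have hc := CfsgLib.PSL2.card_psl (F := F)
    rw [CfsgLib.PSL2.gcd_eq_one hev, one_mul] at hc
    rw [hc, hFn]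
    refine dvd_trans (pow_dvd_pow 2 (show 3 ≤ n by omega) : 2 ^ 3 ∣ 2 ^ n) ?_
    exact Dvd.dvd.mul_left (dvd_mul_right _ _) _
  have hF4 : Fintype.card F = 4 := by rw [hFn, hn2]; norm_num
  haveI : Fact (Nat.Prime 5) := ⟨by norm_num⟩
  obtain ⟨a4⟩ := CfsgLib.ClassicalGroups.psl_two_four_alternating (K := F) hF4
  obtain ⟨a5⟩ := CfsgLib.ClassicalGroups.psl_two_five_alternating (K := ZMod 5) (ZMod.card 5)
  exact ⟨ZMod 5, inferInstance, inferInstance, L,
    ⟨hLn, hLC, ⟨((eL.trans e).trans a4).trans a5.symm⟩, by rw [ZMod.card]; decide,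
      by rw [ZMod.card]; norm_num, hdih⟩, by rw [ZMod.card]; norm_num⟩

end Hard

end CfsgLib.EqualOrderE8
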