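import Cfsg.Agent.Lib.EqualOrderE8.Balance
import Cfsg.Agent.Lib.EqualOrderE8.Top
import Cfsg.Agent.Lib.EqualOrderE8.Functor
import Cfsg.Agent.Lib.EqualOrderE8.Rank

/-!
The hard case: a large top is impossible, granted the theorem on simple groups with abelian Sylow
two-subgroups and an involution centraliser `Z₂ × PSL₂(q)`.
-/

set_option autoImplicit false
set_option linter.unusedSectionVars false
set_option linter.style.haveILetI false
set_option maxHeartbeats 1600000

namespace CfsgLib.EqualOrderE8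

open Subgroup
open CfsgLib.StrongEmbedding.ElementaryCentralizers (normT)

universe u

/-- Simple groups with abelian Sylow two-subgroups and an involution centraliser `Z₂ × PSL₂(q)`. -/
def TwoTimesPSL : Prop :=
  ∀ (X : Type u) [Group X] [Finite X] [IsSimpleGroup X],
    (∀ P : Sylow 2 X, ∀ a b : P, a * b = b * a) →
    ∀ (F : Type) [Field F] [Fintype F], 3 ≤ Fintype.card F → ∀ t : X, orderOf t = 2 →
    Nonempty (Subgroup.centralizer ({t} : Set X) ≃*
      Multiplicative (ZMod 2) × Matrix.ProjectiveSpecialLinearGroup (Fin 2) F) →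
    (∃ m : ℕ, 1 ≤ m ∧ Fintype.card F = 3 ^ (2 * m + 1) ∧
        Nat.card X = (3 ^ (2 * m + 1)) ^ 3 * ((3 ^ (2 * m + 1)) ^ 3 + 1) * (3 ^ (2 * m + 1) - 1)) ∨
      ((Fintype.card F = 4 ∨ Fintype.card F = 5) ∧ Cfsg.IsJ1 X)

section Psl

open CfsgLib.GW.Field

variable {Y : Type u} [Group Y] [Finite Y] {L : Subgroup Y} {F : Type} [Field F] [Fintype F]

theorem odd_index_of_psl (hP : Psl L F) (h8 : ¬ 8 ∣ Nat.card Y) : Odd L.index := by
  classical
  rw [← Nat.not_even_iff_odd, even_iff_two_dvd]
  intro h2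
  apply h8
  rw [← L.card_mul_index]
  obtain ⟨a, b, haL, hbL, ha, hb, hne, hab⟩ := hP.exists_four
  have h4 : 4 ∣ Nat.card L := by
    haveI : Fact (Nat.Prime 2) := ⟨Nat.prime_two⟩
    let W : Subgroup L := closure {⟨a, haL⟩, ⟨b, hbL⟩}
    have hW : IsPGroup 2 W := by
      refine CfsgLib.DGroup.closure_isPGroup ?_ ?_
      · rintro x (rfl | rfl) y (rfl | rfl)
        exacts [rfl, Subtype.ext hab, Subtype.ext hab.symm, rfl]
      · rintro x (rfl | rfl) <;> refine Subtype.ext ?_
        exacts [(CfsgLib.Involutions.orderOf_eq_two_iff_mul.1 ha).2,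
          (CfsgLib.Involutions.orderOf_eq_two_iff_mul.1 hb).2]
    obtain ⟨k, hk⟩ := IsPGroup.iff_card.1 hW
    have h2 : 2 ≤ k := by
      by_contra hlt
      haveI : Fintype W := Fintype.ofFinite _
      have hle : Nat.card W ≤ 2 := by
        rw [hk]; exact (Nat.pow_le_pow_right two_pos (show k ≤ 1 by omega)).trans (by norm_num)
      have h3 : ({1, ⟨⟨a, haL⟩, subset_closure (Or.inl rfl)⟩,
          ⟨⟨b, hbL⟩, subset_closure (Or.inr rfl)⟩} : Finset W).card = 3 := by
        refine Finset.card_eq_three.2 ⟨_, _, _, ?_, ?_, ?_, rfl⟩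
        · intro e
          have : a = 1 := (congrArg (fun z : W => ((z : L) : Y)) e).symm
          rw [this, orderOf_one] at ha; omega
        · intro e
          have : b = 1 := (congrArg (fun z : W => ((z : L) : Y)) e).symm
          rw [this, orderOf_one] at hb; omega
        · exact fun e => hne (congrArg (fun z : W => ((z : L) : Y)) e)
      have h9 : ({1, ⟨⟨a, haL⟩, subset_closure (Or.inl rfl)⟩,
          ⟨⟨b, hbL⟩, subset_closure (Or.inr rfl)⟩} : Finset W).card ≤ Fintype.card W :=
        Finset.card_le_univ _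
      rw [← Nat.card_eq_fintype_card] at h9
      omega
    exact ((pow_dvd_pow 2 h2).trans (dvd_of_eq hk.symm)).trans (card_subgroup_dvd_card W)
  exact mul_dvd_mul h4 h2

/-- An element with trivial field part lies in `L` when `L` has odd index. -/
theorem mem_of_fp (hP : Psl L F) (ho : Odd L.index) {y : Y} (hy : hP.fp y = 1) : y ∈ L := by
  haveI := hP.normal
  have h2 : y ^ 2 ∈ L := by
    obtain ⟨g, hg⟩ := hP.exists_rep hy
    by_cases hgi : g ∈ CfsgLib.PSL2.pslImage F
    · exact pow_mem (hP.mem_of_rep hg hgi) 2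
    · exact hP.mem_of_rep (g := g * g) (by rw [pow_two, map_mul, map_mul, hg])
        (CfsgLib.PSL2.mul_mem_pslImage_of_not_mem hgi hgi)
  rw [← QuotientGroup.eq_one_iff, ← orderOf_eq_one_iff]
  refine Nat.eq_one_of_dvd_coprimes (Nat.coprime_two_left.2 ho) ?_
    (by rw [index_eq_card]; exact orderOf_dvd_natCard _)
  exact orderOf_dvd_of_pow_eq_one (by rw [← QuotientGroup.mk_pow]; exact (QuotientGroup.eq_one_iff _).2 h2)

end Psl

variable {G : Type u} [Group G] [Finite G] {M : Subgroup G} {T : Sylow 2 G}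

namespace Hard

variable (h : Hard M T)
include h

/-- A large top is impossible. -/
theorem false_of_large (hS : TwoTimesPSL.{u}) {t : G} (ht : t ∈ (T : Subgroup G)) (ht1 : t ≠ 1)
    {F : Type} [Field F] [Fintype F] {L : Subgroup (cBar M t)} (top : CentTop M t F L)
    (hq : 11 ≤ Fintype.card F) : False := by
  classical
  haveI : Fact (Nat.Prime 2) := ⟨Nat.prime_two⟩
  haveI : Fact (Nat.Prime 3) := ⟨Nat.prime_three⟩
  haveI := h.normal
  haveI := h.simple
  obtain ⟨r, hr⟩ := CharP.exists F
  haveI : Fact r.Prime := ⟨CharP.char_is_prime F r⟩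
  have hth : th M t = ⊥ := h.th_eq_bot_of_balance
    (fun a ha ha1 b hb hb1 x hx e => h.balance ha ha1 hb hb1 hx e) ht ht1 top hq
  have hrank := h.rank_cases ht ht1 top hq hth (r := r)
  have hP := top.psl
  haveI := hP.normal
  set C := cM M t
  have ht2 := h.toCore.involution ht ht1
  have htM := h.mem_cM_self ht
  set t' : C := ⟨t, htM⟩
  have ht'c : ∀ c : C, c * t' = t' * c := fun c => Subtype.ext (mem_cM.1 c.2).2
  have ht'2 : t' * t' = 1 := Subtype.ext (sq_eq ht2)
  set π := QuotientGroup.mk' (cCore M t)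
  have hπs : Function.Surjective π := QuotientGroup.mk'_surjective _
  have hker : ∀ x : C, π x = 1 → x = 1 ∨ x = t' := fun x hx => by
    rcases cCore_cases ht2 htM hth ((QuotientGroup.eq_one_iff x).1 hx) with e | e
    · exact Or.inl (Subtype.ext e)
    · exact Or.inr (Subtype.ext e)
  have ht'K : t' ∈ cCore M t := le_sup_right (a := Cfsg.oddCore C) (subset_normalClosure rfl)
  have hπt : π t' = 1 := (QuotientGroup.eq_one_iff t').2 ht'K
  set TC : Sylow 2 C := T.subtype (h.T_le_cM ht)
  have hTC8 : Nat.card (TC : Subgroup C) = 8 := by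
    rw [← card_map_of_injective (f := C.subtype) C.subtype_injective,
      show (TC : Subgroup C).map C.subtype = (T : Subgroup G) from
        map_subgroupOf_eq_of_le (h.T_le_cM ht), h.card_T]
    norm_num
  set S : Sylow 2 (cBar M t) := TC.mapSurjective hπs
  have hcardK : Nat.card (cCore M t) = 2 := by
    have hE : cCore M t = zpowers t' := by
      refine le_antisymm (fun x hx => ?_) (zpowers_le.2 ht'K)
      rcases cCore_cases ht2 htM hth hx with e | e
      · rw [show x = 1 from Subtype.ext e]; exact one_mem _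
      · rw [show x = t' from Subtype.ext e]; exact mem_zpowers t'
    rw [hE, Nat.card_zpowers, orderOf_mk, ht2]
  have hCY : Nat.card C = 2 * Nat.card (cBar M t) := by
    rw [← hcardK, ← (cCore M t).card_mul_index, index_eq_card]
  have h8 : ¬ 8 ∣ Nat.card (cBar M t) := by
    intro h8
    refine TC.not_dvd_index ?_
    have h1 := (TC : Subgroup C).card_mul_index
    rw [hTC8, hCY] at h1
    omega
  have hodd := odd_index_of_psl hP h8
  haveI := hP.normal
  have hSL : (S : Subgroup (cBar M t)) ≤ L := fun y hy => by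
    refine mem_of_fp hP hodd ?_
    obtain ⟨x, hx, rfl⟩ := hy
    refine hP.fp_involution ?_
    rw [← map_mul, show x * x = 1 from Subtype.ext (by rw [← pow_two]; exact h.elem.2 _ hx), map_one]
  -- an element of order three commuting with the image of a four-group of `L`
  by_cases htop : L = ⊤
  swap
  · obtain ⟨y, hy⟩ : ∃ y, y ∉ L := by
      by_contra! hall
      exact htop (eq_top_iff.2 fun y _ => hall y)
    have hne : hP.fp y ≠ 1 := fun e => hy (mem_of_fp hP hodd e)
    obtain hr3 | ⟨hr3, -⟩ := hrank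
    · refine hne ?_
      have hc := CfsgLib.FieldGalois.card_ringAut (F := F) (p := r) (f := 1) (by rw [hr3, pow_one])
      haveI := (Nat.card_eq_one_iff_unique.1 hc).1
      exact Subsingleton.elim _ _
    have hord : orderOf (hP.fp y) = 3 := by
      have h1 := CfsgLib.FieldGalois.orderOf_dvd (F := F) (p := r) hr3 (hP.fp y)
      exact ((Nat.dvd_prime Nat.prime_three).1 h1).resolve_left fun e => hne (orderOf_eq_one_iff.1 e)
    -- Frattini
    obtain ⟨n, hn, m, hm, rfl⟩ : ∃ n ∈ normalizer ((S : Subgroup (cBar M t)) : Set (cBar M t)),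
        ∃ m ∈ L, y = n * m := by
      have htop' := Sylow.normalizer_sup_eq_top (S.subtype hSL)
      rw [show ((S.subtype hSL : Sylow 2 L) : Subgroup L).map L.subtype = (S : Subgroup (cBar M t))
        from map_subgroupOf_eq_of_le hSL] at htop'
      have hy' : y ∈ normalizer ((S : Subgroup (cBar M t)) : Set (cBar M t)) ⊔ L := htop' ▸ mem_top y
      obtain ⟨n, hn, m, hm, e⟩ := mem_sup_of_normal_right.1 hy'
      exact ⟨n, hn, m, hm, e.symm⟩
    have hfn : hP.fp n = hP.fp (n * m) := by rw [map_mul, hP.fp_of_mem hm, mul_one]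
    obtain ⟨a, ha, ha1⟩ : ∃ a ∈ (S : Subgroup (cBar M t)), a ≠ 1 := by
      by_contra! hall
      have := S.card_eq_multiplicity
      rw [(Subgroup.eq_bot_iff_forall _).2 hall, card_bot] at this
      have h4 : 4 ∣ Nat.card (cBar M t) := by
        have h1 := (TC : Subgroup C).card_subgroup_dvd_card
        rw [hTC8, hCY] at h1
        omega
      have := (Nat.prime_two.pow_dvd_iff_le_factorization (k := 2) Nat.card_pos.ne').1 h4
      have h9 : 4 ≤ 2 ^ (Nat.card (cBar M t)).factorization 2 :=
        Nat.pow_le_pow_right two_pos this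
      omega
    -- the automiser of `S` in `L` has an element of order three; correct `n` by it
    have hS4 : Nat.card (S : Subgroup (cBar M t)) = 4 := by
      rw [Sylow.card_eq_multiplicity]
      have h1 := (TC : Subgroup C).card_subgroup_dvd_card
      rw [hTC8, hCY] at h1
      have h2 := (Nat.prime_two.pow_dvd_iff_le_factorization (k := 2) Nat.card_pos.ne').1
        (show 2 ^ 2 ∣ Nat.card (cBar M t) by omega)
      have h3 : ¬ 3 ≤ (Nat.card (cBar M t)).factorization 2 := fun e =>
        h8 ((Nat.prime_two.pow_dvd_iff_le_factorization (k := 3) Nat.card_pos.ne').2 e)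
      rw [show (Nat.card (cBar M t)).factorization 2 = 2 by omega]
      norm_num
    obtain ⟨b, hb, hb1, hba⟩ : ∃ b ∈ (S : Subgroup (cBar M t)), b ≠ 1 ∧ b ≠ a := by
      by_contra! hall
      have hsub : ((S : Subgroup (cBar M t)) : Set (cBar M t)) ⊆ {1, a} := fun z hz => by
        by_cases hz1 : z = 1
        · exact Or.inl hz1
        · exact Or.inr (hall z hz hz1)
      have := (Set.ncard_le_ncard hsub (Set.toFinite _)).trans (Set.ncard_insert_le _ _)
      rw [Set.ncard_singleton, ← Nat.card_coe_set_eq] at this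
      change Nat.card (S : Subgroup (cBar M t)) ≤ 1 + 1 at this
      omega
    have hSinv : ∀ z ∈ (S : Subgroup (cBar M t)), z * z = 1 := by
      rintro _ ⟨x, hx, rfl⟩
      rw [← map_mul, show x * x = 1 from Subtype.ext (by rw [← pow_two]; exact h.elem.2 _ hx), map_one]
    have ha2 := orderOf_eq_prime (p := 2) (by rw [pow_two]; exact hSinv a ha) ha1
    have hb2 := orderOf_eq_prime (p := 2) (by rw [pow_two]; exact hSinv b hb) hb1
    have hSc : ∀ z ∈ (S : Subgroup (cBar M t)), ∀ w ∈ (S : Subgroup (cBar M t)), z * w = w * z := by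
      rintro _ ⟨x, hx, rfl⟩ _ ⟨w, hw, rfl⟩
      rw [← map_mul, ← map_mul, show x * w = w * x from Subtype.ext (h.comm hx hw)]
    have hab := hSc a ha b hb
    have hall : ∀ z ∈ (S : Subgroup (cBar M t)), z = 1 ∨ z = a ∨ z = b ∨ z = b * a := by
      intro z hz
      by_contra! hcon
      obtain ⟨h1, h2, h3, h4⟩ := hcon
      exact hP.no_eight (hSinv a ha) (hSinv b hb) (hSinv z hz) hab (hSc a ha z hz) (hSc b hb z hz)
        ha1 hb1 (Ne.symm hba) h1 h2 h3 fun e => h4 (by rw [e, hab])
    obtain ⟨g, hgL, -, hga, hgb⟩ := hP.exists_rot ha2 hb2 (Ne.symm hba) hab (hSL ha) (hSL hb)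
    have hgb' : g * (b * a) * g⁻¹ = a := by
      rw [show g * (b * a) * g⁻¹ = (g * b * g⁻¹) * (g * a * g⁻¹) by group, hgb, hga,
        mul_assoc b a b, hab, ← mul_assoc, hSinv b hb, one_mul]
    obtain ⟨k, hkL, hka⟩ : ∃ k ∈ L, (k * n) * a * (k * n)⁻¹ = a ∧
        ∀ z ∈ (S : Subgroup (cBar M t)), (k * n) * z * (k * n)⁻¹ ∈ (S : Subgroup (cBar M t)) := by
      have hgS : ∀ z ∈ (S : Subgroup (cBar M t)), g * z * g⁻¹ ∈ (S : Subgroup (cBar M t)) := by
        intro z hz
        rcases hall z hz with rfl | rfl | rfl | rfl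
        · simp
        · rw [hga]; exact hb
        · rw [hgb]; exact mul_mem hb ha
        · rw [hgb']; exact ha
      have hnS : ∀ z ∈ (S : Subgroup (cBar M t)), n * z * n⁻¹ ∈ (S : Subgroup (cBar M t)) :=
        fun z hz => (mem_normalizer_iff.1 hn z).1 hz
      have hmem : ∀ {k : cBar M t}, (∀ z ∈ (S : Subgroup (cBar M t)),
          k * z * k⁻¹ ∈ (S : Subgroup (cBar M t))) → ∀ z ∈ (S : Subgroup (cBar M t)),
          (k * n) * z * (k * n)⁻¹ ∈ (S : Subgroup (cBar M t)) := fun hk z hz => by
        have := hk _ (hnS z hz)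
        simpa [mul_assoc] using this
      rcases hall _ (hnS a ha) with e | e | e | e
      · exact absurd (conj_eq_one_iff.1 e) ha1
      · exact ⟨1, one_mem L, by rw [one_mul, e], hmem fun z hz => by simpa using hz⟩
      · refine ⟨g * g, mul_mem hgL hgL, ?_, hmem fun z hz => ?_⟩
        · rw [show g * g * n * a * (g * g * n)⁻¹ = g * (g * (n * a * n⁻¹) * g⁻¹) * g⁻¹ by group, e,
            hgb, hgb']
        · have := hgS _ (hgS z hz)
          simpa [mul_assoc] using this
      · refine ⟨g, hgL, ?_, hmem hgS⟩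
        rw [show g * n * a * (g * n)⁻¹ = g * (n * a * n⁻¹) * g⁻¹ by group, e, hgb']
    obtain ⟨hka, hkS⟩ := hka
    set c := k * n
    have hfc : hP.fp c = hP.fp (n * m) := by rw [map_mul, hP.fp_of_mem hkL, one_mul, hfn]
    have hcb : c ^ 2 * b = b * c ^ 2 := by
      rcases hall _ (hkS b hb) with e | e | e | e
      · exact absurd (conj_eq_one_iff.1 e) hb1
      · exact absurd (mul_left_cancel (mul_right_cancel (e.trans hka.symm))) hba
      · exact ((show Commute c b from mul_inv_eq_iff_eq_mul.1 e).pow_left 2).eq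
      · have e2 : c * (c * b * c⁻¹) * c⁻¹ = b := by
          rw [e, show c * (b * a) * c⁻¹ = (c * b * c⁻¹) * (c * a * c⁻¹) by group, e, hka, mul_assoc,
            hSinv a ha, mul_one]
        rw [pow_two]
        refine mul_inv_eq_iff_eq_mul.1 ?_
        rw [show c * c * b * (c * c)⁻¹ = c * (c * b * c⁻¹) * c⁻¹ by group]
        exact e2
    have hca : c ^ 2 * a = a * c ^ 2 :=
      ((show Commute c a from mul_inv_eq_iff_eq_mul.1 hka).pow_left 2).eq
    have h3o : 3 ∣ orderOf (c ^ 2) := by
      refine dvd_trans (dvd_of_eq ?_) (orderOf_map_dvd hP.fp (c ^ 2))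
      rw [map_pow, hfc, Nat.Coprime.orderOf_pow (by rw [hord]; norm_num), hord]
    set z := (c ^ 2) ^ (orderOf (c ^ 2) / 3)
    have hzo : orderOf z = 3 := orderOf_pow_orderOf_div (orderOf_pos _).ne' h3o
    have hza : z * a = a * z := ((show Commute (c ^ 2) a from hca).pow_left _).eq
    have hzb : z * b = b * z := ((show Commute (c ^ 2) b from hcb).pow_left _).eq
    -- lift to an element of order three centralising `T`
    obtain ⟨x0, hx0⟩ := hπs z
    have hx03 : 3 ∣ orderOf x0 := by
      have := orderOf_map_dvd π x0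
      rwa [hx0, hzo] at this
    obtain ⟨d, hd⟩ := hx03
    set x := x0 ^ d
    have hxo : orderOf x = 3 := by
      rw [show x = x0 ^ (orderOf x0 / 3) by rw [hd, Nat.mul_div_cancel_left _ (by norm_num)],
        orderOf_pow_orderOf_div (orderOf_pos x0).ne' ⟨d, hd⟩]
    have hxT : ∀ w ∈ (T : Subgroup G), (x : G) * w = w * x := by
      intro w hw
      set w' : C := ⟨w, h.T_le_cM ht hw⟩
      have hwS : π w' ∈ (S : Subgroup (cBar M t)) := ⟨w', hw, rfl⟩
      have hcw : z * π w' = π w' * z := by
        rcases hall _ hwS with e | e | e | e <;> rw [e]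
        · rw [mul_one, one_mul]
        · exact hza
        · exact hzb
        · exact ((show Commute z b from hzb).mul_right hza).eq
      have hk : π (x * w' * x⁻¹ * w'⁻¹) = 1 := by
        rw [map_mul, map_mul, map_mul, map_inv, map_inv, map_pow, hx0,
          ((show Commute z (π w') from hcw).pow_left d).eq]
        group
      rcases hker _ hk with e | e
      · exact congrArg Subtype.val (mul_inv_eq_iff_eq_mul.1 (mul_inv_eq_one.1 e))
      · exfalso
        have e1 : x * w' * x⁻¹ = t' * w' := mul_inv_eq_iff_eq_mul.1 e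
        have hit : ∀ k : ℕ, x ^ k * w' * (x ^ k)⁻¹ = t' ^ k * w' := by
          intro k
          induction k with
          | zero => simp
          | succ k ih =>
            rw [pow_succ', show x * x ^ k * w' * (x * x ^ k)⁻¹ = x * (x ^ k * w' * (x ^ k)⁻¹) * x⁻¹ by
              group, ih, show x * (t' ^ k * w') * x⁻¹ = (x * t' ^ k * x⁻¹) * (x * w' * x⁻¹) by group,
              ((show Commute x t' from ht'c x).pow_right k).eq, mul_inv_cancel_right, e1, pow_succ,
              mul_assoc]
        have h3 := hit 3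
        rw [show x ^ 3 = 1 by rw [← hxo]; exact pow_orderOf_eq_one x, pow_succ, pow_two, ht'2, one_mul,
          one_mul, inv_one, mul_one] at h3
        have h9 : t' = 1 := mul_eq_right.1 h3.symm
        exact ht1 (congrArg Subtype.val h9)
    have hxC : 8 ∣ Nat.card (centralizer ({(x : G)} : Set G)) := by
      rw [show (8 : ℕ) = 2 ^ 3 by norm_num, ← h.card_T]
      exact card_dvd_of_le fun w hw => mem_centralizer_singleton_iff.2 (hxT w hw).symm
    -- an element of order three of `L` centralises no four-group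
    obtain ⟨c3, hc3⟩ : ∃ w : L, orderOf w = 3 := by
      refine exists_prime_orderOf_dvd_card' 3 ?_
      rw [Nat.card_congr hP.e.toEquiv]
      have hg2 := CfsgLib.PSL2.gcd_eq_two hP.odd
      have h1 := CfsgLib.PSL2.card_psl (F := F)
      rw [hg2] at h1
      refine (Nat.Coprime.dvd_mul_left (show Nat.Coprime 3 2 by norm_num)).1 ?_
      rw [h1]
      rcases (show Fintype.card F % 3 = 0 ∨ Fintype.card F % 3 = 1 ∨ Fintype.card F % 3 = 2 by omega)
        with e | e | e
      · exact ((Nat.dvd_of_mod_eq_zero e).mul_right _).mul_left _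
      · exact ((Nat.dvd_of_mod_eq_zero (by omega)).mul_left _).mul_left _
      · exact (Nat.dvd_of_mod_eq_zero (by omega)).mul_right _
    obtain ⟨u0, hu0⟩ := hπs (c3 : cBar M t)
    have hu03 : 3 ∣ orderOf u0 := by
      have := orderOf_map_dvd π u0
      rwa [hu0, orderOf_coe, hc3] at this
    obtain ⟨d', hd'⟩ := hu03
    set u := u0 ^ d'
    have huo : orderOf u = 3 := by
      rw [show u = u0 ^ (orderOf u0 / 3) by rw [hd', Nat.mul_div_cancel_left _ (by norm_num)],
        orderOf_pow_orderOf_div (orderOf_pos u0).ne' ⟨d', hd'⟩]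
    have hπu : π u ∈ L ∧ π u ≠ 1 ∧ Odd (orderOf (π u)) := by
      refine ⟨by rw [map_pow, hu0]; exact pow_mem c3.2 _, fun e => ?_, ?_⟩
      · rcases hker u e with e | e
        · rw [e, orderOf_one] at huo; omega
        · rw [e, orderOf_mk, ht2] at huo; omega
      · exact (show Odd (orderOf u) by rw [huo]; decide).of_dvd_nat (orderOf_map_dvd π u)
    rw [h.conj.card_centralizer (k := 1) Nat.prime_three (y := (u : G))
      (by rw [orderOf_coe, hxo, pow_one]) (by rw [orderOf_coe, huo, pow_one])] at hxC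
    set Cu := centralizer ({(u : G)} : Set G)
    have htu : t ∈ Cu := mem_centralizer_singleton_iff.2 (mem_cM.1 u.2).2.symm
    obtain ⟨Su, hSu⟩ := (isPGroup_zpowers (G := Cu) (p := 2) (x := ⟨t, htu⟩) (k := 1)
      (by rw [orderOf_mk, ht2, pow_one])).exists_le_sylow
    set W := (Su : Subgroup Cu).map Cu.subtype
    have hW8 : 8 ∣ Nat.card W := by
      rw [card_map_of_injective Cu.subtype_injective, Sylow.card_eq_multiplicity,
        show (8 : ℕ) = 2 ^ 3 by norm_num]
      exact pow_dvd_pow 2 ((Nat.prime_two.pow_dvd_iff_le_factorization Nat.card_pos.ne').1 hxC)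
    have hWp : IsPGroup 2 W := Su.isPGroup'.map _
    obtain ⟨hWc, hWsq⟩ := h.two_group hWp
    have htW : t ∈ W := ⟨⟨t, htu⟩, hSu (mem_zpowers _), rfl⟩
    have hWC : W ≤ C := fun w hw => mem_cM.2 ⟨h.toCore.two_le_M hWp hw, hWc w hw t htW⟩
    let W' := (W.subgroupOf C).map π
    have hW'4 : 3 ≤ Nat.card W' := by
      show 3 ≤ Nat.card ((W.subgroupOf C).map π : Subgroup (cBar M t))
      have h1 := CfsgLib.Coprime.card_map_mul_inf_ker π (W.subgroupOf C)
      rw [Nat.card_congr (subgroupOfEquivOfLe hWC).toEquiv] at h1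
      have h2 : Nat.card (π.ker ⊓ W.subgroupOf C : Subgroup C) ≤ 2 := by
        rw [← hcardK]
        exact card_le_of_le (inf_le_left.trans (QuotientGroup.ker_mk' _).le)
      have h3 := Nat.le_of_dvd Nat.card_pos hW8
      rw [← h1] at h3
      have h5 := h3.trans (Nat.mul_le_mul_left _ h2)
      refine le_trans ?_ (Nat.le_of_mul_le_mul_right (show 4 * 2 ≤ _ * 2 from h5) two_pos)
      norm_num
    have hW'f : ∀ v ∈ W', v * v = 1 ∧ π u * v = v * π u ∧ v ∈ L := by
      rintro _ ⟨w, hw, rfl⟩
      have hw2 : π w * π w = 1 := by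
        rw [← map_mul, show w * w = 1 from Subtype.ext (by rw [← pow_two]; exact hWsq _ hw), map_one]
      refine ⟨hw2, ?_, mem_of_fp hP hodd (hP.fp_involution hw2)⟩
      rw [← map_mul, ← map_mul]
      refine congrArg π (Subtype.ext ?_)
      have hwu : (w : G) ∈ Cu := by
        obtain ⟨v, -, hv⟩ := mem_subgroupOf.1 hw
        exact hv ▸ v.2
      exact (mem_centralizer_singleton_iff.1 hwu).symm
    obtain ⟨v1, hv1, hv11, v2, hv2, hv21, hv12⟩ :
        ∃ v1 ∈ W', v1 ≠ 1 ∧ ∃ v2 ∈ W', v2 ≠ 1 ∧ v2 ≠ v1 := by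
      haveI : Nontrivial W' := Finite.one_lt_card_iff_nontrivial.1 (by omega)
      obtain ⟨⟨v1, hv1⟩, hne1⟩ := exists_ne (1 : W')
      refine ⟨v1, hv1, fun e => hne1 (Subtype.ext e), ?_⟩
      by_contra! hall'
      have hsub : (W' : Set (cBar M t)) ⊆ {1, v1} := fun v hv => by
        by_cases hv1' : v = 1
        · exact Or.inl hv1'
        · exact Or.inr (hall' v hv hv1')
      have := (Set.ncard_le_ncard hsub (Set.toFinite _)).trans (Set.ncard_insert_le _ _)
      rw [Set.ncard_singleton, ← Nat.card_coe_set_eq] at this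
      change Nat.card W' ≤ 1 + 1 at this
      omega
    have ho1 := orderOf_eq_prime (p := 2) (by rw [pow_two]; exact (hW'f v1 hv1).1) hv11
    have ho2 := orderOf_eq_prime (p := 2) (by rw [pow_two]; exact (hW'f v2 hv2).1) hv21
    refine hv12 (hP.eq_of_commute_torus ho1 ho2 ?_ hπu.2.1 (hW'f v2 hv2).2.1)
    exact (hP.mem_torus ho1).2 ⟨hπu.1, (hW'f v1 hv1).2.1, hπu.2.2⟩
  -- the centraliser is `Z₂ × PSL₂(q)`
  have htoL : ∀ y : cBar M t, y ∈ L := fun y => htop ▸ mem_top y
  let eY : cBar M t ≃* Matrix.ProjectiveSpecialLinearGroup (Fin 2) F :=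
    ((MulEquiv.subgroupCongr htop).trans Subgroup.topEquiv).symm.trans hP.e
  haveI : IsMulCommutative ↥(TC : Subgroup C) :=
    ⟨⟨fun a b => Subtype.ext (Subtype.ext (h.comm a.2 b.2))⟩⟩
  letI : CommGroup ↥(TC : Subgroup C) :=
    { (inferInstance : Group ↥(TC : Subgroup C)) with
      mul_comm := fun a b => (IsMulCommutative.is_comm).comm a b }
  let τ : C →* ↥(TC : Subgroup C) := MonoidHom.transfer (MonoidHom.id _)
  have hτt : τ t' ≠ 1 := by
    intro e
    have hk : ∀ (k : ℕ) (g₀ : C), g₀⁻¹ * t' ^ k * g₀ ∈ (TC : Subgroup C) →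
        g₀⁻¹ * t' ^ k * g₀ = t' ^ k := fun k g₀ _ => by
      rw [mul_assoc, ← ((show Commute g₀ t' from ht'c g₀).pow_right k).eq, inv_mul_cancel_left]
    rw [MonoidHom.transfer_eq_pow (MonoidHom.id _) t' hk] at e
    have e' : t' ^ (TC : Subgroup C).index = 1 := congrArg Subtype.val e
    have := orderOf_dvd_of_pow_eq_one e'
    rw [orderOf_mk, ht2] at this
    exact TC.not_dvd_index this
  set K := commutator C
  have hKt : ∀ x ∈ K, π x = 1 → x = 1 := by
    intro x hx hx1
    refine (hker x hx1).resolve_right fun e => hτt ?_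
    exact e ▸ (Abelianization.commutator_subset_ker τ hx)
  have hKs : ∀ y, ∃ x ∈ K, π x = y := by
    intro y
    have hsimp : IsSimpleGroup (cBar M t) := by
      haveI := CfsgLib.GW.Local.isSimpleGroup_of_top (L := Matrix.ProjectiveSpecialLinearGroup (Fin 2) F)
        (Or.inl ⟨F, inferInstance, inferInstance, hP.odd, hP.three, ⟨MulEquiv.refl _⟩⟩)
      haveI : Nontrivial (cBar M t) := eY.toEquiv.nontrivial
      exact IsSimpleGroup.isSimpleGroup_of_surjective eY.symm.toMonoidHom eY.symm.surjective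
    haveI := hsimp
    have hcom : commutator (cBar M t) = ⊤ := by
      refine ((inferInstance : (commutator (cBar M t)).Normal).eq_bot_or_eq_top).resolve_left fun e => ?_
      obtain ⟨a, b, -, -, ha, hb, hne, hab⟩ := hP.exists_four
      obtain ⟨g, -, -, hga, -⟩ := hP.exists_rot ha hb hne hab (htoL a) (htoL b)
      refine hne ?_
      have h1 : g * a * g⁻¹ * a⁻¹ ∈ commutator (cBar M t) :=
        commutator_mem_commutator (mem_top g) (mem_top a)
      rw [e, mem_bot, hga, mul_inv_eq_one] at h1
      exact h1.symm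
    have hmap : K.map π = ⊤ := by
      rw [← hcom, show K = ⁅(⊤ : Subgroup C), ⊤⁆ from rfl, map_commutator,
        map_top_of_surjective π hπs]
      rfl
    have : y ∈ K.map π := hmap ▸ mem_top y
    exact this
  let τ2 : C →* ↥(TC : Subgroup C) := τ
  obtain ⟨χ, hχt⟩ : ∃ χ : C →* Multiplicative (ZMod 2), χ t' ≠ 1 := by
    -- `C / K` has order two
    haveI : K.Normal := inferInstance
    have hnot : t' ∉ K := fun hK => ht1 (congrArg Subtype.val (hKt t' hK hπt))
    have hidx : K.index = 2 := by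
      have h1 : K ⊔ zpowers t' = ⊤ := by
        refine top_le_iff.1 fun c _ => ?_
        obtain ⟨k, hk, hkc⟩ := hKs (π c)
        rcases hker (k⁻¹ * c) (by rw [map_mul, map_inv, hkc, inv_mul_cancel]) with e | e
        · rw [inv_mul_eq_one] at e
          exact e ▸ mem_sup_left hk
        · rw [inv_mul_eq_iff_eq_mul] at e
          exact e ▸ mul_mem_sup hk (mem_zpowers t')
      have h2 := CfsgLib.Coprime.card_sup_mul_card_inf (H := zpowers t') (N := K)
        (by rw [normalizer_eq_top_iff.2 (inferInstance : K.Normal)]; exact le_top)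
      rw [sup_comm, h1, card_top, Nat.card_zpowers, orderOf_mk, ht2] at h2
      have h3 : Nat.card ((K ⊓ zpowers t' : Subgroup C)) = 1 := by
        rw [card_eq_one, eq_bot_iff]
        intro x hx
        obtain ⟨hx2, hx1⟩ := hx
        have : π x = 1 := (QuotientGroup.eq_one_iff x).2 (zpowers_le.2 ht'K hx1)
        exact mem_bot.2 (hKt x hx2 this)
      rw [h3, mul_one] at h2
      have h4 := K.card_mul_index
      rw [h2, mul_comm 2] at h4
      exact Nat.eq_of_mul_eq_mul_left Nat.card_pos h4
    haveI : IsCyclic (C ⧸ K) := isCyclic_of_prime_card (p := 2) (by rw [← index_eq_card, hidx])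
    let e2 : C ⧸ K ≃* Multiplicative (ZMod 2) := by
      refine ((zmodCyclicMulEquiv inferInstance).symm).trans ?_
      rw [← index_eq_card, hidx]
    exact ⟨e2.toMonoidHom.comp (QuotientGroup.mk' K), fun e =>
      hnot ((QuotientGroup.eq_one_iff t').1 (e2.injective (e.trans (map_one e2).symm)))⟩
  let Φ : C →* Multiplicative (ZMod 2) × Matrix.ProjectiveSpecialLinearGroup (Fin 2) F :=
    χ.prod (eY.toMonoidHom.comp π)
  have hΦ : Function.Bijective Φ := by
    refine (Nat.bijective_iff_injective_and_card _).2 ⟨(injective_iff_map_eq_one Φ).2 fun x hx => ?_, ?_⟩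
    · have hx2 : π x = 1 := eY.injective ((Prod.ext_iff.1 hx).2.trans (map_one eY).symm)
      exact (hker x hx2).resolve_right fun e => hχt (e ▸ (Prod.ext_iff.1 hx).1)
    · rw [Nat.card_prod, hCY, ← Nat.card_congr eY.toEquiv]
      simp
  -- apply the theorem inside `M`
  set tM : M := ⟨t, h.le ht⟩
  let eC : centralizer ({tM} : Set M) ≃* C :=
    { toFun := fun x => ⟨((x : M) : G), mem_cM.2 ⟨(x : M).2,
        congrArg Subtype.val (mem_centralizer_singleton_iff.1 x.2)⟩⟩
      invFun := fun x => ⟨⟨(x : G), (mem_cM.1 x.2).1⟩,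
        mem_centralizer_singleton_iff.2 (Subtype.ext (mem_cM.1 x.2).2)⟩
      left_inv := fun x => rfl
      right_inv := fun x => rfl
      map_mul' := fun x y => rfl }
  rcases hS M (fun P a b => Subtype.ext (Subtype.ext ((h.two_group (P.isPGroup'.map M.subtype)).1
      _ (mem_map_of_mem _ a.2) _ (mem_map_of_mem _ b.2)))) F (by omega) tM (by rw [orderOf_mk, ht2])
      ⟨eC.trans (MulEquiv.ofBijective Φ hΦ)⟩ with ⟨m, hm, hFm, hMc⟩ | ⟨hF45, -⟩
  swap
  · omega
  rcases hrank with hr1 | ⟨hr3, hr4⟩
  · rw [hr1] at hFm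
    have := Nat.Prime.eq_one_of_pow (hFm ▸ (Fact.out : r.Prime) : (3 ^ (2 * m + 1)).Prime)
    omega
  · have hr33 : r = 3 := by
      have h3 : 3 ∣ r ^ 3 := by rw [← hr3, hFm]; exact dvd_pow_self 3 (by omega)
      exact ((Nat.prime_dvd_prime_iff_eq Nat.prime_three Fact.out).1
        (Nat.prime_three.dvd_of_dvd_pow h3)).symm
    rw [hr3, hr33] at hFm
    apply hr4
    rw [hr33]
    refine dvd_trans ?_ (card_subgroup_dvd_card M)
    rw [hMc, ← hFm, ← pow_mul]
    exact ((pow_dvd_pow 3 (by norm_num)).mul_right _).mul_right _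

end Hard

end CfsgLib.EqualOrderE8
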