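import Cfsg.Agent.Lib.EqualOrderE8.Basic
import Cfsg.Agent.Lib.CGroup.Model
import Cfsg.Agent.Lib.CGroup.Linear

/-!
An elementary abelian Sylow two-subgroup: the order of the group induced by its normaliser, and the
case in which it is normal.
-/

set_option autoImplicit false
set_option linter.unusedSectionVars false
set_option linter.style.haveILetI false

namespace CfsgLib.EqualOrderE8

open Subgroup CfsgLib.Involutions CfsgLib.CGroup
open CfsgLib.StrongEmbedding.ElementaryCentralizers (normT involution_mem_T)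

universe u

variable {G : Type u} [Group G] [Finite G] {T : Sylow 2 G} {n : ℕ}

theorem index_cases (hC : EqPConj G) (hel : Cfsg.IsElementaryAbelian 2 (T : Subgroup G))
    (hcard : Nat.card (T : Subgroup G) = 2 ^ n) (hn : 2 ≤ n) :
    (n = 2 ∧ (centralizer ((T : Subgroup G) : Set G)).relIndex (normT T) = 3) ∨
    (n = 3 ∧ ((centralizer ((T : Subgroup G) : Set G)).relIndex (normT T) = 7 ∨
      (centralizer ((T : Subgroup G) : Set G)).relIndex (normT T) = 21)) ∨
    (n = 5 ∧ (centralizer ((T : Subgroup G) : Set G)).relIndex (normT T) = 155) := by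
  classical
  have : Fact (Nat.Prime 2) := ⟨Nat.prime_two⟩
  have hab : ∀ x ∈ (T : Subgroup G), ∀ y ∈ (T : Subgroup G), x * y = y * x := fun x hx y hy =>
    congrArg Subtype.val (hel.1.is_comm.comm ⟨x, hx⟩ ⟨y, hy⟩)
  have hq := card_quotient_normT hab hcard
  set idx := (centralizer ((T : Subgroup G) : Set G)).relIndex (normT T) with hidx
  by_cases h3 : 3 ≤ n
  · haveI := solvable_normT (T := T) hab
    rcases Cfsg.Agent.S4025.result (hC 2 Nat.prime_two) T n h3 hel hcard (normT T) rfl
        inferInstance with ⟨rfl, -, h⟩ | ⟨rfl, -, ⟨e⟩⟩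
    · refine Or.inr (Or.inl ⟨rfl, ?_⟩)
      rcases h rfl with ⟨⟨e⟩⟩ | ⟨⟨e⟩⟩
      · have h1 := Nat.card_congr e.toEquiv
        rw [hq, Cfsg.Agent.S4025.card_semiaffine 2 3 (by norm_num)] at h1
        right; omega
      · have h1 := Nat.card_congr e.toEquiv
        rw [hq, card_affine 3 (by norm_num)] at h1
        left; omega
    · refine Or.inr (Or.inr ⟨rfl, ?_⟩)
      have h1 := Nat.card_congr e.toEquiv
      rw [hq, Cfsg.Agent.S4025.card_semiaffine 2 5 (by norm_num)] at h1
      omega
  refine Or.inl ⟨by omega, ?_⟩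
  obtain rfl : n = 2 := by omega
  set ψ := (T : Subgroup G).normalizerMonoidHom
  have hR : Nat.card ψ.range = idx := by
    rw [hidx, relIndex, ← Subgroup.index_ker, normalizerMonoidHom_ker]
  -- the automorphisms permute the three involutions
  let Inv := {x : (T : Subgroup G) // x ≠ 1}
  let π : ψ.range →* Equiv.Perm Inv :=
    { toFun := fun r => (r : MulAut (T : Subgroup G)).toEquiv.subtypeEquiv fun x => by simp
      map_one' := Equiv.ext fun x => Subtype.ext rfl
      map_mul' := fun a b => Equiv.ext fun x => Subtype.ext rfl }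
  have hπ : Function.Injective π := by
    intro a b e
    refine Subtype.ext (MulEquiv.ext fun x => ?_)
    by_cases hx : x = 1
    · rw [hx, map_one, map_one]
    exact congrArg Subtype.val (Equiv.ext_iff.1 e ⟨x, hx⟩)
  have hdvd : idx ∣ 6 := by
    rw [← hR]
    refine (card_dvd_of_injective π hπ).trans ?_
    haveI := Fintype.ofFinite (T : Subgroup G)
    rw [Nat.card_perm, Nat.card_eq_fintype_card, Fintype.card_subtype_compl,
      Fintype.card_subtype_eq, ← Nat.card_eq_fintype_card, hcard]
    decide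
  have hne : idx ≠ 1 := by
    intro e
    -- two involutions of `T` are conjugate in the normaliser
    haveI : Nontrivial (T : Subgroup G) :=
      Finite.one_lt_card_iff_nontrivial.1 (by rw [hcard]; norm_num)
    obtain ⟨⟨s, hs⟩, hs1⟩ := exists_ne (1 : (T : Subgroup G))
    obtain ⟨t, ht, ht1, hts⟩ : ∃ t ∈ (T : Subgroup G), t ≠ 1 ∧ t ≠ s := by
      by_contra! hall
      have hsub : ((T : Subgroup G) : Set G) ⊆ {1, s} := fun t ht => by
        by_cases h1 : t = 1
        · exact Or.inl h1
        · exact Or.inr (hall t ht h1)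
      have := Set.ncard_le_ncard hsub (Set.toFinite _)
      rw [Set.ncard_pair (show (1 : G) ≠ s from fun e => hs1 (Subtype.ext e.symm)), ← Nat.card_coe_set_eq,
        show Nat.card ↑((T : Subgroup G) : Set G) = 4 from hcard] at this
      omega
    have hs2 : orderOf s = 2 := orderOf_eq_prime (hel.2 s hs) fun e => hs1 (Subtype.ext e)
    have ht2 : orderOf t = 2 := orderOf_eq_prime (hel.2 t ht) ht1
    obtain ⟨g, hg⟩ := hC 2 Nat.prime_two (zpowers s) (zpowers t) (isPGroup_zpowers (k := 1) (by rw [hs2, pow_one]))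
      (isPGroup_zpowers (k := 1) (by rw [ht2, pow_one])) (by rw [Nat.card_zpowers, Nat.card_zpowers, hs2, ht2])
    obtain ⟨m, hm, hmst⟩ :=
      Cfsg.Agent.S4025.fusion T hab (zpowers_le.2 hs) (zpowers_le.2 ht) g hg
    have hmC : m ∈ centralizer ((T : Subgroup G) : Set G) :=
      relIndex_eq_one.1 e hm
    have h1 := hmst s (mem_zpowers s)
    rw [← mem_centralizer_iff.1 hmC s hs, mul_inv_cancel_right] at h1
    obtain ⟨k, hk⟩ := mem_zpowers_iff.1 h1
    rw [zpow_eq_zpow_emod' (n := 2) k (by rw [← ht2]; exact pow_orderOf_eq_one t)] at hk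
    have hk' : k % ((2 : ℕ) : ℤ) = 0 ∨ k % ((2 : ℕ) : ℤ) = 1 := by omega
    rcases hk' with e' | e' <;> rw [e'] at hk
    · exact hs1 (Subtype.ext (by simpa using hk.symm))
    · exact hts (by simpa using hk)
  have hodd := relIndex_not_even (T := T) hab
  rw [← hidx] at hodd
  have hle := Nat.le_of_dvd (by norm_num) hdvd
  interval_cases idx <;> omega

/-- The case of a normal Sylow two-subgroup. -/
theorem normal_case (hC : EqPConj G) (hel : Cfsg.IsElementaryAbelian 2 (T : Subgroup G))
    (hcard : Nat.card (T : Subgroup G) = 2 ^ n) (hn : 2 ≤ n) (hTn : (T : Subgroup G).Normal)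
    (hO : Cfsg.oddCore G = ⊥) :
    (n = 2 ∧ Nat.card G = 12 ∧ centralizer ((T : Subgroup G) : Set G) = (T : Subgroup G) ∧
      Nonempty (G ≃* alternatingGroup (Fin 4))) ∨
    Nonempty (G ≃* Cfsg.affineGroup (GaloisField 2 3)) ∨
    Nonempty (G ≃* Cfsg.semiaffineGroup (GaloisField 2 3)) ∨
    Nonempty (G ≃* Cfsg.semiaffineGroup (GaloisField 2 5)) := by
  classical
  have : Fact (Nat.Prime 2) := ⟨Nat.prime_two⟩
  have hab : ∀ x ∈ (T : Subgroup G), ∀ y ∈ (T : Subgroup G), x * y = y * x := fun x hx y hy =>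
    congrArg Subtype.val (hel.1.is_comm.comm ⟨x, hx⟩ ⟨y, hy⟩)
  have htop : normT T = ⊤ := normalizer_eq_top_iff.2 hTn
  let e₀ : normT T ≃* G := (MulEquiv.subgroupCongr htop).trans Subgroup.topEquiv
  have hON : Cfsg.pPrimeCore 2 (normT T) = ⊥ :=
    CfsgLib.PCore.pPrimeCore_eq_bot_of_equiv e₀.symm hO
  let e₁ : (normT T ⧸ Cfsg.pPrimeCore 2 (normT T)) ≃* G :=
    ((QuotientGroup.quotientMulEquivOfEq hON).trans QuotientGroup.quotientBot).trans e₀
  by_cases h3 : 3 ≤ n
  · haveI := solvable_normT (T := T) hab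
    rcases Cfsg.Agent.S4025.result (hC 2 Nat.prime_two) T n h3 hel hcard (normT T) rfl
        inferInstance with ⟨rfl, -, h⟩ | ⟨rfl, -, ⟨e⟩⟩
    · rcases h rfl with ⟨⟨e⟩⟩ | ⟨⟨e⟩⟩
      · exact Or.inr (Or.inr (Or.inl ⟨e₁.symm.trans e⟩))
      · exact Or.inr (Or.inl ⟨e₁.symm.trans e⟩)
    · exact Or.inr (Or.inr (Or.inr ⟨e₁.symm.trans e⟩))
  obtain rfl : n = 2 := by omega
  left
  obtain ⟨-, hidx⟩ : 2 = 2 ∧ (centralizer ((T : Subgroup G) : Set G)).relIndex (normT T) = 3 := by
    rcases index_cases hC hel hcard hn with h | ⟨h, -⟩ | ⟨h, -⟩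
    · exact h
    · omega
    · omega
  have hG : Nat.card G = 12 := by
    have h1 := card_quotient_normT hab hcard
    rw [Nat.card_congr e₁.toEquiv, hidx] at h1
    exact h1
  have hTC : (T : Subgroup G) ≤ centralizer ((T : Subgroup G) : Set G) :=
    fun x hx => mem_centralizer_iff.2 fun y hy => hab y hy x hx
  have hCc : Nat.card (centralizer ((T : Subgroup G) : Set G)) = 4 := by
    have h1 := (centralizer ((T : Subgroup G) : Set G)).card_mul_index
    rw [show (centralizer ((T : Subgroup G) : Set G)).index = 3 by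
      rw [← relIndex_top_right, ← htop]; exact hidx, hG] at h1
    omega
  have hCT : centralizer ((T : Subgroup G) : Set G) = (T : Subgroup G) :=
    (eq_of_le_of_card_ge hTC (by rw [hCc, hcard]; norm_num)).symm
  refine ⟨rfl, hG, hCT, CfsgLib.PSL2.nonempty_mulEquiv_alternating_four hG fun g hg => ?_⟩
  -- the centraliser of an involution has order four
  have hi : orderOf (g ^ 3) = 2 := by
    rw [orderOf_pow' _ (by norm_num), hg]; norm_num
  have hiT : g ^ 3 ∈ (T : Subgroup G) :=
    CfsgLib.StrongEmbedding.ElementaryCentralizers.involution_mem_T hi (by rw [htop]; exact mem_top _)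
  have hclass : (MulAction.orbit (ConjAct G) (g ^ 3)).ncard = 3 := by
    have heq : MulAction.orbit (ConjAct G) (g ^ 3) = ((T : Subgroup G) : Set G) \ {1} := by
      ext x
      constructor
      · rintro ⟨c, rfl⟩
        exact ⟨hTn.conj_mem _ hiT (ConjAct.ofConjAct c),
          fun e => ne_one_of_involution hi (conj_eq_one_iff.1 e)⟩
      · rintro ⟨hx, hx1⟩
        obtain ⟨c, hc⟩ := hC.conj_involution hi (orderOf_eq_prime (hel.2 x hx) hx1)
        exact ⟨ConjAct.toConjAct c, hc⟩
    rw [heq, Set.ncard_diff_singleton_of_mem (one_mem _), ← Nat.card_coe_set_eq,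
      show Nat.card ↑((T : Subgroup G) : Set G) = 4 from hcard]
  have hidx' : (MulAction.stabilizer (ConjAct G) (g ^ 3)).index = 3 := by
    rw [MulAction.index_stabilizer, hclass]
  have hst : ConjAct.toConjAct g ∈ MulAction.stabilizer (ConjAct G) (g ^ 3) := by
    show g * g ^ 3 * g⁻¹ = g ^ 3
    group
  haveI : Finite (ConjAct G) := Finite.of_equiv G (ConjAct.toConjAct (G := G)).toEquiv
  have h4 := Subgroup.orderOf_dvd_natCard _ hst
  have hcm := (MulAction.stabilizer (ConjAct G) (g ^ 3)).card_mul_index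
  rw [hidx', show Nat.card (ConjAct G) = 12 from hG] at hcm
  rw [show orderOf (ConjAct.toConjAct g) = 6 from
    (MulEquiv.orderOf_eq (ConjAct.toConjAct (G := G)) g).trans hg] at h4
  have := Nat.le_of_dvd Nat.card_pos h4
  omega


end CfsgLib.EqualOrderE8
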