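import Cfsg.Agent.Lib.EqualOrderE8.SmallFive
import Cfsg.Agent.Lib.EqualOrderE8.Rank
import Cfsg.Agent.Lib.GW.Done
import Cfsg.Agent.S0813
import Cfsg.Agent.Lib.PSL2.MinimalSimple
import Cfsg.Agent.Lib.ClassicalGroups.SmallIso

/-!
All centralisers of involutions in the simple subgroup solvable: the list.
-/

set_option autoImplicit false
set_option linter.unusedSectionVars false
set_option linter.style.haveILetI false

namespace CfsgLib.EqualOrderE8

open Subgroup Matrix
open CfsgLib.PSL2 CfsgLib.AutPSL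
open CfsgLib.StrongEmbedding.ElementaryCentralizers (normT)

universe u

variable {G : Type u} [Group G] [Finite G] {T : Sylow 2 G} {M : Subgroup G} {n : ℕ}
variable {F : Type} [Field F] [Fintype F]

local notation "PSL" => ProjectiveSpecialLinearGroup (Fin 2) F

/-! ### The action on the simple subgroup -/

/-- The action of `G` on a model of `M`. -/
noncomputable def actHom (M : Subgroup G) [M.Normal] {X : Type} [Group X] (e : M ≃* X) :
    G →* MulAut X :=
  (MulAut.congr e).toMonoidHom.comp MulAut.conjNormal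

theorem actHom_apply [M.Normal] {X : Type} [Group X] (e : M ≃* X) (g : G) (x : M) :
    actHom M e g (e x) = e ⟨g * x * g⁻¹, Normal.conj_mem inferInstance _ x.2 g⟩ := by
  show e (MulAut.conjNormal g (e.symm (e x))) = _
  rw [MulEquiv.symm_apply_apply]
  exact congrArg e (Subtype.ext (MulAut.conjNormal_apply g x))

theorem actHom_injective [M.Normal] {X : Type} [Group X] (e : M ≃* X)
    (hc : centralizer (M : Set G) = ⊥) : Function.Injective (actHom M e) := by
  rw [injective_iff_map_eq_one]
  intro g hg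
  have : g ∈ centralizer (M : Set G) := mem_centralizer_iff.2 fun x hx => by
    have h1 := actHom_apply e g ⟨x, hx⟩
    rw [hg, MulAut.one_apply] at h1
    have h2 : x = g * x * g⁻¹ := congrArg Subtype.val (e.injective h1)
    exact (eq_mul_inv_iff_mul_eq.1 h2)
  rwa [hc, mem_bot] at this

theorem actHom_mem [M.Normal] {X : Type} [Group X] (e : M ≃* X) (x : M) :
    actHom M e (x : G) = MulAut.conj (e x) := by
  refine MulEquiv.ext fun y => ?_
  obtain ⟨z, rfl⟩ := e.surjective y
  rw [actHom_apply, MulAut.conj_apply, ← map_inv, ← map_mul, ← map_mul]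
  exact congrArg e (Subtype.ext rfl)

/-- The order of the automorphism group, with `q = r ^ f`. -/
theorem card_aut_mul {r f : ℕ} [Fact r.Prime] (hf : 1 ≤ f) (hF : Fintype.card F = r ^ f)
    (h4 : 4 ≤ Fintype.card F) :
    Nat.card (MulAut PSL) = f * (Nat.gcd 2 (Fintype.card F - 1) * Nat.card PSL) := by
  rw [Cfsg.Agent.S0813.result r f hf hF 2 le_rfl (fun _ => hF ▸ h4), if_pos rfl, one_mul,
    CfsgLib.PSL2.card_psl, CfsgLib.PSL2.card_pgl]

variable (h : Core M T n)
include h

/-- The index of `M` divides `2 f`, and is odd. -/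
theorem Core.index_dvd (e : M ≃* PSL) {r f : ℕ} [Fact r.Prime] (hf : 1 ≤ f)
    (hF : Fintype.card F = r ^ f) (h4 : 4 ≤ Fintype.card F) : M.index ∣ f := by
  haveI := h.normal
  haveI : Finite (MulAut PSL) := Finite.of_injective _ (fun a b e => MulEquiv.toEquiv_injective e)
  have h1 := card_dvd_of_injective _ (actHom_injective e h.cent)
  rw [card_aut_mul hf hF h4, ← M.card_mul_index, ← Nat.card_congr e.toEquiv, ← mul_assoc,
    mul_comm _ (Nat.card M)] at h1
  have h2 : M.index ∣ f * Nat.gcd 2 (Fintype.card F - 1) :=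
    Nat.dvd_of_mul_dvd_mul_left Nat.card_pos h1
  refine Nat.Coprime.dvd_of_dvd_mul_right ?_ h2
  exact Nat.Coprime.coprime_dvd_right (Nat.gcd_dvd_left _ _)
    (Nat.coprime_two_right.2 h.odd_index)

/-- Three divides the order of `M`. -/
theorem Core.three_dvd (e : M ≃* PSL) : 3 ∣ Nat.card M := by
  have h1 := CfsgLib.PSL2.card_psl (F := F)
  set q := Fintype.card F
  have hq : 1 ≤ q := Fintype.card_pos
  have h3 : 3 ∣ (q + 1) * (q * (q - 1)) := by
    rcases (show q % 3 = 0 ∨ q % 3 = 1 ∨ q % 3 = 2 by omega) with e | e | e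
    · exact Dvd.dvd.mul_left (Dvd.dvd.mul_right (Nat.dvd_of_mod_eq_zero e) _) _
    · exact Dvd.dvd.mul_left (Dvd.dvd.mul_left (by omega) _) _
    · exact Dvd.dvd.mul_right (by omega) _
  rw [← h1, ← Nat.card_congr e.toEquiv] at h3
  refine Nat.Coprime.dvd_of_dvd_mul_left (Nat.Coprime.coprime_dvd_right (Nat.gcd_dvd_left _ _) ?_) h3
  norm_num

/-- Field automorphisms of order three are excluded. -/
theorem Core.false_of_cubic (e : M ≃* PSL) {r : ℕ} [Fact r.Prime] (hF : Fintype.card F = r ^ 3)
    (hl : M.index = 3) : False := by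
  classical
  haveI := h.normal
  haveI : Finite (MulAut PSL) := Finite.of_injective _ (fun a b e => MulEquiv.toEquiv_injective e)
  have h4 : 4 ≤ Fintype.card F := by
    have := Nat.pow_le_pow_left (Fact.out : r.Prime).two_le 3
    omega
  obtain ⟨ε⟩ := CfsgLib.AutPSL.nonempty_ringAut_equiv (F := F) hF
  set σ : F ≃+* F := ε.symm (Multiplicative.ofAdd 1)
  have hσ3 : σ ^ 3 = 1 := by
    rw [← map_pow, show Multiplicative.ofAdd (1 : ZMod 3) ^ 3 = 1 from by decide, map_one]
  have hσ1 : σ ≠ 1 := fun e' => by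
    have h1 := ε.symm.injective (e'.trans (map_one ε.symm).symm)
    exact absurd h1 (by decide)
  set Φ := actHom M e
  have hinj := actHom_injective e h.cent
  set d := Nat.gcd 2 (Fintype.card F - 1)
  have hidx : Φ.range.index = d := by
    have h1 := Φ.range.card_mul_index
    rw [card_aut_mul (by norm_num) hF h4, ← Nat.card_congr (MonoidHom.ofInjective hinj).toEquiv,
      ← M.card_mul_index, hl, ← Nat.card_congr e.toEquiv] at h1
    have hpos : 0 < Nat.card M * 3 := Nat.mul_pos Nat.card_pos (by norm_num)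
    refine Nat.eq_of_mul_eq_mul_left hpos ?_
    rw [h1]; ring
  have hmem : CfsgLib.AutPSL.fieldAut σ ∈ Φ.range := by
    rcases (Nat.dvd_prime Nat.prime_two).1 (Nat.gcd_dvd_left 2 (Fintype.card F - 1)) with e1 | e2
    · rw [index_eq_one.1 (hidx.trans e1)]; exact mem_top _
    · rw [show (CfsgLib.AutPSL.fieldAut σ : MulAut PSL) =
        CfsgLib.AutPSL.fieldAut (σ ^ 2) * CfsgLib.AutPSL.fieldAut (σ ^ 2) by
          rw [← map_mul, ← pow_add, show σ ^ (2 + 2) = σ ^ 3 * σ from pow_succ σ 3, hσ3, one_mul]]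
      exact Subgroup.mul_self_mem_of_index_two (hidx.trans e2) _
  obtain ⟨g, hg⟩ := hmem
  have hg3 : g ^ 3 = 1 := hinj (by rw [map_pow, hg, ← map_pow, hσ3, map_one, map_one])
  have huniq : ∀ A : GL (Fin 2) F, (CfsgLib.AutPSL.fieldAut σ : MulAut PSL) = conjAut A → False := by
    intro A hA
    refine hσ1 (CfsgLib.GW.FieldModel.field_unique (g := 1) (h := A) ?_)
    rw [map_one, map_one, one_mul, mul_one]
    exact hA
  have hg1 : g ≠ 1 := fun e' => huniq 1 (by rw [map_one, ← hg, e', map_one])
  have hgM : g ∈ M := h.conj.mem_of_orderOf Nat.prime_three (h.three_dvd e) (orderOf_eq_prime hg3 hg1)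
  have hinn : Φ g ∈ Cfsg.Inn PSL := by
    rw [show Φ g = MulAut.conj (e ⟨g, hgM⟩) from actHom_mem e ⟨g, hgM⟩]
    exact ⟨_, rfl⟩
  obtain ⟨A, hA⟩ := CfsgLib.AutPSL.inn_le_range hinn
  exact huniq A (hg.symm.trans hA.symm)

/-- The degree of the field is at most three in odd characteristic. -/
theorem Core.false_of_large_degree (e : M ≃* PSL) {r f : ℕ} [hr : Fact r.Prime] (hr2 : r ≠ 2)
    (hf : 5 ≤ f) (hF : Fintype.card F = r ^ f) : False := by
  classical
  haveI := h.normal
  haveI := h.simple
  haveI : Fact (Nat.Prime 2) := ⟨Nat.prime_two⟩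
  haveI : CharP F r := charP_of_card_eq_prime_pow (f := f) hF
  have hr3 : 3 ≤ r := by have := hr.out.two_le; omega
  have hqodd : Odd (Fintype.card F) := hF ▸ (hr.out.odd_of_ne_two hr2).pow
  have hd : Nat.gcd 2 (Fintype.card F - 1) = 2 := Nat.gcd_eq_left (by
    rw [Nat.odd_iff] at hqodd; omega)
  have h2F : (2 : F) ≠ 0 := CfsgLib.PSL2.two_ne_zero_of_odd hqodd
  have hcM := CfsgLib.PSL2.card_psl (F := F)
  rw [hd, ← Nat.card_congr e.toEquiv] at hcM
  obtain ⟨Q⟩ : Nonempty (Sylow r M) := inferInstance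
  have hQc : Nat.card (Q : Subgroup M) = r ^ f := by
    rw [Sylow.card_eq_multiplicity]
    have hq1 : 1 ≤ r ^ f := Nat.one_le_pow _ _ hr.out.pos
    have hrd : r ∣ r ^ f := dvd_pow_self r (by omega)
    have n2 : ¬ r ∣ 2 := fun h' => hr2 ((Nat.prime_dvd_prime_iff_eq hr.out Nat.prime_two).1 h')
    have np : ¬ r ∣ r ^ f + 1 := fun h' => hr.out.one_lt.ne'
      (Nat.dvd_one.1 ((Nat.dvd_add_right hrd).1 h'))
    have nm : ¬ r ∣ r ^ f - 1 := fun h' => hr.out.one_lt.ne' (Nat.dvd_one.1 (by
      have := Nat.dvd_sub hrd h'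
      rwa [Nat.sub_sub_self hq1] at this))
    have h1 := congrArg (fun m : ℕ => m.factorization r) hcM
    rw [hF] at h1
    have hrf : 1 < r ^ f := Nat.one_lt_pow (by omega) hr.out.one_lt
    rw [Nat.factorization_mul two_ne_zero Nat.card_pos.ne',
      Nat.factorization_mul (by omega) (Nat.mul_ne_zero (by omega) (by omega)),
      Nat.factorization_mul (by omega) (by omega)] at h1
    simp only [Finsupp.add_apply, Nat.factorization_eq_zero_of_not_dvd n2,
      Nat.factorization_eq_zero_of_not_dvd np, Nat.factorization_eq_zero_of_not_dvd nm,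
      hr.out.factorization_pow, Finsupp.single_eq_same, zero_add, add_zero] at h1
    rw [h1]
  -- the Sylow subgroup of `G`
  obtain ⟨R, hR⟩ := (Q.isPGroup'.map M.subtype).exists_le_sylow
  have hncyc : ¬ IsCyclic R := by
    intro hcyc
    haveI := hcyc
    haveI : IsCyclic ((Q : Subgroup M).map M.subtype) :=
      isCyclic_of_injective (inclusion hR) (inclusion_injective hR)
    haveI : IsCyclic (Q : Subgroup M) :=
      isCyclic_of_surjective ((Q : Subgroup M).equivMapOfInjective _ M.subtype_injective).symm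
        (MulEquiv.surjective _)
    obtain ⟨y, hy⟩ := IsCyclic.exists_ofOrder_eq_natCard (α := (Q : Subgroup M))
    rw [hQc, ← orderOf_coe] at hy
    set z := (y : M) ^ r ^ (f - 2)
    have hz : orderOf z = r ^ 2 := by
      rw [orderOf_pow' _ (pow_ne_zero _ hr.out.ne_zero), hy,
        Nat.gcd_eq_right (pow_dvd_pow r (show f - 2 ≤ f by omega)),
        Nat.pow_div (by omega) hr.out.pos]
      congr 1; omega
    set w : ProjGenLinGroup (Fin 2) F := ProjectiveSpecialLinearGroup.toPGL (e z)
    have hw : orderOf w = r ^ 2 := by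
      rw [orderOf_injective _ ProjectiveSpecialLinearGroup.toPGL_injective, MulEquiv.orderOf_eq, hz]
    have h1 : (w ^ r) ^ r = 1 := by rw [← pow_mul, ← pow_two, ← hw, pow_orderOf_eq_one]
    have h2 : w ^ r ≠ 1 := fun e' => by
      have := Nat.le_of_dvd hr.out.pos (hw ▸ orderOf_dvd_of_pow_eq_one e')
      nlinarith
    exact h2 (pgl_pow_eq_one_of_commute h2F h1 h2 ((Commute.refl w).pow_left r).eq)
  have hel := (h.conj.sylow_shape hr2 R).resolve_left hncyc
  have hrM : r ∣ Nat.card M :=
    (dvd_pow_self r (by omega : f ≠ 0)).trans (hQc ▸ (Q : Subgroup M).card_subgroup_dvd_card)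
  have hRM : (R : Subgroup G) ≤ M := h.conj.sylow_le R hel hrM
  have hRQ : (R : Subgroup G).subgroupOf M = Q :=
    Q.is_maximal' (R.isPGroup'.comap_subtype) fun x hx => hR ⟨x, hx, rfl⟩
  have hRc : Nat.card R = r ^ f := by
    rw [← Nat.card_congr (subgroupOfEquivOfLe hRM).toEquiv, hRQ, hQc]
  -- the normaliser in `M` is solvable
  have hH : Group.IsSolvable (normalizer ((Q : Subgroup M) : Set M)) := by
    set H := (normalizer ((Q : Subgroup M) : Set M)).map e.toMonoidHom with hHdef
    have hdvd : r ^ f ∣ Nat.card H := by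
      rw [hHdef, card_map_of_injective e.injective, ← hQc]
      exact card_dvd_of_le le_normalizer
    rcases CfsgLib.PSL2.isSolvable_or_big r H with hs | ⟨-, h60⟩ | ⟨S, h4, hiso⟩
    · haveI := hs
      exact Group.isSolvable_of_isSolvable_injective
        (f := ((normalizer ((Q : Subgroup M) : Set M)).equivMapOfInjective e.toMonoidHom
          e.injective).toMonoidHom) (MulEquiv.injective _)
    · exfalso
      rw [h60] at hdvd
      have h1 := Nat.le_of_dvd (by norm_num) hdvd
      have h2 := (Nat.pow_le_pow_left hr3 f).trans' (Nat.pow_le_pow_right (by norm_num) hf)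
      omega
    · exfalso
      haveI : CharP S r := (RingHom.charP_iff S.subtype S.subtype.injective r).2 inferInstance
      obtain ⟨k, -, hk⟩ := FiniteField.card S r
      have hS' := CfsgLib.PSL2.card_psl (F := S)
      have hS'' := CfsgLib.PSL2.card_pgl (F := S)
      set s := Fintype.card S
      have hrs : r ∣ s := hk ▸ dvd_pow_self r k.ne_zero
      have hs1 : 1 ≤ s := Fintype.card_pos
      have hdvd' : r ^ f ∣ (s + 1) * (s * (s - 1)) := by
        rcases hiso with ⟨⟨φ⟩⟩ | ⟨⟨φ⟩⟩
        · rw [← hS', ← Nat.card_congr φ.toEquiv]; exact hdvd.trans (dvd_mul_left _ _)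
        · rw [← hS'', ← Nat.card_congr φ.toEquiv]; exact hdvd
      have c1 : Nat.Coprime (r ^ f) (s + 1) := Nat.Coprime.pow_left _
        ((hr.out.coprime_iff_not_dvd).2 fun h' => hr.out.one_lt.ne'
          (Nat.dvd_one.1 ((Nat.dvd_add_right hrs).1 h')))
      have c2 : Nat.Coprime (r ^ f) (s - 1) := Nat.Coprime.pow_left _
        ((hr.out.coprime_iff_not_dvd).2 fun h' => hr.out.one_lt.ne' (Nat.dvd_one.1 (by
          have := Nat.dvd_sub hrs h'
          rwa [Nat.sub_sub_self hs1] at this)))
      have hds : r ^ f ∣ s := c2.dvd_of_dvd_mul_right (c1.dvd_of_dvd_mul_left hdvd')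
      have hle : s ≤ Fintype.card F := Fintype.card_le_of_injective _ S.subtype.injective
      have hsq : s = Fintype.card F := le_antisymm hle (hF ▸ Nat.le_of_dvd hs1 hds)
      have hHtop : H = ⊤ := Subgroup.eq_top_of_le_card _ (by
        rw [← Nat.card_congr e.toEquiv]
        rcases hiso with ⟨⟨φ⟩⟩ | ⟨⟨φ⟩⟩
        · rw [hsq, hd, ← Nat.card_congr φ.toEquiv, ← hcM] at hS'
          omega
        · rw [hsq, ← Nat.card_congr φ.toEquiv, ← hcM] at hS''
          omega)
      have hNtop : normalizer ((Q : Subgroup M) : Set M) = ⊤ := by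
        apply Subgroup.map_injective (f := e.toMonoidHom) e.injective
        rw [← hHdef, hHtop, Subgroup.map_top_of_surjective _ e.surjective]
      have hQn := normalizer_eq_top_iff.1 hNtop
      rcases IsSimpleGroup.eq_bot_or_eq_top_of_normal _ hQn with e' | e'
      · rw [e', card_bot] at hQc
        exact absurd hQc (Nat.one_lt_pow (by omega) hr.out.one_lt).ne
      · have h2 : 2 ∣ r ^ f := by
          rw [← hQc, e', Subgroup.card_top]
          exact h.two_dvd_card
        exact hr2 ((Nat.prime_dvd_prime_iff_eq Nat.prime_two hr.out).1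
          (Nat.prime_two.dvd_of_dvd_pow h2)).symm
  set N := normalizer ((R : Subgroup G) : Set G)
  haveI hNs : Group.IsSolvable N := by
    haveI := hH
    haveI : Group.IsSolvable ((QuotientGroup.mk' M).comp N.subtype).ker := by
      refine Group.isSolvable_of_isSolvable_injective
        (f := (MonoidHom.mk' (fun x : ((QuotientGroup.mk' M).comp N.subtype).ker =>
          (⟨((x : N) : G), (QuotientGroup.eq_one_iff _).1 x.2⟩ : M)) fun a b => rfl).codRestrict
            (normalizer ((Q : Subgroup M) : Set M)) fun x => ?_) ?_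
      · refine CfsgLib.Coprime.mem_normalizer_of_forall_conj fun y hy => ?_
        rw [← hRQ, mem_subgroupOf] at hy ⊢
        exact (mem_normalizer_iff.1 (x : N).2 (y : G)).1 hy
      · intro a b e'
        have h1 := congrArg (fun z : normalizer ((Q : Subgroup M) : Set M) => ((z : M) : G)) e'
        exact Subtype.ext (Subtype.ext h1)
    haveI : Group.IsSolvable (G ⧸ M) :=
      @CfsgLib.PF.oddSolvable.{u} (G ⧸ M) _ _ (by rw [← index_eq_card]; exact h.odd_index)
    exact Group.isSolvable_of_ker_le_range ((QuotientGroup.mk' M).comp N.subtype).ker.subtype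
      ((QuotientGroup.mk' M).comp N.subtype) (by rw [range_subtype])
  rcases Cfsg.Agent.S4025.result (h.conj r hr.out) R f (by omega) hel hRc N rfl inferInstance with
    ⟨e', -⟩ | ⟨-, e', -⟩
  · omega
  · exact hr2 e'

omit h in
/-- A subgroup of index one is the whole group. -/
noncomputable def equivOfIndexOne {X : Type*} [Group X] {H : Subgroup X} (hl : H.index = 1) : X ≃* H :=
  ((MulEquiv.subgroupCongr (index_eq_one.1 hl)).trans Subgroup.topEquiv).symm

theorem Core.list_of_solvable (hsol : ∀ t : G, orderOf t = 2 → Group.IsSolvable (cM M t)) :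
    Nonempty (G ≃* Matrix.ProjectiveSpecialLinearGroup (Fin 2) (GaloisField 2 3)) ∨
    Nonempty (G ≃* MulAut (Matrix.ProjectiveSpecialLinearGroup (Fin 2) (GaloisField 2 5))) ∨
    ∃ (p : ℕ) (_ : Fact p.Prime), (p % 8 = 3 ∨ p % 8 = 5) ∧
      (Nonempty (G ≃* Matrix.ProjectiveSpecialLinearGroup (Fin 2) (ZMod p)) ∨
        Nonempty (G ≃* Matrix.ProjectiveSpecialLinearGroup (Fin 2) (GaloisField p 3))) := by
  classical
  haveI := h.simple
  haveI := h.normal
  haveI : Fact (Nat.Prime 2) := ⟨Nat.prime_two⟩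
  obtain ⟨TM, hTM⟩ := h.exists_sylow_M
  have hTMc : ∀ a ∈ (TM : Subgroup M), ∀ b ∈ (TM : Subgroup M), a * b = b * a := fun a ha b hb =>
    Subtype.ext (h.comm (hTM ▸ mem_map_of_mem _ ha) (hTM ▸ mem_map_of_mem _ hb))
  have hns : ¬ Group.IsSolvable M := fun hs =>
    h.not_comm ⟨⟨fun a b => IsSimpleGroup.comm_iff_isSolvable.2 hs a b⟩⟩
  have hC : ∀ t : M, orderOf t = 2 → Group.IsSolvable (centralizer ({t} : Set M)) := by
    intro t ht
    haveI := hsol (t : G) (by rw [orderOf_coe, ht])
    refine Group.isSolvable_of_isSolvable_injective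
      (f := (M.subtype.comp (centralizer ({t} : Set M)).subtype).codRestrict (cM M (t : G)) fun c =>
        mem_cM.2 ⟨(c : M).2, congrArg Subtype.val (mem_centralizer_singleton_iff.1 c.2)⟩) ?_
    intro a b e
    exact Subtype.ext (Subtype.ext (congrArg Subtype.val e :))
  obtain ⟨F, iF, iFt, hq, ⟨e⟩⟩ :=
    CfsgLib.SylTwoAbel.exists_psl_of_simple CfsgLib.GW.Done.classification hns TM hTMc hC
  have hn : n = (Nat.card M).factorization 2 := by
    have h1 := Sylow.card_eq_multiplicity TM
    have h0 : Nat.card ((TM : Subgroup M).map M.subtype) = Nat.card (TM : Subgroup M) :=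
      card_map_of_injective M.subtype_injective
    rw [← h0, hTM, h.card_T] at h1
    exact Nat.pow_right_injective le_rfl h1
  have hcM := CfsgLib.PSL2.card_psl (F := F)
  rw [← Nat.card_congr e.toEquiv] at hcM
  have hG := M.card_mul_index
  rcases hq with ⟨hq8, h5⟩ | ⟨a, ha, hqa⟩
  · -- odd characteristic
    obtain ⟨r, hrc⟩ := CharP.exists F
    haveI : Fact r.Prime := ⟨CharP.char_is_prime F r⟩
    obtain ⟨f, hrp, hf⟩ := FiniteField.card F r
    have hr2 : r ≠ 2 := by
      rintro rfl
      have : 2 ∣ Fintype.card F := hf ▸ dvd_pow_self 2 f.ne_zero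
      omega
    have hfodd : Odd (f : ℕ) := by
      rw [← Nat.not_even_iff_odd]
      rintro ⟨m, hm⟩
      have hro : r ^ m % 2 = 1 := Nat.odd_iff.1 (hrp.odd_of_ne_two hr2).pow
      rw [hf, hm, pow_add, Nat.mul_mod] at hq8
      rcases (show r ^ m % 8 = 1 ∨ r ^ m % 8 = 3 ∨ r ^ m % 8 = 5 ∨ r ^ m % 8 = 7 by omega) with
        e' | e' | e' | e' <;> rw [e'] at hq8 <;> norm_num at hq8
    have hdvd := h.index_dvd e f.pos hf (by omega)
    refine Or.inr (Or.inr ?_)
    rcases (show (f : ℕ) = 1 ∨ (f : ℕ) = 3 ∨ 5 ≤ (f : ℕ) by rw [Nat.odd_iff] at hfodd; omega) with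
      e1 | e3 | e5
    · refine ⟨r, inferInstance, by rw [hf, e1, pow_one] at hq8; exact hq8, Or.inl ?_⟩
      rw [e1, Nat.dvd_one] at hdvd
      exact ⟨(equivOfIndexOne hdvd).trans (e.trans (CfsgLib.ClassicalGroups.pslFieldCongr
        (FiniteField.ringEquivOfCardEq (by rw [hf, e1, pow_one, ZMod.card]))))⟩
    · rw [e3] at hdvd hf
      have hl : M.index = 1 := ((Nat.dvd_prime Nat.prime_three).1 hdvd).resolve_right
        fun e' => h.false_of_cubic e hf e'
      letI := Fintype.ofFinite (GaloisField r 3)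
      refine ⟨r, inferInstance, ?_, Or.inr ⟨(equivOfIndexOne hl).trans (e.trans
        (CfsgLib.ClassicalGroups.pslFieldCongr (FiniteField.ringEquivOfCardEq (by
          rw [hf, ← Nat.card_eq_fintype_card, GaloisField.card r 3 (by norm_num)]))))⟩⟩
      rw [hf, Nat.pow_mod] at hq8
      have hro := Nat.odd_iff.1 (hrp.odd_of_ne_two hr2)
      rcases (show r % 8 = 1 ∨ r % 8 = 3 ∨ r % 8 = 5 ∨ r % 8 = 7 by omega) with e' | e' | e' | e' <;>
        simp [e'] at hq8 ⊢
    · exact (h.false_of_large_degree e hr2 e5 hf).elim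
  · -- characteristic two
    set q := Fintype.card F
    have hq4 : 4 ≤ q := hqa ▸ Nat.pow_le_pow_right two_pos ha
    have hgcd : Nat.gcd 2 (q - 1) = 1 := (Nat.Prime.coprime_iff_not_dvd Nat.prime_two).2 (by
      have : 2 ∣ q := hqa ▸ dvd_pow_self 2 (by omega)
      omega)
    rw [hgcd, one_mul] at hcM
    have hna : n = a := by
      have h2q : 2 ∣ q := hqa ▸ dvd_pow_self 2 (by omega)
      rw [hn, hcM, Nat.factorization_mul (by omega) (Nat.mul_ne_zero (by omega) (by omega)),
        Nat.factorization_mul (by omega) (by omega), Finsupp.add_apply, Finsupp.add_apply,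
        Nat.factorization_eq_zero_of_not_dvd (show ¬ 2 ∣ q + 1 by omega),
        Nat.factorization_eq_zero_of_not_dvd (show ¬ 2 ∣ q - 1 by omega), hqa,
        Nat.prime_two.factorization_pow, Finsupp.single_eq_same, zero_add, add_zero]
    subst hna
    have hdvd := h.index_dvd e (by omega) hqa hq4
    rcases index_cases h.conj h.elem h.card_T h.two_le with ⟨rfl, -⟩ | ⟨rfl, -⟩ | ⟨rfl, h155⟩
    · -- `A₅`
      haveI : Fact (Nat.Prime 5) := ⟨by norm_num⟩
      have hl : M.index = 1 := ((Nat.dvd_prime Nat.prime_two).1 hdvd).resolve_right fun e' => by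
        have := h.odd_index
        rw [e'] at this
        exact absurd this (by decide)
      obtain ⟨e4⟩ := CfsgLib.ClassicalGroups.psl_two_four_alternating (K := F) hqa
      obtain ⟨e5⟩ := CfsgLib.ClassicalGroups.psl_two_five_alternating (K := ZMod 5) (ZMod.card 5)
      exact Or.inr (Or.inr ⟨5, inferInstance, Or.inr (by norm_num),
        Or.inl ⟨(equivOfIndexOne hl).trans (e.trans (e4.trans e5.symm))⟩⟩)
    · letI := Fintype.ofFinite (GaloisField 2 3)
      have hl : M.index = 1 := ((Nat.dvd_prime Nat.prime_three).1 hdvd).resolve_right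
        fun e' => h.false_of_cubic e hqa e'
      exact Or.inl ⟨(equivOfIndexOne hl).trans (e.trans (CfsgLib.ClassicalGroups.pslFieldCongr
        (FiniteField.ringEquivOfCardEq (show q = _ by
          rw [hqa, ← Nat.card_eq_fintype_card, GaloisField.card 2 3 (by norm_num)]))))⟩
    · letI := Fintype.ofFinite (GaloisField 2 5)
      have hl : M.index = 5 := ((Nat.dvd_prime (by norm_num)).1 hdvd).resolve_left fun e' => by
        have h1 : 5 ∣ Nat.card G := by
          have h2 : 5 ∣ (centralizer ((T : Subgroup G) : Set G)).relIndex (normT T) := by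
            rw [h155]; norm_num
          exact (h2.trans (Subgroup.index_dvd_card _)).trans (card_subgroup_dvd_card _)
        rw [← hG, e', mul_one, hcM, hqa] at h1
        norm_num at h1
      refine Or.inr (Or.inl ⟨?_⟩)
      haveI : Finite (MulAut (ProjectiveSpecialLinearGroup (Fin 2) F)) :=
        Finite.of_injective _ (fun a b e => MulEquiv.toEquiv_injective e)
      have hbij : Function.Bijective (actHom M e) := by
        rw [Nat.bijective_iff_injective_and_card]
        refine ⟨actHom_injective e h.cent, ?_⟩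
        rw [card_aut_mul (by norm_num) hqa hq4, hgcd, one_mul, ← Nat.card_congr e.toEquiv, ← hG, hl,
          mul_comm]
      exact (MulEquiv.ofBijective _ hbij).trans (MulAut.congr (CfsgLib.ClassicalGroups.pslFieldCongr
        (FiniteField.ringEquivOfCardEq (show q = _ by
          rw [hqa, ← Nat.card_eq_fintype_card, GaloisField.card 2 5 (by norm_num)]))))

end CfsgLib.EqualOrderE8
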