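import Cfsg.Agent.Lib.EqualOrderE8.Five
import Cfsg.Agent.Lib.EqualOrderE8.Large
import Cfsg.Agent.Lib.EqualOrderE8.Top
import Cfsg.Agent.Lib.EqualOrderE8.Small
import Cfsg.Agent.Lib.CGroup.Model

/-!
An elementary abelian non-cyclic Sylow two-subgroup: the list of groups without odd core in which
`p`-subgroups of equal order are conjugate.
-/

set_option autoImplicit false
set_option linter.unusedSectionVars false
set_option linter.style.haveILetI false

namespace CfsgLib.EqualOrderE8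

open Subgroup
open CfsgLib.StrongEmbedding.ElementaryCentralizers (normT)

universe u

variable {G : Type u} [Group G] [Finite G] {T : Sylow 2 G} {M : Subgroup G} {n : ℕ}

/-- The groups with an elementary abelian Sylow two-subgroup. -/
def ElemList (G : Type u) [Group G] : Prop :=
  Nonempty (G ≃* Cfsg.affineGroup (GaloisField 2 3)) ∨
  Nonempty (G ≃* Cfsg.semiaffineGroup (GaloisField 2 3)) ∨
  Nonempty (G ≃* Cfsg.semiaffineGroup (GaloisField 2 5)) ∨
  Cfsg.IsJ1 G ∨
  Nonempty (G ≃* Matrix.ProjectiveSpecialLinearGroup (Fin 2) (GaloisField 2 3)) ∨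
  Nonempty (G ≃* MulAut (Matrix.ProjectiveSpecialLinearGroup (Fin 2) (GaloisField 2 5))) ∨
  ∃ (p : ℕ) (_ : Fact p.Prime), (p % 8 = 3 ∨ p % 8 = 5) ∧
    (Nonempty (G ≃* Matrix.ProjectiveSpecialLinearGroup (Fin 2) (ZMod p)) ∨
     Nonempty (G ≃* Matrix.ProjectiveSpecialLinearGroup (Fin 2) (GaloisField p 3)))

/-- The centraliser in `M` of an involution is solvable for a four-group. -/
theorem Core.solvable_cM_two (h : Core M T 2) {t : G} (ht : orderOf t = 2) :
    Group.IsSolvable (cM M t) := by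
  haveI := solvable_cent_of_four T (by rw [h.card_T]; norm_num) (fun x hx => h.elem.2 x hx) ht
  exact Group.isSolvable_of_isSolvable_injective (f := inclusion (inf_le_right :
    cM M t ≤ centralizer ({t} : Set G))) (inclusion_injective _)

/-- An elementary non-cyclic Sylow two-subgroup. -/
theorem elementary_case (hS : TwoTimesPSL.{u}) (hD : EqPConj G)
    (hel : Cfsg.IsElementaryAbelian 2 (T : Subgroup G)) (hcard : Nat.card (T : Subgroup G) = 2 ^ n)
    (hn : 2 ≤ n) (hO : Cfsg.oddCore G = ⊥) : ElemList G := by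
  classical
  haveI : Fact (Nat.Prime 2) := ⟨Nat.prime_two⟩
  by_cases hTn : (T : Subgroup G).Normal
  · rcases normal_case hD hel hcard hn hTn hO with ⟨-, -, -, ⟨e⟩⟩ | h | h | h
    · haveI : Fact (Nat.Prime 3) := ⟨Nat.prime_three⟩
      obtain ⟨a⟩ := CfsgLib.ClassicalGroups.psl_two_three_alternating (K := ZMod 3) (ZMod.card 3)
      exact Or.inr (Or.inr (Or.inr (Or.inr (Or.inr (Or.inr
        ⟨3, ⟨Nat.prime_three⟩, Or.inl rfl, Or.inl ⟨e.trans a.symm⟩⟩)))))
    · exact Or.inl h
    · exact Or.inr (Or.inl h)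
    · exact Or.inr (Or.inr (Or.inl h))
  obtain ⟨M, h⟩ := exists_core hD hel hcard hn hO hTn
  haveI := h.normal
  by_cases hsol : ∀ t : G, orderOf t = 2 → Group.IsSolvable (cM M t)
  · exact Or.inr (Or.inr (Or.inr (Or.inr (h.list_of_solvable hsol))))
  push Not at hsol
  obtain ⟨t, ht, hns⟩ := hsol
  rcases index_cases hD hel hcard hn with ⟨rfl, -⟩ | ⟨rfl, hidx⟩ | ⟨rfl, -⟩
  · exact absurd (h.solvable_cM_two ht) hns
  · have hauto : AutData T 3 7 3 :=
      ⟨by norm_num, rfl, by rcases hidx with e | e <;> rw [e] <;> norm_num,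
        by rcases hidx with e | e <;> rw [e] <;> norm_num,
        Or.inr ⟨Nat.prime_three, by norm_num, by norm_num⟩⟩
    obtain ⟨g, hg⟩ := CfsgLib.Involutions.exists_conj_le_sylow
      (isPGroup_zpowers (p := 2) (x := t) (k := 1) (by rw [ht, pow_one])) T
    have hsT : g * t * g⁻¹ ∈ (T : Subgroup G) := hg t (mem_zpowers t)
    have hs1 : g * t * g⁻¹ ≠ 1 := fun e => by
      rw [conj_eq_one_iff.1 e, orderOf_one] at ht
      omega
    have hns' : ¬ Group.IsSolvable (cM M (g * t * g⁻¹)) := by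
      intro hs
      haveI := hs
      refine hns (Group.isSolvable_of_surjective (f := ((MulAut.conj g⁻¹).toMonoidHom.comp
        (cM M (g * t * g⁻¹)).subtype).codRestrict (cM M t) fun x => ?_) ?_)
      · have := conj_mem_cM (g := g⁻¹) x.2
        simpa [mul_assoc] using this
      · rintro ⟨y, hy⟩
        exact ⟨⟨g * y * g⁻¹, conj_mem_cM hy⟩, Subtype.ext (by simp [mul_assoc])⟩
    have H : Hard M T := ⟨h, hauto, _, hsT, hs1, hns'⟩
    obtain ⟨F, iF, iFt, L, top⟩ := H.exists_top hsT hs1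
    have h11 : Fintype.card F = 5 ∨ 11 ≤ Fintype.card F := by
      have h5 := top.psl.three
      rcases top.mod8 with e | e <;> omega
    rcases h11 with h5 | h11
    · exact Or.inr (Or.inr (Or.inr (Or.inl (H.isJ1_of_five hsT hs1 top h5))))
    · exact (H.false_of_large hS hsT hs1 top h11).elim
  · exact absurd (h.solvable_cent_five ht) hns

/-- A four-group: refined list. -/
theorem four_case (hD : EqPConj G)
    (hel : Cfsg.IsElementaryAbelian 2 (T : Subgroup G)) (hcard : Nat.card (T : Subgroup G) = 2 ^ 2)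
    (hO : Cfsg.oddCore G = ⊥) :
    ((T : Subgroup G).Normal ∧ Nat.card G = 12 ∧
      centralizer ((T : Subgroup G) : Set G) = (T : Subgroup G)) ∨
    (¬ (T : Subgroup G).Normal ∧ ∃ (p : ℕ) (_ : Fact p.Prime), (p % 8 = 3 ∨ p % 8 = 5) ∧
      (Nonempty (G ≃* Matrix.ProjectiveSpecialLinearGroup (Fin 2) (ZMod p)) ∨
       Nonempty (G ≃* Matrix.ProjectiveSpecialLinearGroup (Fin 2) (GaloisField p 3)))) := by
  classical
  haveI : Fact (Nat.Prime 2) := ⟨Nat.prime_two⟩
  have h8 : ¬ 8 ∣ Nat.card G := by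
    intro h8
    have h1 := (Nat.prime_two.pow_dvd_iff_le_factorization (k := 3) Nat.card_pos.ne').1 h8
    have h2 := Sylow.card_eq_multiplicity T
    rw [hcard] at h2
    have h3 := Nat.pow_right_injective (le_refl 2) h2
    omega
  by_cases hTn : (T : Subgroup G).Normal
  · rcases normal_case hD hel hcard le_rfl hTn hO with ⟨-, h12, hc, -⟩ | ⟨⟨e⟩⟩ | ⟨⟨e⟩⟩ | ⟨⟨e⟩⟩
    · exact Or.inl ⟨hTn, h12, hc⟩
    all_goals
      exfalso
      apply h8
      rw [Nat.card_congr e.toEquiv]
    · rw [CfsgLib.CGroup.card_affine 3 (by norm_num)]; norm_num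
    · rw [Cfsg.Agent.S4025.card_semiaffine 2 3 (by norm_num)]; norm_num
    · rw [Cfsg.Agent.S4025.card_semiaffine 2 5 (by norm_num)]; norm_num
  refine Or.inr ⟨hTn, ?_⟩
  obtain ⟨M, h⟩ := exists_core hD hel hcard le_rfl hO hTn
  rcases h.list_of_solvable (fun t ht => h.solvable_cM_two ht) with ⟨⟨e⟩⟩ | ⟨⟨e⟩⟩ | h
  · exfalso
    apply h8
    rw [Nat.card_congr e.toEquiv, CfsgLib.CGroup.card_psl_two (by norm_num)]; norm_num
  · exfalso
    apply h8
    rw [Nat.card_congr e.toEquiv, CfsgLib.CGroup.card_mulAut_psl32]; norm_num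
  · exact h

end CfsgLib.EqualOrderE8
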