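import Cfsg.Agent.Lib.EqualOrderE8.Linear
import Cfsg.Agent.Lib.Structure.MinimalNormal
import Cfsg.Agent.Lib.PF.OddOrder

/-!
A non-normal elementary abelian Sylow two-subgroup: the simple minimal normal subgroup, and the group
it induces on the Sylow two-subgroup.
-/

set_option autoImplicit false
set_option linter.unusedSectionVars false
set_option linter.style.haveILetI false

namespace CfsgLib.EqualOrderE8

open Subgroup CfsgLib.Structure

universe u

variable {G : Type u} [Group G] [Finite G] {T : Sylow 2 G}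

/-- A normal simple subgroup of odd index containing the elementary Sylow two-subgroup. -/
structure Core (M : Subgroup G) (T : Sylow 2 G) (n : ℕ) : Prop where
  conj : EqPConj G
  normal : M.Normal
  simple : IsSimpleGroup M
  not_comm : ¬ IsMulCommutative M
  le : (T : Subgroup G) ≤ M
  cent : centralizer (M : Set G) = ⊥
  elem : Cfsg.IsElementaryAbelian 2 (T : Subgroup G)
  card_T : Nat.card (T : Subgroup G) = 2 ^ n
  two_le : 2 ≤ n

theorem exists_core {n : ℕ} (hD : EqPConj G) (hel : Cfsg.IsElementaryAbelian 2 (T : Subgroup G))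
    (hcard : Nat.card (T : Subgroup G) = 2 ^ n) (hn : 2 ≤ n) (hO : Cfsg.oddCore G = ⊥)
    (hTn : ¬ (T : Subgroup G).Normal) : ∃ M : Subgroup G, Core M T n := by
  classical
  haveI : Fact (Nat.Prime 2) := ⟨Nat.prime_two⟩
  haveI : Nontrivial G := by
    by_contra h
    rw [not_nontrivial_iff_subsingleton] at h
    exact hTn (by rw [Subsingleton.elim (T : Subgroup G) ⊤]; infer_instance)
  have key : ∀ N : Subgroup G, IsMinNormal N → (T : Subgroup G) ≤ N := by
    intro N hN
    haveI := hN.normal
    refine hD.sylow_le T hel ?_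
    by_contra h2
    exact hN.ne_bot (le_bot_iff.1 (hO ▸ CfsgLib.PCore.le_pPrimeCore_of_not_dvd hN.normal h2))
  obtain ⟨M, hM⟩ := exists_isMinNormal (G := G)
  haveI := hM.normal
  have hTM := key M hM
  have hna : ¬ IsMulCommutative M := by
    intro hab
    obtain ⟨p, hp, he⟩ := hM.exponent_prime hab
    obtain ⟨t, ht⟩ := exists_prime_orderOf_dvd_card' (G := (T : Subgroup G)) 2
      (by rw [hcard]; exact dvd_pow_self 2 (by omega))
    have htp : orderOf (t : G) ∣ p := orderOf_dvd_of_pow_eq_one (he.2 t (hTM t.2))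
    rw [orderOf_coe, ht] at htp
    obtain rfl : 2 = p := (Nat.prime_dvd_prime_iff_eq Nat.prime_two hp).1 htp
    have hpg : IsPGroup 2 M := fun x => ⟨1, Subtype.ext (by simpa using he.2 x x.2)⟩
    exact hTn ((T.is_maximal' hpg hTM) ▸ hM.normal)
  haveI : Nontrivial M := (nontrivial_iff_ne_bot M).2 hM.ne_bot
  obtain ⟨S, hS⟩ := exists_isMinNormal (G := M)
  have hSs := hM.isSimpleGroup_minNormal hS
  have hall : ∀ A : Subgroup M, IsMinNormal A → ∃ a ∈ A, orderOf (a : G) = 2 := by
    intro A hA
    haveI := hM.isSimpleGroup_minNormal hA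
    have h2 : 2 ∣ Nat.card A := by
      by_contra h2
      haveI := CfsgLib.PF.oddSolvable A (Nat.odd_iff.2 (by omega))
      exact hM.not_isMulCommutative_minNormal hna hA
        ⟨⟨fun a b => IsSimpleGroup.comm_iff_isSolvable.2 inferInstance a b⟩⟩
    obtain ⟨a, ha⟩ := exists_prime_orderOf_dvd_card' (G := A) 2 h2
    exact ⟨a, a.2, by rw [orderOf_coe, orderOf_coe, ha]⟩
  have htop : S = ⊤ := by
    by_contra hne
    obtain ⟨S', hS', hne'⟩ : ∃ S' : Subgroup M, IsMinNormal S' ∧ S' ≠ S := by
      by_contra! hall'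
      exact hne (top_le_iff.1 (hM.socle_eq_top ▸ sSup_le fun A hA => (hall' A hA).le))
    obtain ⟨a, haS, ha⟩ := hall S hS
    obtain ⟨b, hbS', hb⟩ := hall S' hS'
    have hab : Commute (a : G) b := congrArg Subtype.val ((hS.commute hS' (Ne.symm hne')) a haS b hbS').eq
    have hab2 : orderOf ((a : G) * b) = 2 := by
      refine orderOf_eq_prime (by rw [hab.mul_pow, ← ha, pow_orderOf_eq_one, ha, ← hb,
        pow_orderOf_eq_one, one_mul]) fun e => ?_
      have hb' : b = a⁻¹ := eq_inv_of_mul_eq_one_right (Subtype.ext e)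
      have hbb : b ∈ S ⊓ S' := ⟨by rw [hb']; exact S.inv_mem haS, hbS'⟩
      rw [hS.inf_eq_bot hS' (Ne.symm hne'), mem_bot] at hbb
      rw [hbb, OneMemClass.coe_one, orderOf_one] at hb
      omega
    obtain ⟨g, hg⟩ := hD.conj_involution ha hab2
    set A := S.map (conjAut M g).toMonoidHom
    have hA : IsMinNormal A := hS.map_equiv _
    have habA : a * b ∈ A := by
      refine ⟨a, haS, Subtype.ext ?_⟩
      exact (MulAut.conjNormal_apply (H := M) g a).trans hg
    rcases eq_or_ne A S with e | e
    · have hbS : b ∈ S := by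
        have h9 : a * b ∈ S := e ▸ habA
        have h10 := S.mul_mem (S.inv_mem haS) h9
        rwa [inv_mul_cancel_left] at h10
      have hbb : b ∈ S ⊓ S' := ⟨hbS, hbS'⟩
      rw [hS.inf_eq_bot hS' (Ne.symm hne'), mem_bot] at hbb
      rw [hbb, OneMemClass.coe_one, orderOf_one] at hb
      omega
    · have hna' := hM.not_isMulCommutative_minNormal hna hS
      haveI := hSs
      have hcen : (⟨a, haS⟩ : S) ∈ center S := by
        refine mem_center_iff.2 fun x => Subtype.ext ?_
        have h1 : Commute (x : M) (a * b) := hS.commute hA (Ne.symm e) x x.2 _ habA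
        have h2 : Commute (x : M) b := hS.commute hS' (Ne.symm hne') x x.2 b hbS'
        have h3 := h1.mul_right h2.inv_right
        rw [mul_inv_cancel_right] at h3
        exact h3.eq
      rcases IsSimpleGroup.eq_bot_or_eq_top_of_normal (center S) inferInstance with h | h
      · rw [h, mem_bot] at hcen
        rw [show a = 1 from congrArg Subtype.val hcen, OneMemClass.coe_one, orderOf_one] at ha
        omega
      · exact hna' ⟨⟨fun x y => mem_center_iff.1 (h ▸ mem_top y) x⟩⟩
  have hMs : IsSimpleGroup M := by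
    subst htop
    haveI := hSs
    exact IsSimpleGroup.isSimpleGroup_of_surjective
      (Subgroup.topEquiv (G := M)).toMonoidHom (Subgroup.topEquiv (G := M)).surjective
  refine ⟨M, hD, hM.normal, hMs, hna, hTM, ?_, hel, hcard, hn⟩
  by_contra hne
  haveI : (centralizer (M : Set G)).Normal := normal_centralizer
  obtain ⟨N, hN, hNC⟩ := exists_isMinNormal_le (H := centralizer (M : Set G)) inferInstance hne
  haveI := hMs
  rcases IsSimpleGroup.eq_bot_or_eq_top_of_normal (center M) inferInstance with h | h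
  · obtain ⟨t, ht⟩ := exists_prime_orderOf_dvd_card' (G := (T : Subgroup G)) 2
      (by rw [hcard]; exact dvd_pow_self 2 (by omega))
    have htc : (⟨t, hTM t.2⟩ : M) ∈ center M := mem_center_iff.2 fun x =>
      Subtype.ext ((mem_centralizer_iff.1 (hNC (key N hN t.2))) x x.2)
    rw [h, mem_bot] at htc
    have h1 : t = 1 := Subtype.ext (congrArg (fun x : M => (x : G)) htc :)
    rw [h1, orderOf_one] at ht
    omega
  · exact hna ⟨⟨fun x y => mem_center_iff.1 (h ▸ mem_top y) x⟩⟩

namespace Core

variable {M : Subgroup G} {n : ℕ} (h : Core M T n)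
include h

theorem comm {x y : G} (hx : x ∈ (T : Subgroup G)) (hy : y ∈ (T : Subgroup G)) : x * y = y * x :=
  congrArg Subtype.val (h.elem.1.is_comm.comm ⟨x, hx⟩ ⟨y, hy⟩)

theorem involution {x : G} (hx : x ∈ (T : Subgroup G)) (h1 : x ≠ 1) : orderOf x = 2 :=
  haveI : Fact (Nat.Prime 2) := ⟨Nat.prime_two⟩
  orderOf_eq_prime (h.elem.2 x hx) h1

theorem two_dvd_card : 2 ∣ Nat.card M := by
  refine dvd_trans ?_ (card_dvd_of_le h.le)
  rw [h.card_T]
  exact dvd_pow_self 2 (by have := h.two_le; omega)

theorem odd_index : Odd M.index := by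
  haveI : Fact (Nat.Prime 2) := ⟨Nat.prime_two⟩
  rw [← Nat.not_even_iff_odd, even_iff_two_dvd]
  exact fun h2 => T.not_dvd_index (h2.trans (index_dvd_of_le h.le))

theorem mem_of_involution {x : G} (hx : orderOf x = 2) : x ∈ M :=
  haveI := h.normal
  h.conj.mem_of_orderOf Nat.prime_two h.two_dvd_card hx

/-- All two-elements lie in `M`. -/
theorem two_le_M {S : Subgroup G} (hS : IsPGroup 2 S) : S ≤ M := by
  haveI : Fact (Nat.Prime 2) := ⟨Nat.prime_two⟩
  haveI := h.normal
  obtain ⟨g, hg⟩ := CfsgLib.Involutions.exists_conj_le_sylow hS T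
  intro x hx
  have := h.normal.conj_mem _ (h.le (hg _ hx)) g⁻¹
  simpa [mul_assoc] using this

/-- The Sylow two-subgroup of `M`. -/
theorem exists_sylow_M : ∃ TM : Sylow 2 M, (TM : Subgroup M).map M.subtype = (T : Subgroup G) :=
  ⟨T.subtype h.le, map_subgroupOf_eq_of_le h.le⟩

end Core

end CfsgLib.EqualOrderE8
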