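import Cfsg.Agent.Lib.CGroup.Classify
import Cfsg.Agent.Lib.EqualOrderE8.Main
import Cfsg.Agent.Lib.RegLinear.QuatCase
import Cfsg.Agent.S3099
import Cfsg.Agent.Lib.Structure.SLTwoTraceZero

/-!
A quaternion Sylow two-subgroup, for groups without odd core in which `p`-subgroups of equal order
are conjugate.
-/

set_option autoImplicit false
set_option linter.unusedSectionVars false
set_option linter.style.haveILetI false

namespace CfsgLib.EqualOrderE8

open Subgroup

universe u

variable {G : Type u} [Group G] [Finite G]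
/-- A four-group Sylow subgroup of a group of order twelve isomorphic to `A₄` is normal. -/
theorem normal_of_alternating_four (e : G ≃* alternatingGroup (Fin 4)) (S : Sylow 2 G) :
    (S : Subgroup G).Normal := by
  haveI : Fact (Nat.Prime 2) := ⟨Nat.prime_two⟩
  haveI := alternatingGroup.subsingleton_two_sylow (α := Fin 4) (Nat.card_fin 4)
  haveI : Subsingleton (Sylow 2 G) := ⟨fun A B => Sylow.ext (Subgroup.map_injective (f := e.toMonoidHom)
    e.injective (by
      have := Subsingleton.elim (A.mapSurjective (f := e.toMonoidHom) e.surjective)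
        (B.mapSurjective (f := e.toMonoidHom) e.surjective)
      simpa [Sylow.ext_iff] using this))⟩
  exact S.normal_of_subsingleton

/-- `q (q² - 1)` determines `q`. -/
theorem eq_of_sl_order {a b : ℕ} (ha : 2 ≤ a) (hb : 2 ≤ b)
    (h : a * (a ^ 2 - 1) = b * (b ^ 2 - 1)) : a = b := by
  by_contra hne
  rcases Nat.lt_or_ge a b with hlt | hge
  · have h1 : a ^ 2 - 1 < b ^ 2 - 1 := by
      have h2 := Nat.pow_lt_pow_left hlt (show (2 : ℕ) ≠ 0 by norm_num)
      have h3 : 4 ≤ a ^ 2 := by nlinarith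
      omega
    have := Nat.mul_lt_mul'' hlt h1
    omega
  · have hlt : b < a := by omega
    have h1 : b ^ 2 - 1 < a ^ 2 - 1 := by
      have h2 := Nat.pow_lt_pow_left hlt (show (2 : ℕ) ≠ 0 by norm_num)
      have h3 : 4 ≤ b ^ 2 := by nlinarith
      omega
    have := Nat.mul_lt_mul'' hlt h1
    omega

/-- A group of rank one with centre of order two and a simple quotient `PSL₂(q)` is `SL₂(q)`. -/
theorem sl_of_perfect [Group.IsPerfect G] (hO : Cfsg.oddCore G = ⊥) (hr : Cfsg.PRankLE 2 1 G)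
    (h16 : ¬ 16 ∣ Nat.card G) (hZ2 : Nat.card (center G) = 2) {K : Type} [Field K] [Finite K]
    (hodd : Odd (Nat.card K))
    (e : G ⧸ center G ≃* Matrix.ProjectiveSpecialLinearGroup (Fin 2) K) :
    Nonempty (G ≃* Matrix.SpecialLinearGroup (Fin 2) K) := by
  haveI := Fintype.ofFinite K
  have hcardG : Nat.card G = 2 * Nat.card (G ⧸ center G) := by
    rw [← (center G).card_mul_index, hZ2, index_eq_card]
  have heven : Even (Nat.card G) := ⟨_, hcardG.trans (two_mul _)⟩
  let e₀ : G ⧸ Cfsg.oddCore G ≃* G :=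
    (QuotientGroup.quotientMulEquivOfEq hO).trans QuotientGroup.quotientBot
  rcases Cfsg.Agent.S3099.result (X := G) inferInstance hr heven with
    ⟨F, iF, iFt, hFo, hF3, ⟨eF⟩⟩ | ⟨hc2, ⟨e7⟩, -⟩
  · have hK := CfsgLib.PSL2.card_psl (F := K)
    rw [CfsgLib.PSL2.gcd_eq_two (by rwa [Nat.card_eq_fintype_card] at hodd)] at hK
    have h1 : Nat.card G = Fintype.card F * (Fintype.card F ^ 2 - 1) := by
      rw [Nat.card_congr (e₀.symm.trans eF).toEquiv, CfsgLib.GTwoInv.card_SL2]
    rw [hcardG, Nat.card_congr e.toEquiv, hK] at h1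
    have hK' : Fintype.card K * (Fintype.card K ^ 2 - 1) =
        (Fintype.card K + 1) * (Fintype.card K * (Fintype.card K - 1)) := by
      rw [← one_pow 2, Nat.sq_sub_sq, one_pow]; ring
    have h2 : Fintype.card K = Fintype.card F :=
      eq_of_sl_order Fintype.one_lt_card Fintype.one_lt_card (hK'.trans h1)
    let r : F ≃+* K := FiniteField.ringEquivOfCardEq h2.symm
    exact ⟨(e₀.symm.trans eF).trans
      ((Matrix.SpecialLinearGroup.map (n := Fin 2) r.toRingHom).toMulEquiv
        (Matrix.SpecialLinearGroup.map r.symm.toRingHom) (MonoidHom.ext fun x => by ext i j; simp)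
        (MonoidHom.ext fun x => by ext i j; simp))⟩
  · exfalso
    apply h16
    rw [Nat.card_congr e₀.symm.toEquiv, ← (center (G ⧸ Cfsg.oddCore G)).card_mul_index, hc2,
      index_eq_card, Nat.card_congr e7.toEquiv, nat_card_alternatingGroup, Nat.card_fin]
    norm_num [Nat.factorial]


/-- A quaternion Sylow two-subgroup. -/
theorem quaternion_case (hD : EqPConj G) (T : Sylow 2 G)
    (e : (T : Subgroup G) ≃* QuaternionGroup 2) (hO : Cfsg.oddCore G = ⊥) :
    ∃ (p : ℕ) (_ : Fact p.Prime), (p % 8 = 3 ∨ p % 8 = 5) ∧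
      (Nonempty (G ≃* Matrix.SpecialLinearGroup (Fin 2) (ZMod p)) ∨
       Nonempty (G ≃* Matrix.SpecialLinearGroup (Fin 2) (GaloisField p 3))) := by
  classical
  have : Fact (Nat.Prime 2) := ⟨Nat.prime_two⟩
  set Z := center G with hZdef
  have hZ2 : Nat.card Z = 2 := by
    refine Cfsg.Agent.S0201.result T 0 e fun N hN hodd => ?_
    rw [eq_bot_iff, ← hO]
    exact CfsgLib.PCore.le_pPrimeCore hN (Nat.coprime_two_right.2 hodd)
  have hZp : IsPGroup 2 Z := IsPGroup.of_card (n := 1) (by rw [hZ2, pow_one])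
  have hO' : Cfsg.oddCore (G ⧸ Z) = ⊥ := by
    rw [eq_bot_iff]
    intro x hx
    obtain ⟨g, rfl⟩ := QuotientGroup.mk_surjective x
    set O' := (Cfsg.oddCore (G ⧸ Z)).comap (QuotientGroup.mk' Z)
    -- the preimage splits over the centre
    have hZO : Z ≤ O' := fun z hz => by
      refine mem_comap.2 ?_
      rw [QuotientGroup.mk'_apply, (QuotientGroup.eq_one_iff z).2 hz]
      exact one_mem _
    have hcO : Nat.card O' = 2 * Nat.card (Cfsg.oddCore (G ⧸ Z)) := by
      rw [CfsgLib.CGroup.card_comap_quot, hZ2]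
    let ZO : Sylow 2 O' := Sylow.ofCard (Z.subgroupOf O') (by
      rw [Nat.card_congr (subgroupOfEquivOfLe hZO).toEquiv, hZ2, hcO,
        Nat.factorization_mul two_ne_zero Nat.card_pos.ne', Finsupp.add_apply,
        Nat.prime_two.factorization_self,
        Nat.factorization_eq_zero_of_not_dvd CfsgLib.PCore.not_dvd_card_pPrimeCore]
      rfl)
    have hcen : (ZO : Subgroup O') ≤ center O' := fun z hz =>
      mem_center_iff.2 fun k => Subtype.ext (mem_center_iff.1 hz (k : G))
    have h1 := CfsgLib.CGroup.card_eq_of_central_sylow ZO hcen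
    have h2 : Nat.card (ZO : Subgroup O') = 2 := by
      show Nat.card (Z.subgroupOf O') = 2
      rw [Nat.card_congr (subgroupOfEquivOfLe hZO).toEquiv, hZ2]
    rw [hcO, h2] at h1
    haveI : O'.Normal := inferInstance
    have h3 := CfsgLib.PCore.pPrimeCore_eq_bot_of_normal (p := 2) O' hO
    rw [show Nat.card (Cfsg.oddCore O') = 1 by rw [show Cfsg.oddCore O' = ⊥ from h3, card_bot]] at h1
    have h4 : Cfsg.oddCore (G ⧸ Z) = ⊥ := Subgroup.eq_bot_of_card_eq _ (by omega)
    rwa [h4] at hx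
  set f := QuotientGroup.mk' Z with hf
  have hfs : Function.Surjective f := QuotientGroup.mk'_surjective Z
  set Tb : Sylow 2 (G ⧸ Z) := T.mapSurjective hfs with hTb
  have hZT : Z ≤ (T : Subgroup G) := hZp.le_sylow_of_normal T
  have hcardT : Nat.card (T : Subgroup G) = 8 := by
    rw [Nat.card_congr e.toEquiv, Nat.card_eq_fintype_card, QuaternionGroup.card]
  have hker : Nat.card Tb * 2 = 8 := by
    have h1 := CfsgLib.Coprime.card_map_mul_inf_ker f (T : Subgroup G)
    rw [hf, QuotientGroup.ker_mk', inf_eq_left.2 hZT, hZ2, hcardT] at h1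
    exact h1
  have hTb4 : Nat.card (Tb : Subgroup (G ⧸ Z)) = 2 ^ 2 := by norm_num; omega
  have hzT : ∀ a : QuaternionGroup 2, a ^ 2 = 1 ∨ (a ^ 2 = QuaternionGroup.a 2) := by decide
  have hel : Cfsg.IsElementaryAbelian 2 (Tb : Subgroup (G ⧸ Z)) := by
    have hsq : ∀ x ∈ (Tb : Subgroup (G ⧸ Z)), x ^ 2 = 1 := by
      rintro _ ⟨t, ht, rfl⟩
      rw [← map_pow]
      refine (QuotientGroup.eq_one_iff _).2 ?_
      obtain ⟨z, hz, hz1⟩ : ∃ z ∈ Z, z ≠ 1 := by
        haveI : Nontrivial Z := Finite.one_lt_card_iff_nontrivial.1 (by omega)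
        obtain ⟨⟨z, hz⟩, hne⟩ := exists_ne (1 : Z)
        exact ⟨z, hz, fun e => hne (Subtype.ext e)⟩
      rcases hzT (e ⟨t, ht⟩) with h1 | h1
      · have : (⟨t, ht⟩ : (T : Subgroup G)) ^ 2 = 1 := e.injective (by rw [map_pow, h1, map_one])
        rw [show t ^ 2 = 1 from congrArg Subtype.val this]
        exact one_mem _
      · have hzq : e ⟨z, hZT hz⟩ = QuaternionGroup.a 2 := by
          have h2 : e ⟨z, hZT hz⟩ ^ 2 = 1 := by
            have hord : orderOf z ∣ 2 := by
              rw [← hZ2]; exact Subgroup.orderOf_dvd_natCard _ hz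
            rw [← map_pow, show (⟨z, hZT hz⟩ : (T : Subgroup G)) ^ 2 = 1 from
              Subtype.ext (orderOf_dvd_iff_pow_eq_one.1 hord), map_one]
          have hall : ∀ a : QuaternionGroup 2, a ^ 2 = 1 → a = 1 ∨ a = QuaternionGroup.a 2 := by decide
          exact (hall _ h2).resolve_left fun h3 =>
            hz1 (congrArg Subtype.val (e.injective (h3.trans (map_one e).symm)))
        have : (⟨t, ht⟩ : (T : Subgroup G)) ^ 2 = ⟨z, hZT hz⟩ :=
          e.injective (by rw [map_pow, h1, hzq])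
        rw [show t ^ 2 = z from congrArg Subtype.val this]
        exact hz
    refine ⟨⟨⟨fun a b => ?_⟩⟩, hsq⟩
    have key : ∀ x : (Tb : Subgroup (G ⧸ Z)), x⁻¹ = x := fun x =>
      inv_eq_of_mul_eq_one_right (Subtype.ext (by simpa [pow_two] using hsq x x.2))
    calc a * b = (a * b)⁻¹ := (key _).symm
      _ = b * a := by rw [mul_inv_rev, key, key]
  have hcardG : Nat.card G = 2 * Nat.card (G ⧸ Z) := by
    rw [← Z.card_mul_index, hZ2, index_eq_card]
  rcases four_case (hD.quotient Z) hel hTb4 hO' with ⟨hn', h12, hcen⟩ | ⟨hnn, p, hpf, hmod, hp⟩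
  · refine ⟨3, ⟨Nat.prime_three⟩, Or.inl rfl, Or.inl ?_⟩
    haveI hTn : (T : Subgroup G).Normal := by
      have h1 : (T : Subgroup G) = (Tb : Subgroup (G ⧸ Z)).comap f := by
        rw [hTb, Sylow.coe_mapSurjective, comap_map_eq, hf, QuotientGroup.ker_mk', sup_eq_left.2 hZT]
      rw [h1]
      exact hn'.comap f
    refine CfsgLib.RegLinear.sl23_of_quaternion (by rw [hcardG, h12]) (T : Subgroup G) ⟨e⟩ ?_
    intro w hw h3
    have h1 : f w ∈ centralizer ((Tb : Subgroup (G ⧸ Z)) : Set (G ⧸ Z)) := by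
      refine mem_centralizer_iff.2 ?_
      rintro _ ⟨t, ht, rfl⟩
      rw [← map_mul, ← map_mul, mem_centralizer_iff.1 hw t ht]
    rw [hcen] at h1
    obtain ⟨t, ht, hte⟩ := h1
    have hwT : w ∈ (T : Subgroup G) := by
      have h4 : t⁻¹ * w ∈ Z := QuotientGroup.eq.1 hte
      simpa using mul_mem ht (hZT h4)
    have h5 : orderOf w ∣ 8 := hcardT ▸ Subgroup.orderOf_dvd_natCard _ hwT
    exact orderOf_eq_one_iff.1
      (Nat.eq_one_of_dvd_coprimes (by norm_num) (orderOf_dvd_of_pow_eq_one h3) h5)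
  have h16 : ¬ 16 ∣ Nat.card G := by
    intro h16
    have h1 := (Nat.prime_two.pow_dvd_iff_le_factorization (k := 4) Nat.card_pos.ne').1 h16
    have h2 := Sylow.card_eq_multiplicity T
    rw [hcardT, show (8 : ℕ) = 2 ^ 3 from rfl] at h2
    have h3 := Nat.pow_right_injective (le_refl 2) h2
    omega
  have hr : Cfsg.PRankLE 2 1 G := by
    intro A _ hA
    obtain ⟨g, hg⟩ := CfsgLib.Involutions.exists_conj_le_sylow
      (fun a : A => ⟨1, Subtype.ext (by simpa using hA a a.2)⟩) T
    have hq : ∀ q : QuaternionGroup 2, q ^ 2 = 1 → q = 1 ∨ q = QuaternionGroup.a 2 := by decide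
    let φ : A → QuaternionGroup 2 := fun a => e ⟨g * a * g⁻¹, hg a a.2⟩
    have hφ : Function.Injective φ := fun a b h => Subtype.ext (by
      simpa using congrArg Subtype.val (e.injective h))
    have hsub : Set.range φ ⊆ {1, QuaternionGroup.a 2} := by
      rintro _ ⟨a, rfl⟩
      refine hq _ ?_
      show e ⟨g * a * g⁻¹, hg a a.2⟩ ^ 2 = 1
      rw [← map_pow, show (⟨g * a * g⁻¹, hg a a.2⟩ : (T : Subgroup G)) ^ 2 = 1 from
        Subtype.ext (by simpa [conj_pow, pow_two] using hA a a.2), map_one]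
    have h1 := Set.ncard_le_ncard hsub (Set.toFinite _)
    rw [Set.ncard_pair (by decide), Set.ncard_range_of_injective hφ] at h1
    simpa using h1
  -- the field
  obtain ⟨K, iK, iKf, hK5, hKo, ⟨eK⟩, hlift⟩ : ∃ (K : Type) (_ : Field K) (_ : Finite K),
      5 ≤ Nat.card K ∧ Odd (Nat.card K) ∧
      Nonempty (G ⧸ Z ≃* Matrix.ProjectiveSpecialLinearGroup (Fin 2) K) ∧
      (Nonempty (G ≃* Matrix.SpecialLinearGroup (Fin 2) K) →
        Nonempty (G ≃* Matrix.SpecialLinearGroup (Fin 2) (ZMod p)) ∨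
        Nonempty (G ≃* Matrix.SpecialLinearGroup (Fin 2) (GaloisField p 3))) := by
    have hp2 : Odd p := Nat.odd_iff.2 (by omega)
    rcases hp with ⟨⟨eb⟩⟩ | ⟨⟨eb⟩⟩
    · refine ⟨ZMod p, inferInstance, inferInstance, ?_, by rwa [Nat.card_zmod], ⟨eb⟩, Or.inl⟩
      rw [Nat.card_zmod]
      by_contra hlt
      obtain rfl : p = 3 := by omega
      obtain ⟨a⟩ := CfsgLib.ClassicalGroups.psl_two_three_alternating (K := ZMod 3) (ZMod.card 3)
      exact hnn (normal_of_alternating_four (eb.trans a) Tb)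
    · refine ⟨GaloisField p 3, inferInstance, inferInstance, ?_, ?_, ⟨eb⟩, Or.inr⟩
      · rw [GaloisField.card p 3 (by norm_num)]
        have := Nat.pow_le_pow_left (show 3 ≤ p by omega) 3
        omega
      · rw [GaloisField.card p 3 (by norm_num)]
        exact hp2.pow
  haveI := Fintype.ofFinite K
  haveI hsimple : IsSimpleGroup (Matrix.ProjectiveSpecialLinearGroup (Fin 2) K) :=
    Matrix.ProjectiveSpecialLinearGroup.rank_two_simple (F := K) (by omega)
  haveI : Nontrivial (G ⧸ Z) := eK.toEquiv.nontrivial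
  haveI : IsSimpleGroup (G ⧸ Z) :=
    IsSimpleGroup.isSimpleGroup_of_surjective eK.symm.toMonoidHom eK.symm.surjective
  have hmap : (commutator G).map f = ⊤ := by
    have h1 : (commutator G).map f = commutator (G ⧸ Z) := by
      rw [commutator_def, Subgroup.map_commutator, Subgroup.map_top_of_surjective f hfs,
        ← commutator_def]
    rcases IsSimpleGroup.eq_bot_or_eq_top_of_normal (commutator (G ⧸ Z)) inferInstance with h | h
    · refine absurd ?_ hnn
      refine ⟨fun n hn x => ?_⟩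
      have hc : x * n * x⁻¹ * n⁻¹ ∈ commutator (G ⧸ Z) :=
        commutator_mem_commutator (mem_top x) (mem_top n)
      rw [h, mem_bot, mul_inv_eq_one] at hc
      rwa [hc]
    · rw [h1, h]
  have hZG : Z ≤ commutator G := by
    set x : G := ((e.symm (QuaternionGroup.a 1) : (T : Subgroup G)) : G)
    obtain ⟨a, ha, hax⟩ : f x ∈ (commutator G).map f := by rw [hmap]; exact mem_top _
    have hz : a⁻¹ * x ∈ Z := QuotientGroup.eq.1 hax
    have hz2 : (a⁻¹ * x) ^ 2 = 1 :=
      orderOf_dvd_iff_pow_eq_one.1 ((Subgroup.orderOf_dvd_natCard _ hz).trans hZ2.dvd)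
    have hxa : x ^ 2 = a ^ 2 := by
      have hc : Commute a (a⁻¹ * x) := (mem_center_iff.1 hz a)
      have h1 := hc.mul_pow 2
      rwa [mul_inv_cancel_left, hz2, mul_one] at h1
    have hx2Z : x ^ 2 ∈ Z := by
      rcases hzT (QuaternionGroup.a 1) with h | h
      · exact absurd h (by decide)
      · obtain ⟨z, hzZ, hz1⟩ : ∃ z ∈ Z, z ≠ 1 := by
          haveI : Nontrivial Z := Finite.one_lt_card_iff_nontrivial.1 (by omega)
          obtain ⟨⟨z, hz⟩, hne⟩ := exists_ne (1 : Z)
          exact ⟨z, hz, fun e => hne (Subtype.ext e)⟩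
        have hall : ∀ q : QuaternionGroup 2, q ^ 2 = 1 → q = 1 ∨ q = QuaternionGroup.a 2 := by decide
        have h2 : e ⟨z, hZT hzZ⟩ ^ 2 = 1 := by
          rw [← map_pow, show (⟨z, hZT hzZ⟩ : (T : Subgroup G)) ^ 2 = 1 from
            Subtype.ext (orderOf_dvd_iff_pow_eq_one.1 ((Subgroup.orderOf_dvd_natCard _ hzZ).trans hZ2.dvd)),
            map_one]
        rcases hall _ h2 with h3 | h3
        · exact absurd (congrArg Subtype.val (e.injective (h3.trans (map_one e).symm))) hz1
        · have h4 : (e.symm (QuaternionGroup.a 1)) ^ 2 = (⟨z, hZT hzZ⟩ : (T : Subgroup G)) := by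
            rw [← map_pow, h, ← h3, e.symm_apply_apply]
          rw [show x ^ 2 = z from congrArg Subtype.val h4]
          exact hzZ
    have hx2 : x ^ 2 ≠ 1 := by
      intro h1
      have h2 : (e.symm (QuaternionGroup.a 1)) ^ 2 = 1 := Subtype.ext h1
      rw [← map_pow, ← map_one e.symm] at h2
      have h9 : (QuaternionGroup.a 1 : QuaternionGroup 2) ^ 2 ≠ 1 := by decide
      exact h9 (e.symm.injective h2)
    have hZx : zpowers (x ^ 2) = Z := by
      refine eq_of_le_of_card_ge (zpowers_le.2 hx2Z) ?_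
      have h1 : orderOf (x ^ 2) ∣ 2 := (Subgroup.orderOf_dvd_natCard _ hx2Z).trans hZ2.dvd
      rcases (Nat.dvd_prime Nat.prime_two).1 h1 with h | h
      · exact absurd (orderOf_eq_one_iff.1 h) hx2
      · rw [Nat.card_zpowers, h, hZ2]
    rw [← hZx, zpowers_le, hxa]
    exact pow_mem ha 2
  haveI : Group.IsPerfect G := by
    refine ⟨?_⟩
    have h1 := congrArg (Subgroup.comap f) hmap
    rwa [comap_map_eq, hf, QuotientGroup.ker_mk', sup_eq_left.2 hZG, comap_top] at h1
  exact ⟨p, hpf, hmod, hlift (sl_of_perfect hO hr h16 hZ2 hKo eK)⟩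

end CfsgLib.EqualOrderE8
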