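import Cfsg.Agent.Lib.EqualOrderE8.Auto
import Cfsg.Agent.Lib.SylTwoAbel.Reduce
import Cfsg.Agent.Lib.Walter.RankFour.Good

/-!
An elementary Sylow two-subgroup of order 32: the centralisers of involutions in the simple
subgroup are solvable.
-/

set_option autoImplicit false
set_option linter.unusedSectionVars false
set_option linter.style.haveILetI false

namespace CfsgLib.EqualOrderE8

open Subgroup
open CfsgLib.StrongEmbedding.ElementaryCentralizers (normT)

universe u

/-! ### General facts -/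

/-- Solvability of a centraliser does not depend on the choice in the conjugacy class. -/
theorem isSolvable_centralizer_conj {X : Type u} [Group X] (g a : X)
    (h : Group.IsSolvable (centralizer ({a} : Set X))) :
    Group.IsSolvable (centralizer ({g * a * g⁻¹} : Set X)) := by
  haveI := h
  refine Group.isSolvable_of_surjective (f := ((MulAut.conj g).toMonoidHom.comp
    (centralizer ({a} : Set X)).subtype).codRestrict (centralizer ({g * a * g⁻¹} : Set X)) fun x => ?_) ?_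
  · rw [mem_centralizer_singleton_iff]
    show g * x * g⁻¹ * (g * a * g⁻¹) = g * a * g⁻¹ * (g * x * g⁻¹)
    calc g * x * g⁻¹ * (g * a * g⁻¹) = g * (x * a) * g⁻¹ := by group
      _ = g * (a * x) * g⁻¹ := by rw [mem_centralizer_singleton_iff.1 x.2]
      _ = g * a * g⁻¹ * (g * x * g⁻¹) := by group
  · rintro ⟨y, hy⟩
    rw [mem_centralizer_singleton_iff] at hy
    refine ⟨⟨g⁻¹ * y * g, ?_⟩, Subtype.ext ?_⟩
    · rw [mem_centralizer_singleton_iff]
      calc g⁻¹ * y * g * a = g⁻¹ * (y * (g * a * g⁻¹)) * g := by group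
        _ = g⁻¹ * (g * a * g⁻¹ * y) * g := by rw [hy]
        _ = a * (g⁻¹ * y * g) := by group
    · show g * (g⁻¹ * y * g) * g⁻¹ = y
      group

theorem conj_pow_succ {X : Type u} [Group X] (g a : X) (i : ℕ) :
    g ^ (i + 1) * a * (g ^ (i + 1))⁻¹ = g ^ i * (g * a * g⁻¹) * (g ^ i)⁻¹ := by
  rw [pow_succ, mul_inv_rev]
  simp only [mul_assoc]

/-- A group with a normal two-complement is solvable. -/
theorem isSolvable_of_two_complement {X : Type u} [Group X] [Finite X]
    (h : Cfsg.HasNormalPComplement 2 X) : Group.IsSolvable X := by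
  haveI : Fact (Nat.Prime 2) := ⟨Nat.prime_two⟩
  obtain ⟨P, K, hK, hc⟩ := h
  haveI := hK
  have hodd : Odd (Nat.card K) := by
    rw [← Nat.not_even_iff_odd, even_iff_two_dvd]
    intro h2
    have h1 := hc.index_eq_card
    exact P.not_dvd_index (h1 ▸ h2)
  haveI : Group.IsSolvable K := @CfsgLib.PF.oddSolvable.{u} K _ _ hodd
  haveI : Group.IsSolvable (X ⧸ K) := by
    have hp : IsPGroup 2 (X ⧸ K) := by
      obtain ⟨k, hk⟩ := IsPGroup.iff_card.1 P.isPGroup'
      exact IsPGroup.of_card (n := k) (by rw [← index_eq_card, hc.symm.index_eq_card, hk])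
    haveI := hp.isNilpotent
    infer_instance
  exact Group.isSolvable_of_ker_le_range K.subtype (QuotientGroup.mk' K)
    (by rw [QuotientGroup.ker_mk', range_subtype])

/-- Centralisers of involutions in a quotient by an odd normal subgroup. -/
theorem isSolvable_centralizer_odd_quot {X : Type u} [Group X] [Finite X] {O : Subgroup X} [O.Normal]
    (hO : Odd (Nat.card O)) (hC : ∀ t : X, orderOf t = 2 → Group.IsSolvable (centralizer ({t} : Set X)))
    {t : X ⧸ O} (ht : orderOf t = 2) : Group.IsSolvable (centralizer ({t} : Set (X ⧸ O))) := by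
  haveI : Fact (Nat.Prime 2) := ⟨Nat.prime_two⟩
  obtain ⟨g, hg, rfl⟩ := CfsgLib.SylTwoAbel.exists_involution_lift hO ht
  haveI := hC g hg
  set π := QuotientGroup.mk' O
  have hP : IsPGroup 2 (zpowers g) :=
    IsPGroup.of_card (n := 1) (by rw [Nat.card_zpowers, hg, pow_one])
  have hle : centralizer ({π g} : Set (X ⧸ O)) ≤ (centralizer ({g} : Set X)).map π := by
    intro x hx
    obtain ⟨y, rfl⟩ := QuotientGroup.mk'_surjective O x
    obtain ⟨m, hm, hmy⟩ := CfsgLib.PLocal.exists_mul_mem_centralizer (Nat.coprime_two_right.2 hO) hP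
      (x := y) (by
        refine mem_centralizer_iff.2 ?_
        rintro _ ⟨w, hw, rfl⟩
        obtain ⟨i, rfl⟩ := mem_zpowers_iff.1 hw
        rw [map_zpow]
        have hc : Commute (π y) (π g) := mem_centralizer_singleton_iff.1 hx
        exact (hc.zpow_right i).eq.symm)
    refine ⟨m * y, mem_centralizer_singleton_iff.2
      (mem_centralizer_iff.1 hmy g (mem_zpowers g)).symm, ?_⟩
    rw [map_mul, show π m = 1 from (QuotientGroup.eq_one_iff m).2 hm, one_mul]
  haveI : Group.IsSolvable ((centralizer ({g} : Set X)).map π) :=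
    Group.isSolvable_of_surjective (MonoidHom.subgroupMap_surjective π _)
  exact Group.isSolvable_of_isSolvable_injective (inclusion_injective hle)

/-- No group with a transitive cycle on the involutions of a four-group or larger has all of its
normalising elements of exponent five. -/
theorem false_of_cycle {X : Type u} [Group X] [Finite X] {P : Subgroup X} (hP : IsPGroup 2 P)
    (h4 : 4 ≤ Nat.card P) {g : X} (hmemP : ∀ x ∈ P, g * x * g⁻¹ ∈ P) (hfix : ∀ x ∈ P, g ^ 5 * x = x * g ^ 5)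
    (hcyc : ∀ x ∈ P, x ≠ 1 → ∀ y ∈ P, y ≠ 1 → ∃ i : ℕ, g ^ i * x * (g ^ i)⁻¹ = y) : False := by
  classical
  haveI : Fact (Nat.Prime 2) := ⟨Nat.prime_two⟩
  haveI : Nontrivial P := Finite.one_lt_card_iff_nontrivial.1 (by omega)
  obtain ⟨⟨x, hxP⟩, hx⟩ := exists_ne (1 : P)
  have hx1 : x ≠ 1 := fun e => hx (Subtype.ext e)
  set S := centralizer ({x} : Set X) with hS
  have h5 : g ^ 5 ∈ S := mem_centralizer_singleton_iff.2 (hfix x hxP)
  have hg : g ∉ S := by
    intro hg
    have hsub : (P : Set X) ⊆ {1, x} := by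
      intro y hy
      by_cases h1 : y = 1
      · exact Or.inl h1
      · obtain ⟨i, hi⟩ := hcyc x hxP hx1 y hy h1
        rw [mem_centralizer_singleton_iff.1 (pow_mem hg i), mul_inv_cancel_right] at hi
        exact Or.inr hi.symm
    have := (Set.ncard_le_ncard hsub (Set.toFinite _)).trans (Set.ncard_insert_le _ _)
    rw [Set.ncard_singleton, ← Nat.card_coe_set_eq] at this
    change Nat.card P ≤ 1 + 1 at this
    omega
  -- the orbit has at most five points
  have hper : ∀ i : ℕ, g ^ i * x * (g ^ i)⁻¹ = g ^ (i % 5) * x * (g ^ (i % 5))⁻¹ := by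
    intro i
    have hc : (g ^ 5) ^ (i / 5) * x = x * (g ^ 5) ^ (i / 5) :=
      mem_centralizer_singleton_iff.1 (pow_mem h5 _)
    conv_lhs => rw [← Nat.mod_add_div i 5, pow_add, pow_mul, mul_inv_rev]
    calc g ^ (i % 5) * (g ^ 5) ^ (i / 5) * x * (((g ^ 5) ^ (i / 5))⁻¹ * (g ^ (i % 5))⁻¹)
        = g ^ (i % 5) * ((g ^ 5) ^ (i / 5) * x) * ((g ^ 5) ^ (i / 5))⁻¹ * (g ^ (i % 5))⁻¹ := by group
      _ = _ := by rw [hc]; group
  have hsub : (P : Set X) ⊆ insert (1 : X) (Set.range fun i : Fin 5 => g ^ (i : ℕ) * x * (g ^ (i : ℕ))⁻¹) := by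
    intro y hy
    by_cases h1 : y = 1
    · exact Or.inl h1
    · obtain ⟨i, hi⟩ := hcyc x hxP hx1 y hy h1
      exact Or.inr ⟨⟨i % 5, Nat.mod_lt _ (by norm_num)⟩, (hper i).symm.trans hi⟩
  -- the five points are distinct
  have hinj : Function.Injective fun i : Fin 5 => g ^ (i : ℕ) * x * (g ^ (i : ℕ))⁻¹ := by
    have key : ∀ d : ℕ, 0 < d → d < 5 → g ^ d ∉ S := by
      intro d h0 hd hdS
      apply hg
      interval_cases d
      · simpa using hdS
      · have : g = g ^ 5 * ((g ^ 2) ^ 2)⁻¹ := by group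
        rw [this]; exact mul_mem h5 (inv_mem (pow_mem hdS 2))
      · have : g = (g ^ 3) ^ 2 * (g ^ 5)⁻¹ := by group
        rw [this]; exact mul_mem (pow_mem hdS 2) (inv_mem h5)
      · have : g = g ^ 5 * (g ^ 4)⁻¹ := by group
        rw [this]; exact mul_mem h5 (inv_mem hdS)
    have hne : ∀ i j : ℕ, i < j → j < 5 → g ^ i * x * (g ^ i)⁻¹ ≠ g ^ j * x * (g ^ j)⁻¹ := by
      intro i j hij hj e
      obtain ⟨d, rfl⟩ : ∃ d, j = i + d := ⟨j - i, by omega⟩
      refine key d (by omega) (by omega) (mem_centralizer_singleton_iff.2 ?_)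
      rw [pow_add, mul_inv_rev] at e
      have e2 : x = g ^ d * x * (g ^ d)⁻¹ := by
        have := congrArg (fun z => (g ^ i)⁻¹ * z * g ^ i) e
        simp only [mul_assoc] at this
        simpa [mul_assoc] using this
      calc g ^ d * x = g ^ d * x * (g ^ d)⁻¹ * g ^ d := by group
        _ = x * g ^ d := by rw [← e2]
    intro i j e
    rcases lt_trichotomy (i : ℕ) j with h | h | h
    · exact absurd e (hne _ _ h j.2)
    · exact Fin.ext h
    · exact absurd e.symm (hne _ _ h i.2)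
  have hle := (Set.ncard_le_ncard hsub (Set.toFinite _)).trans (Set.ncard_insert_le _ _)
  rw [Set.ncard_range_of_injective hinj, Nat.card_fin, ← Nat.card_coe_set_eq] at hle
  have hge : 6 ≤ Nat.card P := by
    have hmem : ∀ i : ℕ, g ^ i * x * (g ^ i)⁻¹ ∈ P := by
      intro i
      induction i with
      | zero => simpa using hxP
      | succ i ih =>
        rw [pow_succ', mul_inv_rev, show g * g ^ i * x * ((g ^ i)⁻¹ * g⁻¹) =
          g * (g ^ i * x * (g ^ i)⁻¹) * g⁻¹ by group]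
        exact hmemP _ ih
    have hsub' : insert (1 : X) (Set.range fun i : Fin 5 => g ^ (i : ℕ) * x * (g ^ (i : ℕ))⁻¹) ⊆
        (P : Set X) := Set.insert_subset (one_mem P) (by rintro _ ⟨i, rfl⟩; exact hmem _)
    have h1 := Set.ncard_le_ncard hsub' (Set.toFinite _)
    rw [Set.ncard_insert_of_notMem ?_ (Set.toFinite _), Set.ncard_range_of_injective hinj, Nat.card_fin,
      ← Nat.card_coe_set_eq] at h1
    · exact h1
    · rintro ⟨i, hi⟩
      exact hx1 (conj_eq_one_iff.1 hi)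
  change Nat.card P ≤ 5 + 1 at hle
  obtain ⟨k, hk⟩ := IsPGroup.iff_card.1 hP
  rw [hk] at hle hge
  rcases Nat.lt_or_ge k 3 with h | h
  · have := Nat.pow_le_pow_right two_pos (show k ≤ 2 by omega)
    omega
  · have := Nat.pow_le_pow_right two_pos h
    omega

/-! ### The centraliser of an involution, order 32 -/

variable {G : Type u} [Group G] [Finite G] {T : Sylow 2 G} {M : Subgroup G}

theorem Core.autData_five (h : Core M T 5) : AutData T 5 31 5 := by
  rcases index_cases h.conj h.elem h.card_T h.two_le with ⟨e, -⟩ | ⟨e, -⟩ | ⟨-, e⟩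
  · omega
  · omega
  · exact ⟨by norm_num, by norm_num, by rw [e]; norm_num, by rw [e],
      Or.inr ⟨by norm_num, by norm_num, by norm_num⟩⟩

/-- An element of the normaliser fixing two involutions centralises `T`. -/
theorem Core.fix_pair (h : Core M T 5) {t x g : G} (ht : t ∈ (T : Subgroup G)) (ht1 : t ≠ 1)
    (hx : x ∈ (T : Subgroup G)) (hx1 : x ≠ 1) (hne : x ≠ t) (hg : g ∈ normT T)
    (hgt : g * t = t * g) (hgx : g * x = x * g) :
    ∀ y ∈ (T : Subgroup G), g * y = y * g := by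
  classical
  haveI : Fact (Nat.Prime 5) := ⟨by norm_num⟩
  haveI : Fact (Nat.Prime 2) := ⟨Nat.prime_two⟩
  set ψ := (T : Subgroup G).normalizerMonoidHom
  set s := ψ ⟨g, hg⟩ with hs
  have hs5 : s ^ 5 = 1 := by
    rw [hs, ← map_pow]
    refine MonoidHom.mem_ker.1 ?_
    rw [normalizerMonoidHom_ker]
    refine mem_subgroupOf.2 (mem_centralizer_iff.2 fun y hy => ?_)
    simpa using (h.pow_stab h.autData_five ht ht1 hg hgt y hy).symm
  have hR : IsPGroup 5 (zpowers s) := by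
    rintro ⟨r, hr⟩
    obtain ⟨i, rfl⟩ := mem_zpowers_iff.1 hr
    refine ⟨1, Subtype.ext ?_⟩
    rw [SubgroupClass.coe_pow, pow_one, ← zpow_natCast, ← zpow_mul, mul_comm, zpow_mul,
      zpow_natCast, hs5, one_zpow]
    rfl
  let F : Subgroup (T : Subgroup G) := (s : MulAut (T : Subgroup G)).toMonoidHom.eqLocus (MonoidHom.id _)
  have hmod := hR.card_modEq_card_fixedPoints (T : Subgroup G)
  have hfix : Nat.card (MulAction.fixedPoints (zpowers s) (T : Subgroup G)) = Nat.card F := by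
    refine Nat.card_congr (Equiv.subtypeEquivRight fun y => ⟨fun h' => ?_, fun h' => ?_⟩)
    · exact h' ⟨s, mem_zpowers s⟩
    · rintro ⟨r, hr⟩
      have h1 : s ∈ MulAction.stabilizer (MulAut (T : Subgroup G)) y := h'
      exact (zpowers_le.2 h1) hr
  obtain ⟨k, hk⟩ := IsPGroup.iff_card.1 (T.isPGroup'.to_subgroup F)
  have hmemF : ∀ z, ∀ hz : z ∈ (T : Subgroup G), g * z = z * g → (⟨z, hz⟩ : (T : Subgroup G)) ∈ F :=
    fun z hz e => Subtype.ext (show g * z * g⁻¹ = z by rw [e, mul_inv_cancel_right])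
  have h3 : 3 ≤ Nat.card F := by
    have hsub : ({1, ⟨t, ht⟩, ⟨x, hx⟩} : Set (T : Subgroup G)) ⊆ (F : Set (T : Subgroup G)) := by
      rintro z (rfl | rfl | rfl)
      exacts [one_mem F, hmemF t ht hgt, hmemF x hx hgx]
    have h1 := Set.ncard_le_ncard hsub (Set.toFinite _)
    rw [Set.ncard_eq_three.2 ⟨_, _, _, fun e => ht1 (congrArg Subtype.val e).symm,
      fun e => hx1 (congrArg Subtype.val e).symm, fun e => hne (congrArg Subtype.val e).symm, rfl⟩,
      ← Nat.card_coe_set_eq] at h1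
    exact h1
  rw [hfix, h.card_T, hk] at hmod
  have hk5 : k ≤ 5 := by
    have h1 : Nat.card F ∣ Nat.card (T : Subgroup G) := F.card_subgroup_dvd_card
    rw [hk, h.card_T, Nat.pow_dvd_pow_iff_le_right (by norm_num)] at h1
    exact h1
  rw [hk] at h3
  have hFtop : F = ⊤ := Subgroup.eq_top_of_card_eq _ (by
    rw [hk, h.card_T]
    rw [Nat.ModEq] at hmod
    interval_cases k <;> first | rfl | omega)
  intro y hy
  have h1 : (⟨y, hy⟩ : (T : Subgroup G)) ∈ F := hFtop ▸ mem_top _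
  have h2 : g * y * g⁻¹ = y := congrArg Subtype.val h1
  exact mul_inv_eq_iff_eq_mul.1 h2

/-- The centraliser of two involutions is solvable. -/
theorem Core.solvable_pair (h : Core M T 5) {t x : G} (ht : t ∈ (T : Subgroup G)) (ht1 : t ≠ 1)
    (hx : x ∈ (T : Subgroup G)) (hx1 : x ≠ 1) (hne : x ≠ t) :
    Group.IsSolvable ↥(cM M t ⊓ centralizer ({x} : Set G)) := by
  haveI : Fact (Nat.Prime 2) := ⟨Nat.prime_two⟩
  set Y := cM M t ⊓ centralizer ({x} : Set G)
  have hTY : (T : Subgroup G) ≤ Y := fun y hy =>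
    ⟨mem_cM.2 ⟨h.le hy, h.comm hy ht⟩, mem_centralizer_singleton_iff.2 (h.comm hy hx)⟩
  refine isSolvable_of_two_complement
    (CfsgLib.Transfer.hasNormalPComplement_of_normalizer_le (T.subtype hTY) fun g hg => ?_)
  have hgN : (g : G) ∈ normT T := CfsgLib.Coprime.mem_normalizer_of_forall_conj fun z hz =>
    (mem_normalizer_iff.1 hg ⟨z, hTY hz⟩).1 hz
  refine mem_centralizer_iff.2 fun z hz => Subtype.ext ?_
  exact (h.fix_pair ht ht1 hx hx1 hne hgN (mem_cM.1 g.2.1).2
    (mem_centralizer_singleton_iff.1 g.2.2) z hz).symm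

theorem Core.solvable_cent_five_mem (h : Core M T 5) {t : G} (ht : t ∈ (T : Subgroup G)) (ht1 : t ≠ 1) :
    Group.IsSolvable (cM M t) := by
  classical
  haveI : Fact (Nat.Prime 2) := ⟨Nat.prime_two⟩
  set C := cM M t
  have hTC : (T : Subgroup G) ≤ C := fun y hy => mem_cM.2 ⟨h.le hy, h.comm hy ht⟩
  set TC : Sylow 2 C := T.subtype hTC
  have hTCc : ∀ a ∈ (TC : Subgroup C), ∀ b ∈ (TC : Subgroup C), a * b = b * a :=
    fun a ha b hb => Subtype.ext (h.comm ha hb)
  set t' : C := ⟨t, hTC ht⟩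
  have ht' : ∀ c : C, Commute t' c := fun c => Subtype.ext (mem_cM.1 c.2).2.symm
  set K := zpowers t'
  haveI hKn : K.Normal := ⟨fun k hk g => by
    obtain ⟨i, rfl⟩ := mem_zpowers_iff.1 hk
    rw [← ((ht' g).zpow_left i).eq, mul_inv_cancel_right]
    exact zpow_mem_zpowers t' i⟩
  have ht'2 : t' ^ 2 = 1 := Subtype.ext (h.elem.2 t ht)
  have hKmem : ∀ c : C, c ∈ K → (c : G) = 1 ∨ (c : G) = t := by
    rintro c ⟨i, rfl⟩
    rcases Int.even_or_odd' i with ⟨j, rfl | rfl⟩
    · left; simp [zpow_mul, ht'2]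
    · right; simp [zpow_add_one, zpow_mul, ht'2, t']
  have hKsol : Group.IsSolvable K := Group.isSolvable_of_comm fun a b => Subtype.ext (by
    obtain ⟨i, hi⟩ := mem_zpowers_iff.1 a.2
    show (a : C) * b = b * a
    rw [← hi]
    exact (ht' b).zpow_left i)
  by_contra hns
  set q := QuotientGroup.mk' K
  -- involutions of `C ⧸ ⟨t⟩` have solvable centralisers
  have hCb : ∀ z : C ⧸ K, orderOf z = 2 → Group.IsSolvable (centralizer ({z} : Set (C ⧸ K))) := by
    intro z hz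
    obtain ⟨x, rfl⟩ := QuotientGroup.mk'_surjective K z
    have hx2 : x ^ 2 ∈ K := (QuotientGroup.eq_one_iff _).1 (by
      rw [← QuotientGroup.mk'_apply, map_pow, ← hz, pow_orderOf_eq_one])
    have hxp : IsPGroup 2 (zpowers x) := by
      have hx4 : x ^ 4 = 1 := by
        rw [show (4 : ℕ) = 2 * 2 from rfl, pow_mul]
        rcases hKmem _ hx2 with e | e
        · rw [show x ^ 2 = 1 from Subtype.ext e, one_pow]
        · rw [show x ^ 2 = t' from Subtype.ext e, ht'2]
      obtain ⟨k, -, hk⟩ := (Nat.dvd_prime_pow Nat.prime_two).1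
        (show orderOf x ∣ 2 ^ 2 from orderOf_dvd_of_pow_eq_one hx4)
      exact IsPGroup.of_card (n := k) (by rw [Nat.card_zpowers, hk])
    obtain ⟨g, hg⟩ := CfsgLib.Involutions.exists_conj_le_sylow hxp TC
    set y := g * x * g⁻¹
    have hy : y ∈ (TC : Subgroup C) := hg x (mem_zpowers x)
    have hyK : y ∉ K := fun hyK => by
      have h1 : x ∈ K := by simpa [y, mul_assoc] using hKn.conj_mem y hyK g⁻¹
      rw [show q x = 1 from (QuotientGroup.eq_one_iff x).2 h1, orderOf_one] at hz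
      omega
    suffices hsy : Group.IsSolvable (centralizer ({q y} : Set (C ⧸ K))) by
      have h1 := isSolvable_centralizer_conj (q g)⁻¹ (q y) hsy
      rwa [show (q g)⁻¹ * q y * (q g)⁻¹⁻¹ = q x by simp [y, mul_assoc]] at h1
    set D := (centralizer ({q y} : Set (C ⧸ K))).comap q
    have hD : ∀ d : D, (d : C) * y * (d : C)⁻¹ * y⁻¹ ∈ K := fun d => by
      refine (QuotientGroup.eq_one_iff _).1 ?_
      have hd : q d * q y = q y * q d := mem_centralizer_singleton_iff.1 d.2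
      show q _ = 1
      simp only [map_mul, map_inv]
      rw [hd, mul_inv_cancel_right, mul_inv_cancel]
    let φ : D →* K := MonoidHom.mk' (fun d => ⟨_, hD d⟩) fun a b => Subtype.ext (by
      obtain ⟨i, hi⟩ := mem_zpowers_iff.1 (hD b)
      have hc : Commute ((b : C) * y * (b : C)⁻¹ * y⁻¹) (a : C) := hi ▸ (ht' a).zpow_left i
      show ((a : C) * b) * y * ((a : C) * b)⁻¹ * y⁻¹ =
        ((a : C) * y * (a : C)⁻¹ * y⁻¹) * ((b : C) * y * (b : C)⁻¹ * y⁻¹)
      have hc2 : Commute ((b : C) * y * (b : C)⁻¹ * y⁻¹) ((a : C) * y * (a : C)⁻¹ * y⁻¹) :=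
        ((hc.mul_right (hi ▸ (ht' y).zpow_left i)).mul_right hc.inv_right).mul_right
          (hi ▸ (ht' y⁻¹).zpow_left i)
      rw [← hc2.eq]
      calc ((a : C) * b) * y * ((a : C) * b)⁻¹ * y⁻¹
          = (a : C) * ((b : C) * y * (b : C)⁻¹ * y⁻¹) * y * (a : C)⁻¹ * y⁻¹ := by group
        _ = ((b : C) * y * (b : C)⁻¹ * y⁻¹) * (a : C) * y * (a : C)⁻¹ * y⁻¹ := by rw [hc.symm.eq]
        _ = _ := by group)
    haveI : Group.IsSolvable φ.ker := by
      haveI := h.solvable_pair ht ht1 (x := ((y : C) : G)) hy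
        (fun e => hyK (by rw [show y = 1 from Subtype.ext e]; exact one_mem K))
        (fun e => hyK (by rw [show y = t' from Subtype.ext e]; exact mem_zpowers t'))
      refine Group.isSolvable_of_isSolvable_injective (f := (C.subtype.comp (D.subtype.comp
        φ.ker.subtype)).codRestrict (cM M t ⊓ centralizer ({((y : C) : G)} : Set G)) fun d => ?_) ?_
      · refine ⟨((d : D) : C).2, mem_centralizer_singleton_iff.2 ?_⟩
        have h1 : ((d : D) : C) * y * ((d : D) : C)⁻¹ * y⁻¹ = 1 :=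
          congrArg Subtype.val (MonoidHom.mem_ker.1 d.2)
        rw [mul_inv_eq_one, mul_inv_eq_iff_eq_mul] at h1
        exact congrArg Subtype.val h1
      · intro a b e
        exact Subtype.ext (Subtype.ext (Subtype.ext (congrArg Subtype.val e :)))
    haveI : Group.IsSolvable K := hKsol
    haveI : Group.IsSolvable D := Group.isSolvable_of_ker_le_range φ.ker.subtype φ
      (by rw [range_subtype])
    refine Group.isSolvable_of_surjective (f := (q.comp D.subtype).codRestrict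
      (centralizer ({q y} : Set (C ⧸ K))) fun d => d.2) ?_
    rintro ⟨z, hz⟩
    obtain ⟨c, rfl⟩ := QuotientGroup.mk'_surjective K z
    exact ⟨⟨c, hz⟩, Subtype.ext rfl⟩
  -- the quotient by the odd core
  set O := Cfsg.oddCore (C ⧸ K)
  have hOodd : Odd (Nat.card O) := Nat.coprime_two_right.1 CfsgLib.PCore.pPrimeCore_coprime
  set π : C →* (C ⧸ K) ⧸ O := (QuotientGroup.mk' O).comp q
  have hπ : Function.Surjective π :=
    (QuotientGroup.mk'_surjective O).comp (QuotientGroup.mk'_surjective K)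
  set Sb : Sylow 2 ((C ⧸ K) ⧸ O) := TC.mapSurjective hπ
  have hSb : ∀ a ∈ (Sb : Subgroup ((C ⧸ K) ⧸ O)), ∀ b ∈ (Sb : Subgroup ((C ⧸ K) ⧸ O)), a * b = b * a := by
    rintro _ ⟨a, ha, rfl⟩ _ ⟨b, hb, rfl⟩
    rw [← map_mul, ← map_mul, hTCc a ha b hb]
  have hnsQ : ¬ Group.IsSolvable ((C ⧸ K) ⧸ O) := by
    intro hs
    haveI := hs
    haveI : Group.IsSolvable O := @CfsgLib.PF.oddSolvable.{u} O _ _ hOodd
    haveI : Group.IsSolvable (C ⧸ K) := Group.isSolvable_of_ker_le_range O.subtype (QuotientGroup.mk' O)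
      (by rw [QuotientGroup.ker_mk', range_subtype])
    haveI : Group.IsSolvable K := hKsol
    exact hns (Group.isSolvable_of_ker_le_range K.subtype q
      (by rw [QuotientGroup.ker_mk', range_subtype]))
  have hCQ := fun z (hz : orderOf z = 2) => isSolvable_centralizer_odd_quot hOodd hCb hz
  obtain ⟨N, hNn, hNs, hNns, -⟩ := CfsgLib.SylTwoAbel.exists_simple_normal Sb hSb hCQ hnsQ
    CfsgLib.PCore.pPrimeCore_quotient_pPrimeCore
  haveI := hNn
  haveI := hNs
  obtain ⟨P⟩ : Nonempty (Sylow 2 N) := inferInstance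
  set P0 := (P : Subgroup N).map N.subtype with hP0
  obtain ⟨S, hS⟩ := (P.isPGroup'.map N.subtype).exists_le_sylow
  obtain ⟨w, hw⟩ := MulAction.exists_smul_eq ((C ⧸ K) ⧸ O) Sb S
  have hwS : ∀ a, a ∈ (S : Subgroup ((C ⧸ K) ⧸ O)) → w⁻¹ * a * w ∈ (Sb : Subgroup ((C ⧸ K) ⧸ O)) := by
    intro a ha
    rw [← hw, Sylow.coe_subgroup_smul] at ha
    obtain ⟨b, hb, rfl⟩ := ha
    show w⁻¹ * (w * b * w⁻¹) * w ∈ _
    rw [show w⁻¹ * (w * b * w⁻¹) * w = b by group]
    exact hb
  have hwS' : ∀ b ∈ (Sb : Subgroup ((C ⧸ K) ⧸ O)), w * b * w⁻¹ ∈ (S : Subgroup ((C ⧸ K) ⧸ O)) := by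
    intro b hb
    rw [← hw, Sylow.coe_subgroup_smul]
    exact ⟨b, hb, rfl⟩
  have hSc : ∀ a ∈ (S : Subgroup ((C ⧸ K) ⧸ O)), ∀ b ∈ (S : Subgroup ((C ⧸ K) ⧸ O)), a * b = b * a := by
    intro a ha b hb
    have e := hSb _ (hwS a ha) _ (hwS b hb)
    have := congrArg (fun z => w * z * w⁻¹) e
    simpa [mul_assoc] using this
  have hgood : CfsgLib.Walter.RankFour.Good N := by
    refine CfsgLib.Walter.RankFour.good_of_solvable ?_ P ?_ fun z hz => ?_
    · exact fun hc => hNns (Group.isSolvable_of_comm fun a b => hc.is_comm.comm a b)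
    · exact fun a ha b hb => Subtype.ext (hSc _ (hS ⟨a, ha, rfl⟩) _ (hS ⟨b, hb, rfl⟩))
    · haveI := hCQ z (by rw [orderOf_coe, hz])
      refine Group.isSolvable_of_isSolvable_injective
        (f := (N.subtype.comp (centralizer ({z} : Set N)).subtype).codRestrict
          (centralizer ({(z : (C ⧸ K) ⧸ O)} : Set ((C ⧸ K) ⧸ O))) fun c =>
            mem_centralizer_singleton_iff.2
              (congrArg Subtype.val (mem_centralizer_singleton_iff.1 c.2))) ?_
      intro a b e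
      exact Subtype.ext (Subtype.ext (congrArg Subtype.val e :))
  obtain ⟨h4, g, hgN, hcyc⟩ := hgood.exists_cycle P
  have hP0c : Nat.card P0 = Nat.card (P : Subgroup N) := card_map_of_injective N.subtype_injective
  have hgP : ∀ a ∈ P0, (g : (C ⧸ K) ⧸ O) * a * (g : (C ⧸ K) ⧸ O)⁻¹ ∈ P0 := by
    rintro _ ⟨a, ha, rfl⟩
    exact ⟨g * a * g⁻¹, (mem_normalizer_iff.1 hgN a).1 ha, rfl⟩
  -- an element of the normaliser of `S` acting in the same way on `P0`
  obtain ⟨z, hzS, hz⟩ : ∃ z ∈ normalizer ((S : Subgroup ((C ⧸ K) ⧸ O)) : Set ((C ⧸ K) ⧸ O)),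
      ∀ a ∈ P0, z * a * z⁻¹ = (g : (C ⧸ K) ⧸ O) * a * (g : (C ⧸ K) ⧸ O)⁻¹ := by
    set Z := centralizer (P0 : Set ((C ⧸ K) ⧸ O))
    have h1 : (S : Subgroup ((C ⧸ K) ⧸ O)) ≤ Z := fun a ha => mem_centralizer_iff.2 fun b hb =>
      hSc b (hS hb) a ha
    have h2 : (((g : (C ⧸ K) ⧸ O) • S : Sylow 2 ((C ⧸ K) ⧸ O)) : Subgroup ((C ⧸ K) ⧸ O)) ≤ Z := by
      intro a ha
      rw [Sylow.coe_subgroup_smul] at ha
      obtain ⟨b, hb, rfl⟩ := ha
      refine mem_centralizer_iff.2 fun c hc => ?_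
      show c * ((g : (C ⧸ K) ⧸ O) * b * (g : (C ⧸ K) ⧸ O)⁻¹) =
        ((g : (C ⧸ K) ⧸ O) * b * (g : (C ⧸ K) ⧸ O)⁻¹) * c
      obtain ⟨c0, hc0, rfl⟩ : ∃ c0 ∈ P0, (g : (C ⧸ K) ⧸ O) * c0 * (g : (C ⧸ K) ⧸ O)⁻¹ = c := by
        have hgi : g⁻¹ ∈ normalizer ((P : Subgroup N) : Set N) := inv_mem hgN
        obtain ⟨c1, hc1, rfl⟩ := hc
        exact ⟨_, ⟨g⁻¹ * c1 * g⁻¹⁻¹, (mem_normalizer_iff.1 hgi c1).1 hc1, rfl⟩, by simp [mul_assoc]⟩
      have e := hSc c0 (hS hc0) b hb
      simp only [mul_assoc, inv_mul_cancel_left]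
      rw [← mul_assoc c0, e, mul_assoc]
    obtain ⟨c, hc⟩ := MulAction.exists_smul_eq Z (((g : (C ⧸ K) ⧸ O) • S).subtype h2) (S.subtype h1)
    rw [Sylow.smul_subtype] at hc
    have hc' : (c : (C ⧸ K) ⧸ O) • ((g : (C ⧸ K) ⧸ O) • S) = S := Sylow.subtype_injective hc
    refine ⟨c * g, Sylow.smul_eq_iff_mem_normalizer.1 (by rw [mul_smul, hc']), fun a ha => ?_⟩
    have hcc := mem_centralizer_iff.1 c.2 _ (hgP a ha)
    calc (c : (C ⧸ K) ⧸ O) * g * a * ((c : (C ⧸ K) ⧸ O) * g)⁻¹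
        = c * ((g : (C ⧸ K) ⧸ O) * a * (g : (C ⧸ K) ⧸ O)⁻¹) * (c : (C ⧸ K) ⧸ O)⁻¹ := by group
      _ = (g : (C ⧸ K) ⧸ O) * a * (g : (C ⧸ K) ⧸ O)⁻¹ := by rw [← hcc, mul_inv_cancel_right]
  -- normalisers of `Sb` have exponent five on it
  have key : ∀ v ∈ normalizer ((Sb : Subgroup ((C ⧸ K) ⧸ O)) : Set ((C ⧸ K) ⧸ O)),
      ∀ b ∈ (Sb : Subgroup ((C ⧸ K) ⧸ O)), v ^ 5 * b = b * v ^ 5 := by
    intro v hv
    obtain ⟨c, rfl⟩ := hπ v
    set K' := (Sb : Subgroup ((C ⧸ K) ⧸ O)).comap π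
    have h1 : (TC : Subgroup C) ≤ K' := fun a ha => ⟨a, ha, rfl⟩
    have h2 : ((c • TC : Sylow 2 C) : Subgroup C) ≤ K' := by
      intro a ha
      rw [Sylow.coe_subgroup_smul] at ha
      obtain ⟨b, hb, rfl⟩ := ha
      rw [mem_comap]
      show π (c * b * c⁻¹) ∈ _
      rw [map_mul, map_mul, map_inv]
      exact (mem_normalizer_iff.1 hv (π b)).1 ⟨b, hb, rfl⟩
    obtain ⟨k, hk⟩ := MulAction.exists_smul_eq K' ((c • TC).subtype h2) (TC.subtype h1)
    rw [Sylow.smul_subtype] at hk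
    have hk' : (k : C) • (c • TC) = TC := Sylow.subtype_injective hk
    set m := (k : C) * c
    have hm : m ∈ normalizer ((TC : Subgroup C) : Set C) :=
      Sylow.smul_eq_iff_mem_normalizer.1 (by rw [mul_smul, hk'])
    have hkS : π k ∈ (Sb : Subgroup ((C ⧸ K) ⧸ O)) := k.2
    have hpow : ∀ i : ℕ, ∀ b ∈ (Sb : Subgroup ((C ⧸ K) ⧸ O)),
        (π m) ^ i * b * ((π m) ^ i)⁻¹ = (π c) ^ i * b * ((π c) ^ i)⁻¹ := by
      intro i
      induction i with
      | zero => simp
      | succ i ih =>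
        intro b hb
        have hb' : π c * b * (π c)⁻¹ ∈ (Sb : Subgroup ((C ⧸ K) ⧸ O)) :=
          (mem_normalizer_iff.1 hv b).1 hb
        have e1 : π m * b * (π m)⁻¹ = π c * b * (π c)⁻¹ := by
          rw [map_mul]
          calc π k * π c * b * (π k * π c)⁻¹ = π k * (π c * b * (π c)⁻¹) * (π k)⁻¹ := by group
            _ = _ := by rw [hSb _ hkS _ hb', mul_inv_cancel_right]
        rw [conj_pow_succ, conj_pow_succ, e1, ih _ hb']
    have hmN : (m : G) ∈ normT T := CfsgLib.Coprime.mem_normalizer_of_forall_conj fun a ha =>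
      (mem_normalizer_iff.1 hm ⟨a, hTC ha⟩).1 ha
    rintro _ ⟨b, hb, rfl⟩
    have hmb : m ^ 5 * b = b * m ^ 5 := Subtype.ext (by
      simpa using h.pow_stab h.autData_five ht ht1 hmN (mem_cM.1 m.2).2 (b : G) hb)
    have e := hpow 5 (π b) ⟨b, hb, rfl⟩
    rw [← map_pow, ← map_mul, hmb, map_mul, map_pow, mul_inv_cancel_right] at e
    exact mul_inv_eq_iff_eq_mul.1 e.symm
  have hz5 : ∀ a ∈ (S : Subgroup ((C ⧸ K) ⧸ O)), z ^ 5 * a = a * z ^ 5 := by
    intro a ha
    have hv : w⁻¹ * z * w ∈ normalizer ((Sb : Subgroup ((C ⧸ K) ⧸ O)) : Set ((C ⧸ K) ⧸ O)) := by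
      refine CfsgLib.Coprime.mem_normalizer_of_forall_conj fun b hb => ?_
      have h1 := hwS _ ((mem_normalizer_iff.1 hzS _).1 (hwS' b hb))
      rw [show w⁻¹ * z * w * b * (w⁻¹ * z * w)⁻¹ = w⁻¹ * (z * (w * b * w⁻¹) * z⁻¹) * w by group]
      exact h1
    have e := key _ hv _ (hwS a ha)
    have e5 : (w⁻¹ * z * w) ^ 5 = w⁻¹ * z ^ 5 * w := by
      have h2 := map_pow (MulAut.conj w⁻¹) z 5
      simpa using h2.symm
    rw [e5] at e
    have := congrArg (fun z => w * z * w⁻¹) e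
    simpa [mul_assoc] using this
  have hpowP : ∀ i : ℕ, ∀ a ∈ P0, (g : (C ⧸ K) ⧸ O) ^ i * a * ((g : (C ⧸ K) ⧸ O) ^ i)⁻¹ =
      z ^ i * a * (z ^ i)⁻¹ := by
    intro i
    induction i with
    | zero => simp
    | succ i ih =>
      intro a ha
      rw [conj_pow_succ, conj_pow_succ, ih _ (hgP a ha), hz a ha]
  refine false_of_cycle (P := (P : Subgroup N)) P.isPGroup' h4
    (fun a ha => (mem_normalizer_iff.1 hgN a).1 ha) (g := g) (fun a ha => ?_) hcyc
  have h1 := hpowP 5 (a : (C ⧸ K) ⧸ O) ⟨a, ha, rfl⟩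
  rw [hz5 (a : (C ⧸ K) ⧸ O) (hS ⟨a, ha, rfl⟩), mul_inv_cancel_right] at h1
  apply Subtype.ext
  simpa using mul_inv_eq_iff_eq_mul.1 h1

/-- The centraliser of an involution in `M` is solvable. -/
theorem Core.solvable_cent_five (h : Core M T 5) {t : G} (ht : orderOf t = 2) :
    Group.IsSolvable (cM M t) := by
  haveI : Fact (Nat.Prime 2) := ⟨Nat.prime_two⟩
  haveI := h.normal
  obtain ⟨g, hg⟩ := CfsgLib.Involutions.exists_conj_le_sylow
    (isPGroup_zpowers (p := 2) (x := t) (k := 1) (by rw [ht, pow_one])) T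
  have hs : g * t * g⁻¹ ∈ (T : Subgroup G) := hg t (mem_zpowers t)
  haveI := h.solvable_cent_five_mem hs fun e => by
    rw [conj_eq_one_iff] at e
    rw [e, orderOf_one] at ht
    omega
  refine Group.isSolvable_of_isSolvable_injective
    (f := ((MulAut.conj g).toMonoidHom.comp (cM M t).subtype).codRestrict
      (cM M (g * t * g⁻¹)) fun c => conj_mem_cM c.2) ?_
  intro a b e
  exact Subtype.ext ((MulAut.conj g).injective (congrArg Subtype.val e :))

end CfsgLib.EqualOrderE8
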